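import Cfsg.Agent.FS.N.R.AU

/-!
# The box `BoxAG` (helper35, project FS, folder FS/N/R)
-/

set_option autoImplicit false
set_option linter.unusedSectionVars false

namespace Cfsg.Agent.FS.N.R.AG

open Cfsg Cfsg.FusionSystem Cfsg.Agent.H752 Cfsg.Agent.H802 Cfsg.Agent.FS.Th Cfsg.Agent.FS.Real

section Grp

variable {G : Type} [Group G] [Finite G] {H V : Subgroup G} {τ : G}

theorem comm_of_sq (h : ∀ y ∈ V, y * y = 1) {x y : G} (hx : x ∈ V) (hy : y ∈ V) : x * y = y * x := by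
  rw [eq_inv_of_mul_eq_one_left (h _ (V.mul_mem hx hy)), mul_inv_rev, ← eq_inv_of_mul_eq_one_left (h x hx),
    ← eq_inv_of_mul_eq_one_left (h y hy)]

theorem card_mod (t3 : τ ^ 3 = 1) (hV : ∀ v ∈ V, τ * v * τ⁻¹ ∈ V) (fpf : ∀ y ∈ V, τ * y = y * τ → y = 1) :
    3 ∣ Nat.card V - 1 := by
  by_contra h
  obtain ⟨x, hx, h1⟩ := exists_fixed_of_iterate ((V : Set G) \ {1}) (fun v => τ * v * τ⁻¹)
    (fun x hx => ⟨hV x hx.1, fun h1 => hx.2 (conj_eq_one_iff.1 h1)⟩) (k := 1) Nat.prime_three (fun x _ => by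
      show τ * (τ * (τ * x * τ⁻¹) * τ⁻¹) * τ⁻¹ = x
      rw [show τ * (τ * (τ * x * τ⁻¹) * τ⁻¹) * τ⁻¹ = τ ^ 3 * x * (τ ^ 3)⁻¹ by
        simp only [pow_succ, pow_zero, one_mul, mul_inv_rev, mul_assoc], t3, one_mul, inv_one, mul_one]) (by
      rwa [Nat.card_coe_set_eq, Set.ncard_diff_singleton_of_mem V.one_mem])
  exact hx.2 (fpf x hx.1 (mul_inv_eq_iff_eq_mul.1 h1))

theorem cj_mem {g x : G} (hg : g ∈ Subgroup.normalizer (H : Set G)) (hx : x ∈ H) : g * x * g⁻¹ ∈ H :=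
  (Subgroup.mem_normalizer_iff.1 hg x).1 hx

theorem zc_conj {g z : G} (hg : g ∈ Subgroup.normalizer (H : Set G)) (hz : z ∈ zc H) : g * z * g⁻¹ ∈ zc H :=
  ⟨cj_mem hg hz.1, fun y hy => by
    have h := hz.2 _ (cj_mem (Subgroup.inv_mem _ hg) hy)
    calc y * (g * z * g⁻¹) = g * (g⁻¹ * y * g⁻¹⁻¹ * z) * g⁻¹ := by group
      _ = g * z * g⁻¹ * y := by rw [h]; group⟩

theorem tau_keep (ut : UT H) (tn : τ ∈ Subgroup.normalizer (H : Set G)) (t3 : τ ^ 3 = 1) {x : G} (hx : x ∈ H)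
    (h1 : x ∉ zc H) (h2 : x * x = 1) {y : G} (hy : y ∈ H) (h3 : x * y = y * x) :
    x * (τ * y * τ⁻¹) = τ * y * τ⁻¹ * x := by
  have h4 : ∀ a b : G, a * b = b * a → τ * a * τ⁻¹ * (τ * b * τ⁻¹) = τ * b * τ⁻¹ * (τ * a * τ⁻¹) := fun a b h => by
    rw [conj_mul, conj_mul, h]
  have h5 : ∀ a : G, a * a = 1 → τ * a * τ⁻¹ * (τ * a * τ⁻¹) = 1 := fun a h => by rw [conj_mul, h, mul_one, mul_inv_cancel]
  have h6 : τ * (τ * (τ * x * τ⁻¹) * τ⁻¹) * τ⁻¹ = x := by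
    rw [show τ * (τ * (τ * x * τ⁻¹) * τ⁻¹) * τ⁻¹ = τ ^ 3 * x * (τ ^ 3)⁻¹ by
      simp only [pow_succ, pow_zero, one_mul, mul_inv_rev, mul_assoc], t3, one_mul, inv_one, mul_one]
  have h7 : τ * x * τ⁻¹ * x = x * (τ * x * τ⁻¹) := by
    rcases ut.three x hx _ (cj_mem tn hx) _ (cj_mem tn (cj_mem tn hx)) h2 (h5 x h2) (h5 _ (h5 x h2)) with h | h | h
    · exact h.symm
    · have h8 := h4 _ _ (h4 _ _ h)
      rw [h6] at h8
      exact h8.symm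
    · have h8 := h4 _ _ h
      rwa [h6] at h8
  have h8 := (ut.cen _ (cj_mem tn hx) (fun h => h1 (by
    have h9 := zc_conj tn (zc_conj tn h)
    rwa [h6] at h9)) (h5 x h2)).2
  exact comm_of_sq (V := H ⊓ Subgroup.centralizer {τ * x * τ⁻¹})
    (fun z hz => h8 z hz.1 (Subgroup.mem_centralizer_singleton_iff.1 hz.2).symm)
    ⟨hx, Subgroup.mem_centralizer_singleton_iff.2 h7.symm⟩
    ⟨cj_mem tn hy, Subgroup.mem_centralizer_singleton_iff.2 (h4 _ _ h3.symm)⟩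

theorem tri (ut : UT H) (tn : τ ∈ Subgroup.normalizer (H : Set G)) (t3 : τ ^ 3 = 1)
    (fpf : ∀ y ∈ H, τ * y = y * τ → y = 1) (hV : V ≤ H) (h1 : Nat.card V ∣ 2 ^ 4) (h2 : ∀ v ∈ V, τ * v * τ⁻¹ ∈ V)
    (h3 : ∀ u ∈ H, ∀ v ∈ V, u * v * u⁻¹ ∈ V) : V = ⊥ ∨ V = zc H ∨ Nat.card V = 16 := by
  have h4 := card_mod t3 h2 fun y hy => fpf y (hV hy)
  have h5 := card_mod (V := V ⊓ zc H) t3 (fun v hv => ⟨h2 v hv.1, zc_conj tn hv.2⟩) fun y hy => fpf y (hV hy.1)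
  have h6 : Nat.card ↥(V ⊓ zc H) ∣ 2 ^ 2 := (Subgroup.card_dvd_of_le inf_le_right).trans ut.cardZ.dvd
  obtain ⟨i, hi, h7⟩ := (Nat.dvd_prime_pow Nat.prime_two).1 h1
  obtain ⟨j, hj, h8⟩ := (Nat.dvd_prime_pow Nat.prime_two).1 h6
  by_cases h9 : j = 0
  · rw [h9, pow_zero, Subgroup.card_eq_one] at h8
    have h10 : V ≤ zc H := fun v hv => ⟨hV hv, fun u hu => mul_inv_eq_iff_eq_mul.1 (mul_inv_eq_one.1 (Subgroup.mem_bot.1
      (h8.le ⟨V.mul_mem (h3 u hu v hv) (V.inv_mem hv), ut.cl2 u hu v (hV hv)⟩)))⟩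
    exact .inl ((inf_eq_left.2 h10).symm.trans h8)
  have h10 : Nat.card ↥(V ⊓ zc H) = 4 := by
    rw [h8] at h5 ⊢
    interval_cases j <;> omega
  have h11 : V ⊓ zc H = zc H := Subgroup.eq_of_le_of_card_ge inf_le_right (by rw [h10, ut.cardZ])
  have h12 := Subgroup.card_le_of_le (inf_le_left : V ⊓ zc H ≤ V)
  by_cases h13 : i = 4
  · exact .inr (.inr (by rw [h7, h13]; rfl))
  refine .inr (.inl ((Subgroup.eq_of_le_of_card_ge inf_le_left ?_).symm.trans h11))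
  rw [h10]
  rw [h7] at h4 ⊢
  interval_cases i <;> omega

end Grp

variable {A G : Type} [Group A] [Finite A] [Group G] [Finite G] {F F' : Sys A} {P Q U R : Subgroup A} {f : A →* G}
  {τ : G} {D : Subgroup (MulAut P)} {a b : A → A}

theorem zc_keep (hb : Mp F P b) (h : ∀ x ∈ P, b x ∈ P) {z : A} (hz : z ∈ zc P) : b z ∈ zc P :=
  ⟨h z hz.1, fun y hy => by
    obtain ⟨x, hx, rfl⟩ := hb.surj h hy
    rw [← hb.mul hx hz.1, ← hb.mul hz.1 hx, hz.2 x hx]⟩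

/-- the chain `1 ≤ R ≤ P ⊓ U ≤ P` -/
def ch3 (R U P : Subgroup A) : ℕ → Subgroup A
  | 0 => ⊥
  | 1 => R
  | 2 => P ⊓ U
  | _ + 3 => P

variable (h : Agr F F' U R f τ)
include h

theorem ker (x : A) : f x = 1 ↔ x ∈ R := h.fac.ker x (Subgroup.mem_top x)

theorem scR : F.StronglyClosed R := H759.IsNormal.stronglyClosed h.nR

theorem cjU (g : A) {u : A} (hu : u ∈ U) : g * u * g⁻¹ ∈ U := H759.StronglyClosed.conj_mem h.sc (Subgroup.mem_top g) hu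

theorem mem_of_map (hQ : R ≤ Q) {y : A} (hy : f y ∈ Q.map f) : y ∈ Q := by
  obtain ⟨x, hx, h1⟩ := hy
  exact (Q.mul_mem_cancel_left (Q.inv_mem hx)).1 (hQ ((ker h _).1 (by rw [map_mul, map_inv, h1, inv_mul_cancel])))

theorem self_cen (h1 : R ≤ Q) (h2 : Q ≤ U) (h3 : Nat.card (Q.map f) = 16) (h4 : ∀ y ∈ Q.map f, y * y = 1) {c : A}
    (hc : ∀ q ∈ Q, q * c = c * q) : c ∈ Q := by
  have h5 : ∀ y ∈ Q.map f, f c * y = y * f c := by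
    rintro _ ⟨q, hq, rfl⟩
    rw [← map_mul, ← map_mul, hc q hq]
  by_cases hU : c ∈ U
  · obtain ⟨x, hx, h6⟩ : ∃ x ∈ Q.map f, x ∉ zc (U.map f) := SetLike.not_le_iff_exists.1 fun h6 => by
      have h7 := Subgroup.card_le_of_le h6
      rw [h3, h.ut.cardZ] at h7
      omega
    have h7 : Q.map f = U.map f ⊓ Subgroup.centralizer {x} := Subgroup.eq_of_le_of_card_ge
      (fun y hy => ⟨Subgroup.map_mono h2 hy, Subgroup.mem_centralizer_singleton_iff.2 (comm_of_sq h4 hy hx)⟩)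
      (by rw [h3, (h.ut.cen x (Subgroup.map_mono h2 hx) h6 (h4 x hx)).1])
    exact mem_of_map h h1 (h7.ge ⟨⟨c, hU, rfl⟩, Subgroup.mem_centralizer_singleton_iff.2 (h5 x hx)⟩)
  · have h6 : Q.map f = ⊥ := (Subgroup.eq_bot_iff_forall _).2 fun x hx => by
      obtain ⟨y, hy, h6⟩ := h.h1 _ (Subgroup.map_mono h2) h3 h4 c hU
        (fun x hx => by rwa [h5 x hx, mul_inv_cancel_right]) x hx (h5 x hx)
      rw [h6, h5 y hy, mul_inv_cancel_right, mul_inv_cancel]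
    rw [h6, Subgroup.card_bot] at h3
    omega

variable (hA : IsPGroup 2 A) (hf : Failure F 2 (Mp F') P D)
include hf

omit h in
theorem bad : ∃ α ∈ F.autGroup P, ¬ Mp F' P (fn α) :=
  let ⟨α, h1, h2⟩ := SetLike.not_le_iff_exists.1 hf.not_le
  ⟨α, h1, fun h3 => h2 ((hf.mem α).2 ⟨h1, h3⟩)⟩

theorem nPU : ¬ P ≤ U := fun h1 =>
  let ⟨_, h2, h3⟩ := bad hf
  h3 ((h.low P _ h1).1 (mp_fn le_top h2))

theorem nUP : ¬ U ≤ P := fun h1 =>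
  let ⟨_, h2, h3⟩ := bad hf
  h3 (h.high P _ h1 (mp_fn le_top h2))

theorem RP : R ≤ P := by
  by_contra h1
  obtain ⟨α, h2, h3⟩ := bad hf
  obtain ⟨g, hg, h4, -⟩ := H758.normal_ext h.nR (mp_fn le_top h2)
  exact h3 (((hf.big _ g hg (card_lt (left_lt_sup.2 h1))).res le_sup_left).congr fun x hx => (h4 x hx).symm)

theorem mulU {x y : A} (hx : x ∉ U) (hy : y ∉ U) : x * y ∈ U := by
  rcases (Nat.dvd_prime Nat.prime_two).1 h.idx with h1 | h1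
  · exact absurd (Subgroup.index_eq_one.1 h1 ▸ le_top) (nPU h hf)
  · exact (Subgroup.mul_mem_iff_of_index_two h1).2 (iff_of_false hx hy)

include hA

theorem cen {u : A} (hu : u ∈ U) (h1 : ∀ y ∈ P ⊓ U, f y * f u = f u * f y) : u ∈ P := by
  have : Fact (Nat.Prime 2) := ⟨Nat.prime_two⟩
  by_contra h2
  obtain ⟨x, ⟨h3, h4⟩, h5, h6⟩ := exists_norm hA (P := P)
    (X := U ⊓ (Subgroup.centralizer (((P ⊓ U).map f : Subgroup G) : Set G)).comap f) (fun p hp x hx => ⟨cjU h p hx.1, by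
      rintro _ ⟨y, hy, rfl⟩
      have h3 : f (p⁻¹ * y * p⁻¹⁻¹) * f x = f x * f (p⁻¹ * y * p⁻¹⁻¹) := hx.2 _ ⟨_, ⟨P.mul_mem (P.mul_mem (P.inv_mem hp) hy.1)
        (P.inv_mem (P.inv_mem hp)), cjU h _ hy.2⟩, rfl⟩
      simp only [map_mul, map_inv] at h3 ⊢
      calc f y * (f p * f x * (f p)⁻¹) = f p * ((f p)⁻¹ * f y * (f p)⁻¹⁻¹ * f x) * (f p)⁻¹ := by group
        _ = _ := by rw [h3]; group⟩) fun h3 => h2 (h3 ⟨hu, by
      rintro _ ⟨y, hy, rfl⟩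
      exact h1 y hy⟩)
  obtain ⟨α, h7, h8⟩ := SetLike.not_le_iff_exists.1 hf.not_le
  have h9 := mp_fn le_top h7
  have h10 := RP h hf
  refine h5 ((hf.ctx (hA.to_subgroup ⊤) h.sat).mem_of_chain h7 h8 (Subgroup.mem_top x) (K := ch3 R U P) (m := 3)
    (fun i => ?_) rfl (nonGen_bot P) (fun i y hy => ?_) (fun i y hy => ?_) fun i hi y hy => ?_)
  · rcases i with _ | _ | _ | i
    exacts [bot_le, h10, inf_le_left, le_rfl]
  · rcases i with _ | _ | _ | i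
    · replace hy : y ∈ (⊥ : Subgroup A) := hy
      exact Subgroup.mem_bot.2 (by rw [Subgroup.mem_bot.1 hy, h9.one])
    · exact mp_mem_of_stronglyClosed (scR h) h9 (h10 hy) hy
    · exact ⟨fn_mem α hy.1, mp_mem_of_stronglyClosed h.sc h9 hy.1 hy.2⟩
    · exact fn_mem α hy
  · rcases i with _ | _ | _ | i
    · replace hy : y ∈ (⊥ : Subgroup A) := hy
      exact Subgroup.mem_bot.2 (by rw [Subgroup.mem_bot.1 hy, mul_one, mul_inv_cancel])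
    · exact H759.StronglyClosed.conj_mem (scR h) (Subgroup.mem_top x) hy
    · exact ⟨h6 y hy.1, cjU h x hy.2⟩
    · exact h6 y hy
  · rcases i with _ | _ | _ | i
    · exact Subgroup.mem_bot.2 (by rw [h.comm x h3 y hy, mul_inv_cancel_right, mul_inv_cancel])
    · refine (ker h _).1 ?_
      have h11 : f y * f x = f x * f y := h4 _ ⟨y, hy, rfl⟩
      rw [map_mul, map_mul, map_mul, map_inv, map_inv, ← h11, mul_inv_cancel_right, mul_inv_cancel]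
    · refine ⟨P.mul_mem (h6 y hy) (P.inv_mem hy), ?_⟩
      rw [mul_assoc, mul_assoc, ← mul_assoc y]
      exact U.mul_mem h3 (cjU h y (U.inv_mem h3))
    · omega

theorem zc_le : zc (U.map f) ≤ (P ⊓ U).map f := by
  rintro _ ⟨⟨u, hu, rfl⟩, h1⟩
  exact ⟨u, ⟨cen h hA hf hu fun y hy => h1 _ ⟨y, hy.2, rfl⟩, hu⟩, rfl⟩

theorem keep {α : MulAut P} (hα : α ∈ F.autGroup P)
    (h1 : ∀ x ∈ P, f x ∈ zc (U.map f) → f (fn α x) ∈ zc (U.map f)) : α ∈ D := by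
  have : Fact (Nat.Prime 2) := ⟨Nat.prime_two⟩
  have ha := mp_fn le_top hα
  have hc := hf.ctx (hA.to_subgroup ⊤) h.sat
  obtain ⟨g, hg⟩ := h.fac.down P _ ha
  have h2 := h.nz g fun z hz => by
    obtain ⟨u, hu, rfl⟩ := zc_le h hA hf hz
    exact hg u hu.1 ▸ h1 u hu.1 hz
  obtain ⟨u, hu, h3, h4⟩ := exists_norm hA (fun p _ x hx => cjU h p hx) (nUP h hf)
  obtain ⟨v, hv, h5⟩ := cj_mem h2 (⟨u, hu, rfl⟩ : f u ∈ U.map f)
  obtain ⟨s, hs⟩ := conj_of_mod hA h.sat (scR h) (ker h) hc.fn (RP h hf) ha (fun x hx => fn_mem α hx) h4 (v := v)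
    (fun x hx => by
      rw [hg _ (h4 x hx), map_mul, map_mul, map_mul, map_mul, map_inv, map_inv, hg x hx, h5]
      group) (h.comm u hu) (h.comm v hv)
  obtain ⟨γ, hγ⟩ := exists_conjAut (Subgroup.mem_normalizer_fintype h4)
  refine hc.mem_of_conj hα (Subgroup.mem_top u) h3 hγ (hc.autS_le (fun he => h3 (he ▸ Subgroup.mem_top u))
    (conj_mem_autInducedBy (Subgroup.mem_top s) fun x => ?_))
  have h6 := hs _ (α⁻¹ x).2
  rw [fn_apply α (h4 _ (α⁻¹ x).2), fn_apply α (α⁻¹ x).2, Subtype.coe_eta, MulAut.apply_inv_self] at h6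
  rw [← h6]
  exact congrArg (fun y => ((α y : P) : A)) (Subtype.ext (hγ _))

theorem big : ∃ a, Mp F P a ∧ (∀ x ∈ P, a x ∈ P) ∧ ∃ z ∈ P, f z ∈ zc (U.map f) ∧ f (a z) ∉ zc (U.map f) := by
  obtain ⟨α, h1, h2⟩ := SetLike.not_le_iff_exists.1 hf.not_le
  by_contra h3
  refine h2 (keep h hA hf h1 fun x hx h4 => ?_)
  by_contra h5
  exact h3 ⟨_, mp_fn le_top h1, fun x hx => fn_mem α hx, x, hx, h4, h5⟩

theorem elem : Nat.card ((P ⊓ U).map f) = 16 ∧ (∀ y ∈ (P ⊓ U).map f, y * y = 1) ∧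
    ∀ y ∈ (P ⊓ U).map f, τ * y * τ⁻¹ ∈ (P ⊓ U).map f := by
  obtain ⟨a, ha, h1, z, hz, h2, h3⟩ := big h hA hf
  obtain ⟨g, hg⟩ := h.fac.down P a ha
  have h4 : f (a z) ∈ U.map f := ⟨_, mp_mem_of_stronglyClosed h.sc ha hz (mem_of_map h h.le h2.1), rfl⟩
  have h5 : f (a z) * f (a z) = 1 := by rw [hg z hz, conj_mul, h.ut.sqZ _ h2, mul_one, mul_inv_cancel]
  obtain ⟨h6, h7⟩ := h.ut.cen _ h4 h3 h5
  have h8 : ∀ y ∈ U.map f ⊓ Subgroup.centralizer {f (a z)}, y * y = 1 := fun y hy =>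
    h7 y hy.1 (Subgroup.mem_centralizer_singleton_iff.1 hy.2).symm
  have h9 : (P ⊓ U).map f ≤ U.map f ⊓ Subgroup.centralizer {f (a z)} := by
    rintro _ ⟨y, hy, rfl⟩
    refine ⟨⟨y, hy.2, rfl⟩, Subgroup.mem_centralizer_singleton_iff.2 ?_⟩
    obtain ⟨x, hx, rfl⟩ := ha.surj h1 hy.1
    rw [hg x hx, hg z hz, conj_mul, conj_mul, h2.2 _ ⟨x, mp_mem_of_stronglyClosed' h.sc ha hx hy.2, rfl⟩]
  have h10 : (P ⊓ U).map f = U.map f ⊓ Subgroup.centralizer {f (a z)} := le_antisymm h9 (by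
    rintro _ ⟨⟨u, hu, rfl⟩, h10⟩
    exact ⟨u, ⟨cen h hA hf hu fun y hy => comm_of_sq h8 (h9 ⟨y, hy, rfl⟩) ⟨⟨u, hu, rfl⟩, h10⟩, hu⟩, rfl⟩)
  rw [h10]
  exact ⟨h6, h8, fun y hy => ⟨cj_mem h.tn hy.1, Subgroup.mem_centralizer_singleton_iff.2 (tau_keep h.ut h.tn h.t3 h4 h3 h5
    hy.1 (Subgroup.mem_centralizer_singleton_iff.1 hy.2).symm).symm⟩⟩

theorem dich : zc (P ⊓ U) ≤ R ∨ P ⊓ U ≤ zc (P ⊓ U) := by
  obtain ⟨h1, -, h2⟩ := elem h hA hf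
  have h3 : R ≤ P ⊓ U := le_inf (RP h hf) h.le
  have h4 : (zc (P ⊓ U)).map f ≤ (P ⊓ U).map f := Subgroup.map_mono inf_le_left
  obtain ⟨t, ht, h5⟩ := h.fac.up U le_top τ fun x hx =>
    let ⟨y, _, h5⟩ := cj_mem h.tn (⟨x, hx, rfl⟩ : f x ∈ U.map f)
    ⟨y, Subgroup.mem_top y, h5⟩
  rcases tri h.ut h.tn h.t3 h.fpf (h4.trans (Subgroup.map_mono inf_le_right))
    ((Subgroup.card_dvd_of_le h4).trans h1.dvd) (by
      rintro _ ⟨z, hz, rfl⟩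
      exact ⟨_, zc_keep (ht.res inf_le_right) (fun x hx => mem_of_map h h3 (h5 x hx.2 ▸ h2 _ ⟨x, hx, rfl⟩)) hz,
        h5 z hz.1.2⟩) (by
      rintro _ ⟨u, hu, rfl⟩ _ ⟨z, hz, rfl⟩
      refine ⟨_, zc_keep (mp_conj F le_top (Subgroup.mem_top u)) (fun x hx => mem_of_map h h3 ?_) hz, by
        rw [map_mul, map_mul, map_inv]⟩
      rw [map_mul, map_mul, map_inv]
      exact (Subgroup.mul_mem_cancel_right _ (((P ⊓ U).map f).inv_mem ⟨x, hx, rfl⟩)).1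
        (zc_le h hA hf (h.ut.cl2 _ ⟨u, hu, rfl⟩ _ ⟨x, hx.2, rfl⟩))) with h6 | h6 | h6
  · exact .inl fun z hz => (ker h z).1 (Subgroup.mem_bot.1 (h6.le ⟨z, hz, rfl⟩))
  · obtain ⟨a, ha, h7, z, hz, h8, h9⟩ := big h hA hf
    obtain ⟨g, hg⟩ := h.fac.down P a ha
    obtain ⟨y, hy, h10⟩ := h6.ge h8
    exact absurd (h6.le ⟨_, zc_keep (ha.res inf_le_left) (fun x hx =>
      ⟨h7 x hx.1, mp_mem_of_stronglyClosed h.sc ha hx.1 hx.2⟩) hy, by rw [hg y hy.1.1, hg z hz, h10]⟩) h9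
  · exact .inr fun y hy => mem_of_map h (Q := zc (P ⊓ U)) (fun r hr => ⟨h3 hr, fun x hx => h.comm x hx.2 r hr⟩)
      ((Subgroup.eq_of_le_of_card_ge h4 (by rw [h1, h6])).ge ⟨y, hy, rfl⟩)

theorem centric : F'.IsCentric (P ⊓ U) := by
  refine ⟨le_top, ?_⟩
  rintro Q ⟨φ, hφ, hQ⟩ c hc
  obtain ⟨h1, h2, -⟩ := elem h hA hf
  have hb := (h.low _ _ inf_le_right).2 (mp_ex hφ)
  have h3 : ∀ y, y ∈ Q ↔ ∃ x ∈ P ⊓ U, ex φ x = y := fun y => hQ ▸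
    ⟨fun ⟨x, hx⟩ => ⟨x, x.2, (ex_coe _ x).trans hx⟩, fun ⟨x, hx, h3⟩ => ⟨⟨x, hx⟩, (ex_apply _ hx).symm.trans h3⟩⟩
  obtain ⟨g, hg⟩ := h.fac.down _ _ hb
  have h4 : Q.map f = ((P ⊓ U).map f).map (MulAut.conj g).toMonoidHom := Subgroup.ext fun y => ⟨by
    rintro ⟨q, hq, rfl⟩
    obtain ⟨x, hx, rfl⟩ := (h3 q).1 hq
    exact ⟨_, ⟨x, hx, rfl⟩, (hg x hx).symm⟩, by
    rintro ⟨_, ⟨x, hx, rfl⟩, rfl⟩
    exact ⟨_, (h3 _).2 ⟨x, hx, rfl⟩, hg x hx⟩⟩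
  refine self_cen h (img (scR h) (le_inf (RP h hf) h.le) hb hb (fun x _ => by rw [inv_mul_cancel]; exact R.one_mem) h3).1
    (fun y hy => ?_) ?_ ?_ hc.2
  · obtain ⟨x, hx, rfl⟩ := (h3 y).1 hy
    exact mp_mem_of_stronglyClosed h.sc hb hx hx.2
  · rw [h4, Subgroup.card_map_of_injective (MulAut.conj g).injective, h1]
  · rw [h4]
    rintro _ ⟨y, hy, rfl⟩
    rw [← map_mul, h2 y hy, map_one]

theorem odd (ho : Od F P a) (hr : ∀ r ∈ R, a r = r) : Mp F' P a := by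
  have : Fact (Nat.Prime 2) := ⟨Nat.prime_two⟩
  obtain ⟨ha, h1, n, hn, h2⟩ := ho
  obtain ⟨e1, e2, -⟩ := elem h hA hf
  have h3 : R ≤ P ⊓ U := le_inf (RP h hf) h.le
  have h4 : ∀ x ∈ P ⊓ U, a x ∈ P ⊓ U := fun x hx => ⟨h1 x hx.1, mp_mem_of_stronglyClosed h.sc ha hx.1 hx.2⟩
  have h5 : ∀ g ∈ P, ∀ x ∈ P ⊓ U, g * x * g⁻¹ ∈ P ⊓ U := fun g hg x hx =>
    ⟨P.mul_mem (P.mul_mem hg hx.1) (P.inv_mem hg), cjU h g hx.2⟩
  have h6 : ∀ x ∈ P, x ∉ U → a x ∉ U := fun x hx h6 h7 => h6 (mp_mem_of_stronglyClosed' h.sc ha hx h7)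
  have ha' := (h.low _ _ inf_le_right).1 (ha.res inf_le_left)
  obtain ⟨k, hk, h7⟩ := mp_extend_of_fullyCentralized (hA.to_subgroup ⊤) h.sat'
    (isFullyCentralized_of_isCentric (centric h hA hf)) ha'
    (fun y => ⟨fun hy => ha'.surj h4 hy, fun ⟨x, hx, h7⟩ => h7 ▸ h4 x hx⟩) inf_le_left le_top
    fun g hg => ⟨h5 g hg, a g, Subgroup.mem_top _, fun x hx => mp_cj ha hg hx.1⟩
  have h8 : ∀ p ∈ P, (a p)⁻¹ * k p ∈ zc (P ⊓ U) := fun p hp => by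
    have h8 : ∀ q ∈ P ⊓ U, q * ((a p)⁻¹ * k p) = (a p)⁻¹ * k p * q := fun q hq => by
      obtain ⟨x, hx, rfl⟩ := ha'.surj h4 hq
      have h9 := h7 _ (h5 p hp x hx)
      rw [mp_cj hk hp hx.1, mp_cj ha hp hx.1, h7 x hx] at h9
      calc a x * ((a p)⁻¹ * k p) = (a p)⁻¹ * (a p * a x * (a p)⁻¹) * k p := by group
        _ = _ := by rw [← h9]; group
    exact ⟨self_cen h h3 inf_le_right e1 e2 h8, h8⟩
  obtain ⟨s, hs, h9⟩ := SetLike.not_le_iff_exists.1 (nPU h hf)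
  obtain ⟨y, hy, h10⟩ : ∃ y ∈ zc (P ⊓ U), (a s)⁻¹ * (y * k s * y⁻¹) ∈ R := by
    rcases dich h hA hf with h10 | h10
    · exact ⟨1, Subgroup.one_mem _, by rw [one_mul, inv_one, mul_one]; exact h10 (h8 s hs)⟩
    have h11 : f ((a s)⁻¹ * k s) ∈ (P ⊓ U).map f := ⟨_, (h8 s hs).1, rfl⟩
    have h12 := h7 _ ⟨P.mul_mem hs hs, mulU h hf h9 h9⟩
    rw [hk.mul hs hs, ha.mul hs hs] at h12
    obtain ⟨_, ⟨y, hy, rfl⟩, h13⟩ := h.h1 _ (Subgroup.map_mono inf_le_right) e1 e2 (a s)⁻¹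
      (fun h13 => h6 s hs h9 (U.inv_mem_iff.1 h13)) (by
        rintro _ ⟨x, hx, rfl⟩
        exact ⟨_, h5 _ (P.inv_mem (h1 s hs)) x hx, by rw [map_mul, map_mul, map_inv f (a s)⁻¹]⟩) _ h11 (by
        conv_rhs => rw [eq_inv_of_mul_eq_one_left (e2 _ h11)]
        rw [← map_inv, ← map_mul, ← map_mul]
        refine congrArg f ?_
        calc (a s)⁻¹ * ((a s)⁻¹ * k s) = (a s * a s)⁻¹ * k s := by group
          _ = _ := by rw [← h12]; group)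
    refine ⟨y, h10 hy, (ker h _).1 ?_⟩
    rw [show (a s)⁻¹ * (y * k s * y⁻¹) = (a s)⁻¹ * y * (a s)⁻¹⁻¹ * ((a s)⁻¹ * k s * y⁻¹) by group, map_mul,
      map_mul f _ y⁻¹, comm_of_sq e2 h11 ⟨_, Subgroup.inv_mem _ hy, rfl⟩, ← mul_assoc, map_mul, map_mul, map_inv f y,
      map_inv f (a s)⁻¹, ← h13, e2 _ h11]
  have h11 : ∀ p ∈ P, y * k p * y⁻¹ ∈ P := fun p hp => P.mul_mem (P.mul_mem hy.1.1
    ((P.mul_mem_cancel_left (P.inv_mem (h1 p hp))).1 (h8 p hp).1.1)) (P.inv_mem hy.1.1)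
  obtain ⟨b, hb, h12, h13, h14⟩ : ∃ b, Mp F' P b ∧ (∀ p ∈ P, b p ∈ P) ∧ (∀ x ∈ P ⊓ U, b x = a x) ∧ (a s)⁻¹ * b s ∈ R :=
    ⟨_, hk.comp (mp_conj F' le_top (Subgroup.mem_top y)) fun _ _ => Subgroup.mem_top _, h11, fun x hx => by
      show y * k x * y⁻¹ = a x
      rw [h7 x hx, ← hy.2 _ (h4 x hx), mul_inv_cancel_right], h10⟩
  obtain ⟨r, h15, h16⟩ : ∃ r ∈ R, b s = a s * r := ⟨_, h14, (mul_inv_cancel_left _ _).symm⟩
  have h17 : ∀ p ∈ P, p ∉ U → b p = a p * r := fun p hp hU => by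
    have h17 : s⁻¹ * p ∈ P ⊓ U := ⟨P.mul_mem (P.inv_mem hs) hp, mulU h hf (fun h17 => h9 (U.inv_mem_iff.1 h17)) hU⟩
    rw [← mul_inv_cancel_left s p, hb.mul hs h17.1, ha.mul hs h17.1, h16, h13 _ h17, mul_assoc, mul_assoc,
      h.comm _ (h4 _ h17).2 r h15]
  have h18 : ∀ p ∈ P, p ∉ U → ∀ i, a^[i] p ∉ U ∧ b^[i] p = a^[i] p * r ^ i := fun p hp hU i => by
    induction i with
    | zero => exact ⟨hU, by rw [pow_zero, mul_one]; rfl⟩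
    | succ i ih =>
      have h18 := iter_mem h1 i p hp
      have h19 := R.pow_mem h15 i
      rw [Function.iterate_succ_apply', Function.iterate_succ_apply', ih.2, hb.mul h18 (h3 h19).1, h17 _ h18 ih.1,
        h13 _ (h3 h19), hr _ h19, pow_succ', mul_assoc]
      exact ⟨h6 _ h18 ih.1, rfl⟩
  obtain ⟨e, he⟩ := hA r
  obtain ⟨j, h19, h20⟩ := Nat.chineseRemainder (Nat.Coprime.pow_right e (Nat.coprime_two_right.2 hn)) 1 0
  refine (mp_iter hb h12 j).congr fun p hp => (iter_mod (h2 p hp) h19).symm.trans ?_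
  by_cases hU : p ∈ U
  · exact (iter_congr h4 h13 j p ⟨hp, hU⟩).symm
  · obtain ⟨c, rfl⟩ := Nat.modEq_zero_iff_dvd.1 h20
    rw [(h18 p hp hU _).2, pow_mul, he, one_pow, mul_one]

/-- the automorphisms which fix `R` -/
def fixR (F : Sys A) (P R : Subgroup A) : Subgroup (MulAut P) where
  carrier := {β | β ∈ F.autGroup P ∧ ∀ x : P, (x : A) ∈ R → β x = x}
  one_mem' := ⟨Subgroup.one_mem _, fun _ _ => rfl⟩
  mul_mem' := fun {β γ} h1 h2 => ⟨Subgroup.mul_mem _ h1.1 h2.1, fun x hx => by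
    rw [MulAut.mul_apply, h2.2 x hx, h1.2 x hx]⟩
  inv_mem' := fun {β} h1 => ⟨Subgroup.inv_mem _ h1.1, fun x hx => by
    conv_lhs => rw [← h1.2 x hx, MulAut.inv_apply_self]⟩

omit hA hf in
theorem fix_conj {β κ : MulAut P} (hβ : β ∈ F.autGroup P) (hκ : κ ∈ fixR F P R) : β * κ * β⁻¹ ∈ fixR F P R :=
  ⟨Subgroup.mul_mem _ (Subgroup.mul_mem _ hβ hκ.1) (Subgroup.inv_mem _ hβ), fun x hx => by
    have h1 := mp_mem_of_stronglyClosed (scR h) (mp_fn le_top (Subgroup.inv_mem _ hβ)) x.2 hx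
    rw [fn_apply _ x.2] at h1
    rw [MulAut.mul_apply, MulAut.mul_apply, hκ.2 _ h1, MulAut.apply_inv_self]⟩

theorem fix_le : fixR F P R ≤ D := fun κ hκ => by
  have : Fact (Nat.Prime 2) := ⟨Nat.prime_two⟩
  have : Finite (MulAut P) := finite_aut (S := ⊤) le_top
  have hc := hf.ctx (hA.to_subgroup ⊤) h.sat
  obtain ⟨T⟩ : Nonempty (Sylow 2 (fixR F P R)) := inferInstance
  obtain ⟨β, hβ, h1⟩ := exists_conj_le_autInducedBy hc.pg hc.sat hc.fn (B := (T : Subgroup _).map (fixR F P R).subtype)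
    (by rintro _ ⟨t, -, rfl⟩; exact t.2.1) (T.isPGroup'.map _)
  obtain ⟨ρ, hρ, t, ht, h2⟩ := exists_residual_mul T ⟨_, fix_conj h (Subgroup.inv_mem _ hβ) hκ⟩
  have h3 : pResidual 2 (fixR F P R) ≤ D.comap ((MulAut.conj β).toMonoidHom.comp (fixR F P R).subtype) :=
    (Subgroup.closure_le _).2 fun σ hσ => by
      have h3 := fix_conj h hβ σ.2
      refine (hf.mem _).2 ⟨h3.1, odd h hA hf (od_fn le_top h3.1 ?_) fun r hr => ?_⟩
      · exact (orderOf_injective ((MulAut.conj β).toMonoidHom.comp (fixR F P R).subtype)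
          ((MulAut.conj β).injective.comp Subtype.val_injective) σ).symm ▸ hσ
      · exact (fn_apply _ (RP h hf hr)).trans (congrArg Subtype.val (h3.2 _ hr))
  have h4 : β⁻¹ * κ * β⁻¹⁻¹ = ρ.1 * t.1 := congrArg Subtype.val h2
  rw [show κ = β * ρ.1 * β⁻¹ * (β * t.1 * β⁻¹) by rw [conj_mul, ← h4]; group]
  exact D.mul_mem (h3 hρ) (hc.autS_le (fun he => nUP h hf (he ▸ le_top)) (h1 _ ⟨t, ht, rfl⟩))

theorem no_failure : False := by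
  have : Fact (Nat.Prime 2) := ⟨Nat.prime_two⟩
  obtain ⟨α, h1, h2⟩ := SetLike.not_le_iff_exists.1 hf.not_le
  obtain ⟨u, hu, h3, h4⟩ := exists_norm hA (fun p _ x hx => cjU h p hx) (nUP h hf)
  obtain ⟨γ, hγ⟩ := exists_conjAut (Subgroup.mem_normalizer_fintype h4)
  exact h2 ((hf.ctx (hA.to_subgroup ⊤) h.sat).mem_of_conj h1 (Subgroup.mem_top u) h3 hγ (fix_le h hA hf (fix_conj h h1
    ⟨autInducedBy_le_autGroup F le_top (conj_mem_autInducedBy (Subgroup.mem_top u) hγ), fun x hx =>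
      Subtype.ext (by rw [hγ, h.comm u hu x hx, mul_inv_cancel_right])⟩)))

omit h hA hf in
/-- **BoxAG** -/
theorem _root_.Cfsg.Agent.FS.N.R.boxAG : BoxAG := by
  intro A G _ _ _ _ hA F F' U R f τ h P a ha
  have : Fact (Nat.Prime 2) := ⟨Nat.prime_two⟩
  by_contra h1
  obtain ⟨Q, D, hf⟩ := first_failure (hA.to_subgroup ⊤) h.sat (closed_mp F F' le_rfl)
    (fun b hb => h.high _ b le_top hb) ha h1
  exact no_failure h hA hf

end Cfsg.Agent.FS.N.R.AG
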