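import Cfsg.Agent.FS.N.R.Box
import Cfsg.Agent.H269.Lim.FactorReal
import Cfsg.Agent.H544.Lim.Ext
import Cfsg.Agent.H70.Lim.BridgeT
import Cfsg.Agent.H539.Lim.MainE

/-!
# `BoxCE`: models of central extensions (helper51, project FS; after the proof of S5242)
-/

set_option autoImplicit false

namespace Cfsg.Agent.FS.N.R.CE

open Cfsg Cfsg.FusionSystem Cfsg.Agent.H752 MulAction Cfsg.Agent.H539.Lim Cfsg.Agent.H70.Lim

universe u v

theorem bridge {p : ℕ} [Fact p.Prime] {W : Type u} [Group W] {S : Subgroup W} [Finite S]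
    (F : Cfsg.FusionSystem S) (hF : F.IsSaturated p) (A : Subgroup W) (hA : F.IsCentral A)
    {L : Type v} [Group L] [Finite L] (ι : S →* L) (hι : Function.Injective ι)
    (T : Sylow p L) (hT : (T : Subgroup L) = ι.range) (hAL : (A.subgroupOf S).map ι ≤ Subgroup.center L)
    (h1 : ∀ (P : Subgroup W) (hP : P ≤ S) (φ : P →* W) (hφS : ∀ s : P, φ s ∈ S), A ≤ P → φ ∈ F.Hom P →
      ∃ l : L, ∀ s : P, (l * ι ⟨s, hP s.2⟩ * l⁻¹)⁻¹ * ι ⟨φ s, hφS s⟩ ∈ (A.subgroupOf S).map ι)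
    (h2 : ∀ (P : Subgroup W) (hP : P ≤ S), A ≤ P → ∀ l : L, (∀ s : P, l * ι ⟨s, hP s.2⟩ * l⁻¹ ∈ ι.range) →
      ∃ (φ : P →* W) (hφS : ∀ s : P, φ s ∈ S), φ ∈ F.Hom P ∧
        ∀ s : P, (l * ι ⟨s, hP s.2⟩ * l⁻¹)⁻¹ * ι ⟨φ s, hφS s⟩ ∈ (A.subgroupOf S).map ι)
    (hE : ThmE p L (L ⧸ (T : Subgroup L))) :
    ∃ j : S →* L, F.IsRealizedBy j ∧ (T : Subgroup L) = j.range ∧
      (∀ x, ∃ a ∈ (A.subgroupOf S).map ι, j x = ι x * a) ∧ ∀ x : S, (x : W) ∈ A → j x = ι x := by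
  classical
  obtain ⟨C, hC⟩ := H759.exists_pull' (hf := Subgroup.subtype_injective S)
    (T₁ := (⊤ : Subgroup S)) (T₂ := S) (by
      rw [← MonoidHom.range_eq_map, Subgroup.range_subtype]) F
  obtain ⟨F', hD⟩ := H759.exists_push' (hf := hι) (T₁ := (⊤ : Subgroup S)) (T₂ := (T : Subgroup L)) (by
      rw [← MonoidHom.range_eq_map, hT]) C
  have hF' : F'.IsSaturated p := hD.isSaturated_iff.2 (hC.isSaturated_iff.1 hF)
  have hAS : A ≤ S := hA.1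
  have hA' : F'.IsCentral ((A.subgroupOf S).map ι) := by
    refine hD.isCentral_iff.2 (hC.isCentral_iff.1 ?_)
    rw [Subgroup.map_subgroupOf_eq_of_le hAS]
    exact hA
  set A' := (A.subgroupOf S).map ι with hA'def
  have hAP : ∀ {P : Subgroup W}, P ≤ S → (A' ≤ (P.subgroupOf S).map ι ↔ A ≤ P) := by
    intro P hP
    rw [hA'def, H759.map_le_map hι]
    constructor
    · intro h a ha
      exact h (x := ⟨a, hAS ha⟩) ha
    · intro h a ha
      exact h ha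
  have h1' : ∀ (P : Subgroup L) (f : L → L), A' ≤ P → Mp F' P f → ∃ l : L, ∀ s ∈ P, (l * s * l⁻¹)⁻¹ * f s ∈ A' := by
    intro P' f hAP' hf
    obtain ⟨P, hP, φ, hφ, rfl, hφF, hφf⟩ := exists_src hC hD hf
    obtain ⟨l, hl⟩ := h1 P hP φ hφ ((hAP hP).1 hAP') hφF
    refine ⟨l, ?_⟩
    rintro _ ⟨x, hx, rfl⟩
    have h3 := hl ⟨x, hx⟩
    rw [← hφf ⟨x, hx⟩] at h3
    exact h3
  have h2' : ∀ P : Subgroup L, P ≤ (T : Subgroup L) → A' ≤ P → ∀ l : L, (∀ s ∈ P, l * s * l⁻¹ ∈ (T : Subgroup L)) →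
      ∃ f, Mp F' P f ∧ ∀ s ∈ P, (l * s * l⁻¹)⁻¹ * f s ∈ A' := by
    intro P' hP' hAP' l hl
    obtain ⟨P, hP, φ, hφ, rfl, -, -⟩ := exists_src hC hD (mp_id F' hP')
    rw [hT] at hl
    obtain ⟨ψ, hψ, hψF, hψl⟩ := h2 P hP ((hAP hP).1 hAP') l (fun s => hl _ ⟨⟨s, hP s.2⟩, s.2, rfl⟩)
    obtain ⟨f, hf⟩ := exists_fn hι hP ψ hψ
    refine ⟨f, (mp_trans hC hD hP ψ hψ hf).1 hψF, ?_⟩
    rintro _ ⟨x, hx, rfl⟩
    have h3 := hψl ⟨x, hx⟩
    rw [← hf ⟨x, hx⟩] at h3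
    exact h3
  obtain ⟨e, v, U⟩ := exists_unt T rfl hF' hA' hAL h1' h2' hE
  have hιT : ∀ x : S, ι x ∈ (T : Subgroup L) := fun x => by rw [hT]; exact ⟨x, rfl⟩
  let j : S →* L :=
    { toFun := fun x => jv v (ι x)
      map_one' := by
        have h3 := U.jv_mul hAL (one_mem (T : Subgroup L)) (one_mem (T : Subgroup L))
        rw [one_mul] at h3
        rw [map_one]
        exact mul_eq_left.1 h3.symm
      map_mul' := fun x y => by rw [map_mul, U.jv_mul hAL (hιT x) (hιT y)] }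
  refine ⟨j, ⟨fun x y hxy => hι (U.jv_inj hA'.1 (hιT x) (hιT y) hxy), ?_⟩, ?_,
    fun x => ⟨_, inv_mem (U.mem1 (hιT x)), rfl⟩, fun x hx => ?_⟩
  · intro P hP φ hφ
    obtain ⟨f, hf⟩ := exists_fn hι hP φ hφ
    have hPT : (P.subgroupOf S).map ι ≤ (T : Subgroup L) := by
      rintro _ ⟨x, -, rfl⟩
      exact hιT x
    rw [mp_trans hC hD hP φ hφ hf, U.mp_iff T rfl hF' hA' hAL h1' h2' hPT (by
      rintro _ ⟨x, hx, rfl⟩
      have h3 := hf ⟨x, hx⟩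
      change f (ι x) = _ at h3
      rw [h3]
      exact hιT _)]
    constructor
    · rintro ⟨g, hg⟩
      refine ⟨g, fun x => ?_⟩
      have h3 := hg (ι ⟨x, hP x.2⟩) ⟨_, x.2, rfl⟩
      rw [hf x] at h3
      exact h3
    · rintro ⟨g, hg⟩
      refine ⟨g, ?_⟩
      rintro _ ⟨x, hx, rfl⟩
      have h3 := hg ⟨x, hx⟩
      change jv v (ι _) = g * jv v (ι x) * g⁻¹ at h3
      have h4 := hf ⟨x, hx⟩
      change f (ι x) = _ at h4
      rw [h4]
      exact h3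
  · ext y
    constructor
    · intro hy
      obtain ⟨t, ht, rfl⟩ := U.jv_surj hA'.1 hy
      rw [hT] at ht
      obtain ⟨x, rfl⟩ := ht
      exact ⟨x, rfl⟩
    · rintro ⟨x, rfl⟩
      exact U.jv_mem hA'.1 (hιT x)
  · show ι x * _ = _
    rw [U.triv _ _ ⟨x, hx, rfl⟩, inv_one, mul_one]

theorem fix_of_central {W : Type u} [Group W] {S A P : Subgroup W} {F : FusionSystem S} (hA : F.IsCentral A) {a : W → W}
    (ha : Mp F P a) {x : W} (hx : x ∈ P) (hxA : x ∈ A) : a x = x := by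
  obtain ⟨φ, hφ, h1⟩ := ha
  rw [← h1 x hx]
  exact H269.Lim.apply_of_central hA hφ ⟨x, hx⟩ hxA

/-- a realizing homomorphism is a model of the factor system modulo the trivial subgroup -/
theorem fac_bot {W : Type u} [Group W] {S : Subgroup W} {F : FusionSystem S} {L : Type u} [Group L] {j : S →* L}
    (h : F.IsRealizedBy j) (T : Sylow 2 L) (hT : (T : Subgroup L) = j.range) : Fac F ⊥ (tot j) where
  mul := mulOn_tot j
  ker x hx := by
    rw [tot_apply j hx, map_eq_one_iff j h.1, Subgroup.mem_bot]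
    exact Subtype.ext_iff
  syl := ⟨T, fun y => by
    rw [hT]
    exact ⟨fun ⟨x, e⟩ => ⟨x, x.2, (tot_apply j x.2).trans e⟩, fun ⟨x, hx, e⟩ => ⟨⟨x, hx⟩, (tot_apply j hx).symm.trans e⟩⟩⟩
  down P a ha := by
    have hP := ha.le
    obtain ⟨φ, hφ, h1⟩ := ha
    have h2 := (F.le_of_mem hφ).2
    obtain ⟨g, hg⟩ := (h.2 P hP φ h2).1 hφ
    refine ⟨g, fun x hx => ?_⟩
    rw [← h1 x hx, tot_apply j (h2 ⟨x, hx⟩), tot_apply j (hP hx)]
    exact hg ⟨x, hx⟩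
  up P hP g hg := by
    obtain ⟨φ, h1, h2, h3⟩ := H269.Lim.exists_conj h hP g fun x => by
      obtain ⟨y, hy, e⟩ := hg x x.2
      rw [tot_apply j hy, tot_apply j (hP x.2)] at e
      exact ⟨_, e⟩
    refine ⟨ex φ, mp_ex h2, fun x hx => ?_⟩
    rw [ex_apply _ hx, tot_apply j (h1 ⟨x, hx⟩), tot_apply j (hP hx)]
    exact h3 ⟨x, hx⟩

end Cfsg.Agent.FS.N.R.CE

namespace Cfsg.Agent.FS.N.R

open Cfsg Cfsg.FusionSystem Cfsg.Agent.H752 Cfsg.Agent.H539.Lim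

/-- **central extensions** -/
theorem boxCE : BoxCE := by
  intro A _ _ hA2 T V E hE hV G _ _ f h
  have : Fact (Nat.Prime 2) := ⟨Nat.prime_two⟩
  have hS : IsPGroup 2 T := hA2.to_subgroup T
  obtain ⟨S, hSm⟩ := h.syl
  let θ : T →* G := h.mul.hom
  have hθ : ∀ s : T, θ s = f s := fun _ => rfl
  have hker : ∀ s : T, θ s = 1 ↔ (s : A) ∈ V := fun s => h.ker s s.2
  have hkerA : θ.ker = V.subgroupOf T := by
    ext s
    rw [MonoidHom.mem_ker, hker, Subgroup.mem_subgroupOf]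
  have hrange : θ.range = (S : Subgroup G) := by
    ext y
    rw [hSm]
    exact ⟨fun ⟨x, e⟩ => ⟨x, x.2, e⟩, fun ⟨x, hx, e⟩ => ⟨⟨x, hx⟩, e⟩⟩
  have hcenter : θ.ker ≤ Subgroup.center T := by
    intro a ha
    rw [Subgroup.mem_center_iff]
    intro g
    have h2 := CE.fix_of_central hV (mp_conj E le_rfl g.2) a.2 ((hker a).1 ha)
    exact Subtype.ext (mul_inv_eq_iff_eq_mul.1 h2)
  have hst : ∀ g : G, ∃ φ : ↥(((S : Subgroup G) ⊓ cj g⁻¹ (S : Subgroup G)).comap θ) →* T,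
      (∀ s : ↥(((S : Subgroup G) ⊓ cj g⁻¹ (S : Subgroup G)).comap θ), θ (φ s) = g * θ (s : T) * g⁻¹) ∧
        ∀ s : ↥(((S : Subgroup G) ⊓ cj g⁻¹ (S : Subgroup G)).comap θ), θ (s : T) = 1 → φ s = (s : T) := by
    intro g
    set Q : Subgroup T := ((S : Subgroup G) ⊓ cj g⁻¹ (S : Subgroup G)).comap θ with hQ
    obtain ⟨a, ha, h1⟩ := h.up (Q.map T.subtype) (Subgroup.map_subtype_le Q) g (by
      rintro _ ⟨s, hs, rfl⟩
      obtain ⟨t, ht, htg⟩ : θ s ∈ cj g⁻¹ (S : Subgroup G) := hs.2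
      have h2 : g⁻¹ * t * (g⁻¹)⁻¹ = f s := htg
      obtain ⟨y, hy, rfl⟩ := (hSm t).1 ht
      refine ⟨y, hy, ?_⟩
      show f y = g * f s * g⁻¹
      rw [← h2]
      group)
    have hm : ∀ s : Q, ((s : T) : A) ∈ Q.map T.subtype := fun s => ⟨s, s.2, rfl⟩
    exact ⟨MonoidHom.mk' (fun s => ⟨a s, ha.mem (hm s)⟩) fun s t => Subtype.ext (ha.mul (hm s) (hm t)),
      fun s => h1 _ (hm s), fun s hs => Subtype.ext (CE.fix_of_central hV ha (hm s) ((hker s).1 hs))⟩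
  obtain ⟨L, _, _, π, ι, hπ, hι, hπι, hπker, hπc⟩ := H544.Lim.exists_ext S hS θ hrange hcenter hst
  have hπι' : ∀ s : T, π (ι s) = f s := fun s => DFunLike.congr_fun hπι s
  rw [hkerA] at hπker
  have hιr : ι.range = (S : Subgroup G).comap π := by
    apply le_antisymm
    · rintro _ ⟨s, rfl⟩
      rw [Subgroup.mem_comap, hπι', hSm]
      exact ⟨s, s.2, rfl⟩
    · intro x hx
      obtain ⟨s, hs, e⟩ := (hSm _).1 hx
      have h1 : x * (ι ⟨s, hs⟩)⁻¹ ∈ π.ker := by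
        rw [MonoidHom.mem_ker, map_mul, map_inv, hπι', e, mul_inv_cancel]
      rw [hπker] at h1
      obtain ⟨a, -, ha⟩ := h1
      refine ⟨a * ⟨s, hs⟩, ?_⟩
      rw [map_mul, ha]
      group
  have hιp : IsPGroup 2 ι.range := hS.of_surjective ι.rangeRestrict ι.rangeRestrict_surjective
  have hind : ¬ 2 ∣ ι.range.index := by
    rw [hιr, Subgroup.index_comap_of_surjective _ hπ]
    exact S.not_dvd_index
  obtain ⟨j, h1, h2, h3, h4⟩ := CE.bridge E hE V hV ι hι (hιp.toSylow hind) rfl (hπker ▸ hπc)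
    (fun P hP φ hφS _ hφ => by
      obtain ⟨g, hg⟩ := h.down P _ (mp_ex hφ)
      obtain ⟨l, rfl⟩ := hπ g
      refine ⟨l, fun s => ?_⟩
      rw [← hπker, MonoidHom.mem_ker, map_mul, map_inv, map_mul, map_mul, map_inv, hπι', hπι', inv_mul_eq_one,
        ← hg s s.2, ex_coe])
    (fun P hP _ l hl => by
      obtain ⟨a, ⟨φ, hφ, e⟩, ha⟩ := h.up P hP (π l) fun x hx => by
        obtain ⟨t, ht⟩ := hl ⟨x, hx⟩
        refine ⟨t, t.2, ?_⟩
        rw [← hπι', ht, map_mul, map_mul, map_inv, hπι']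
      refine ⟨φ, (E.le_of_mem hφ).2, hφ, fun s => ?_⟩
      rw [← hπker, MonoidHom.mem_ker, map_mul, map_inv, map_mul, map_mul, map_inv, hπι', hπι', inv_mul_eq_one,
        ← ha s s.2, ← e s s.2])
    (fun hΩ B hB hBp hBst e he hmul heA heq hcoc => H539.Lim.ME.thmE hΩ B hB hBp hBst e he hmul heA heq hcoc)
  refine ⟨L, inferInstance, inferInstance, π, tot j, hπ, CE.fac_bot h1 _ h2, fun x hx => ?_, fun l hl => ?_,
    fun v hv l => ?_⟩
  · obtain ⟨a, ha, e⟩ := h3 ⟨x, hx⟩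
    rw [← hπker] at ha
    rw [tot_apply j hx, e, map_mul, hπι', MonoidHom.mem_ker.1 ha, mul_one]
  · obtain ⟨x, hx, rfl⟩ : l ∈ (V.subgroupOf T).map ι := hπker ▸ MonoidHom.mem_ker.2 hl
    exact ⟨x, hx, by rw [tot_apply j x.2, h4 x hx]⟩
  · rw [tot_apply j (hV.1 hv), h4 _ hv]
    exact (Subgroup.mem_center_iff.1 (hπc (hπker ▸ ⟨⟨v, hV.1 hv⟩, hv, rfl⟩)) l).symm

end Cfsg.Agent.FS.N.R
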