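import Cfsg.Agent.FS.N.R.Md
import Mathlib.GroupTheory.RegularWreathProduct

/-!
# The box `BoxFP` (helper6, project FS, folder FS/N/R)

The fibre product (`real_prod`), the wreath product (`real_wr`), and `boxFP`.
-/

set_option autoImplicit false

namespace Cfsg.Agent.FS.N.R

open Cfsg Cfsg.FusionSystem Cfsg.Agent.H752 Cfsg.Agent.FS.Th Cfsg.Agent.FS.Real

variable {A : Type} [Group A]

theorem odd_of_dvd {a b : ℕ} (h : a ∣ b) (hb : Odd b) : Odd a := Nat.coprime_two_right.1 (coprime_two_of_odd hb h)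

/-- **The fibre product.** -/
theorem real_prod [Finite A] (hA : IsPGroup 2 A) {F : Sys A} (hF : F.IsSaturated 2) {T R : Subgroup A} (h : Two F T R)
    {G G' : Type} [Group G] [Group G'] [Finite G] [Finite G'] {f : A → G} {f' : A → G'} {K : Subgroup G}
    {K' : Subgroup G'} [K.Normal] [K'.Normal] (hf : Md F ⊤ (T ⊔ R) R f K) (hf' : Md F ⊤ (T ⊔ R) T f' K')
    {m m' : ℕ} (hm : Odd m) (hm' : Odd m') (hc : Nat.card K = Nat.card T * m) (hc' : Nat.card K' = Nat.card R * m') :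
    F.IsRealizable 2 := by
  let ι : A →* G × G' := MonoidHom.mk' (fun x => (f x, f' x)) fun x y =>
    Prod.ext (hf.mul x trivial y trivial) (hf'.mul x trivial y trivial)
  have hι : Function.Injective ι := (injective_iff_map_eq_one ι).2 fun x hx => by
    have h1 : x ∈ T ⊓ R := ⟨(hf'.ker x trivial).1 (congrArg Prod.snd hx), (hf.ker x trivial).1 (congrArg Prod.fst hx)⟩
    rwa [h.inf, Subgroup.mem_bot] at h1
  refine realizable_of_odd hA hF hι (N := K.prod K') (U := T ⊔ R) (fun x => ?_) (hm.mul hm') ?_ (fun P a ha => ?_)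
    fun P a hP ha n _ ho h1 => ?_
  · rw [Subgroup.mem_prod]
    exact ⟨fun h1 => (hf.mem x trivial).1 h1.1, fun h1 => ⟨(hf.mem x trivial).2 h1, (hf'.mem x trivial).2 h1⟩⟩
  · rw [Nat.card_congr (Subgroup.prodEquiv K K').toEquiv, Nat.card_prod, hc, hc', card_sup_comm h.comm h.inf]
    ring
  · obtain ⟨g, hg, h1⟩ := hf.down P a le_top ha
    obtain ⟨g', hg', h2⟩ := hf'.down P a le_top ha
    exact ⟨(g, g'), ⟨hg, hg'⟩, fun x hx => Prod.ext (h1 x hx) (h2 x hx)⟩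
  · exact h.mp le_top hf hf' hP ha (g := n.1) (odd_of_dvd (orderOf_map_dvd (MonoidHom.fst G G') n) ho)
      (fun x hx => congrArg Prod.fst (h1 x hx)) (g' := n.2) (odd_of_dvd (orderOf_map_dvd (MonoidHom.snd G G') n) ho)
      fun x hx => congrArg Prod.snd (h1 x hx)

section wr

variable {G : Type} [Group G] {Q : Type} [Group Q]

/-- the base subgroup `K ^ Q` of the wreath product -/
def base (K : Subgroup G) (Q : Type) [Group Q] : Subgroup (G ≀ᵣ Q) where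
  carrier := {w | w.right = 1 ∧ ∀ q, w.left q ∈ K}
  one_mem' := ⟨rfl, fun _ => K.one_mem⟩
  mul_mem' := fun {a b} ha hb => ⟨by
    show a.right * b.right = 1
    rw [ha.1, hb.1, mul_one], fun q => K.mul_mem (ha.2 q) (hb.2 _)⟩
  inv_mem' := fun {a} ha => ⟨by
    show a.right⁻¹ = 1
    rw [ha.1, inv_one], fun q => K.inv_mem (ha.2 _)⟩

theorem base_normal (K : Subgroup G) [hK : K.Normal] : (base K Q).Normal := ⟨fun n hn g => ⟨by
    show g.right * n.right * g.right⁻¹ = 1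
    rw [hn.1, mul_one, mul_inv_cancel], fun q => by
    show g.left q * n.left (g.right⁻¹ * q) * (g.left (g.right * ((g.right * n.right)⁻¹ * q)))⁻¹ ∈ K
    rw [hn.1, mul_one, mul_inv_cancel_left]
    exact hK.conj_mem _ (hn.2 _) _⟩⟩

theorem card_base [Finite Q] (K : Subgroup G) : Nat.card (base K Q) = Nat.card K ^ Nat.card Q := by
  rw [← Nat.card_fun]
  exact Nat.card_congr ⟨fun w q => ⟨w.1.left q, w.2.2 q⟩, fun u => ⟨⟨fun q => u q, 1⟩, rfl, fun q => (u q).2⟩,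
    fun w => Subtype.ext (RegularWreathProduct.ext rfl w.2.1.symm), fun _ => rfl⟩

theorem base_pow {n : G ≀ᵣ Q} (hn : n.right = 1) (q : Q) (k : ℕ) : (n ^ k).right = 1 ∧ (n ^ k).left q = n.left q ^ k := by
  induction k with
  | zero => exact ⟨rfl, (pow_zero _).symm⟩
  | succ k ih =>
    rw [pow_succ, pow_succ]
    refine ⟨?_, ?_⟩
    · show (n ^ k).right * n.right = 1
      rw [ih.1, hn, mul_one]
    · show (n ^ k).left q * n.left ((n ^ k).right⁻¹ * q) = _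
      rw [ih.1, ih.2, inv_one, one_mul]

theorem conj_left {n w : G ≀ᵣ Q} (hn : n.right = 1) (q : Q) :
    (n * w * n⁻¹).left q = n.left q * w.left q * (n.left (w.right⁻¹ * q))⁻¹ := by
  show n.left q * w.left (n.right⁻¹ * q) * (n.left (n.right * ((n.right * w.right)⁻¹ * q)))⁻¹ = _
  rw [hn, inv_one, one_mul, one_mul, one_mul]

theorem conj_right {n w : G ≀ᵣ Q} (hn : n.right = 1) : (n * w * n⁻¹).right = w.right := by
  show n.right * w.right * n.right⁻¹ = _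
  rw [hn, inv_one, one_mul, mul_one]

end wr

/-- **The wreath product.** -/
theorem real_wr [Finite A] (hA : IsPGroup 2 A) {F : Sys A} (hF : F.IsSaturated 2) {T R B : Subgroup A} (h : Two F T R)
    [hB : B.Normal] [hU : (T ⊔ R).Normal] (hUB : T ⊔ R ≤ B) {t : A} (ht : t ∉ B) (h2 : ∀ x y, x ∉ B → y ∉ B → x * y ∈ B)
    (htR : ∀ x, x ∈ T ↔ t⁻¹ * x * t ∈ R) (hH : F.hyperfocalSubgroup 2 ≤ T ⊔ R)
    {G : Type} [Group G] [Finite G] {f : A → G} {K : Subgroup G} [K.Normal] (hf : Md F B (T ⊔ R) R f K)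
    {m : ℕ} (hm : Odd m) (hc : Nat.card K = Nat.card T * m) (hTR : Nat.card R = Nat.card T) : F.IsRealizable 2 := by
  classical
  have hf' := hf.twist t htR
  let ε : A →* A ⧸ B := QuotientGroup.mk' B
  have hε : ∀ x, ε x = 1 ↔ x ∈ B := fun x => QuotientGroup.eq_one_iff x
  have hεt : ∀ x, x ∉ B → ε x = ε t := fun x hx => by
    have h3 := (hε _).2 (h2 _ _ (fun h => hx ((B.inv_mem_iff).1 h)) ht)
    rwa [map_mul, map_inv, inv_mul_eq_one] at h3
  have hq : ∀ q : A ⧸ B, q = 1 ∨ q = ε t := fun q => by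
    obtain ⟨x, rfl⟩ := QuotientGroup.mk'_surjective B q
    by_cases hx : x ∈ B
    · exact Or.inl ((hε x).2 hx)
    · exact Or.inr (hεt x hx)
  have ht1 : ε t ≠ 1 := fun h => ht ((hε t).1 h)
  let σ : A ⧸ B → A := fun q => if q = 1 then 1 else t
  have hσ1 : σ 1 = 1 := if_pos rfl
  have hσt : σ (ε t) = t := if_neg ht1
  have hσ : ∀ q, ε (σ q) = q := fun q => by
    rcases hq q with rfl | rfl
    · rw [hσ1, map_one]
    · rw [hσt]
  have hmemB : ∀ x q, (σ q)⁻¹ * x * σ ((ε x)⁻¹ * q) ∈ B := fun x q => by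
    rw [← hε, map_mul, map_mul, map_inv, hσ, hσ]
    group
  let ι : A →* G ≀ᵣ (A ⧸ B) := MonoidHom.mk' (fun x => ⟨fun q => f ((σ q)⁻¹ * x * σ ((ε x)⁻¹ * q)), ε x⟩) fun x y => by
    refine RegularWreathProduct.ext (funext fun q => ?_) (map_mul ε x y)
    show f ((σ q)⁻¹ * (x * y) * σ ((ε (x * y))⁻¹ * q)) = f ((σ q)⁻¹ * x * σ ((ε x)⁻¹ * q)) *
      f ((σ ((ε x)⁻¹ * q))⁻¹ * y * σ ((ε y)⁻¹ * ((ε x)⁻¹ * q)))
    rw [← hf.mul _ (hmemB x q) _ (hmemB y _), map_mul, mul_inv_rev, mul_assoc (ε y)⁻¹]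
    congr 1
    group
  have hιl : ∀ x q, (ι x).left q = f ((σ q)⁻¹ * x * σ ((ε x)⁻¹ * q)) := fun _ _ => rfl
  have hιr : ∀ x, (ι x).right = ε x := fun _ => rfl
  have hι1 : ∀ x ∈ B, (ι x).left 1 = f x := fun x hx => by
    rw [hιl, (hε x).2 hx, inv_one, one_mul, hσ1, inv_one, one_mul, mul_one]
  have hιt : ∀ x ∈ B, (ι x).left (ε t) = f (t⁻¹ * x * t) := fun x hx => by
    rw [hιl, (hε x).2 hx, inv_one, one_mul, hσt]
  have hι : Function.Injective ι := (injective_iff_map_eq_one ι).2 fun x hx => by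
    have h0 : x ∈ B := (hε x).1 (congrArg RegularWreathProduct.right hx)
    have h1 : x ∈ T ⊓ R := ⟨(hf'.ker x h0).1 (by rw [← hιt x h0, hx]; rfl), (hf.ker x h0).1 (by rw [← hι1 x h0, hx]; rfl)⟩
    rwa [h.inf, Subgroup.mem_bot] at h1
  have hN := base_normal (Q := A ⧸ B) K
  have hQ : Nat.card (A ⧸ B) = 2 := Nat.card_eq_two_iff.2 ⟨1, ε t, ht1.symm, by
    ext q
    simpa using hq q⟩
  refine realizable_of_odd hA hF hι (N := base K (A ⧸ B)) (U := T ⊔ R) (fun x => ⟨fun h1 => ?_, fun h1 => ?_⟩)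
    (hm.mul hm) ?_ (fun P a ha => ?_) fun P a hP ha n hn ho h1 => ?_
  · have h0 : x ∈ B := (hε x).1 h1.1
    exact (hf.mem x h0).1 (by rw [← hι1 x h0]; exact h1.2 1)
  · refine ⟨(hε x).2 (hUB h1), fun q => ?_⟩
    rcases hq q with rfl | rfl
    · rw [hι1 x (hUB h1)]
      exact (hf.mem x (hUB h1)).2 h1
    · rw [hιt x (hUB h1)]
      exact (hf'.mem x (hUB h1)).2 h1
  · rw [card_base, hQ, hc, card_sup_comm h.comm h.inf, hTR]
    ring
  · have haε : ∀ x ∈ P, ε (a x) = ε x := fun x hx => by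
      have h3 := (hε _).2 (hUB (hH (ha.mem_hyp hx)))
      rw [map_mul, map_inv, inv_mul_eq_one] at h3
      exact h3.symm
    by_cases hPB : P ≤ B
    · obtain ⟨g, hg, h3⟩ := hf.down P a hPB ha
      obtain ⟨g', hg', h4⟩ := hf'.down P a hPB ha
      refine ⟨⟨fun q => if q = 1 then g else g', 1⟩, ⟨rfl, fun q => ?_⟩, fun x hx => ?_⟩
      · show (if q = 1 then g else g') ∈ K
        split_ifs
        exacts [hg, hg']
      · refine RegularWreathProduct.ext (funext fun q => ?_) (by rw [conj_right rfl]; exact haε x hx)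
        rw [conj_left rfl, hιr, (hε x).2 (hPB hx), inv_one, one_mul]
        rcases hq q with rfl | rfl
        · rw [hι1 _ (hPB hx), hι1 _ (hPB (ha.2.1 x hx)), h3 x hx]
          simp
        · rw [hιt _ (hPB hx), hιt _ (hPB (ha.2.1 x hx)), h4 x hx]
          simp [ht1]
    · obtain ⟨y, hy, hyB⟩ := SetLike.not_le_iff_exists.1 hPB
      obtain ⟨g, hg, h3⟩ := hf.down (P ⊓ B) a inf_le_right (ha.res inf_le_left fun x hx =>
        ⟨ha.2.1 x hx.1, (hε _).1 ((haε x hx.1).trans ((hε x).2 hx.2))⟩)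
      have hz : ∀ q, ∃ z ∈ P, ε z = q⁻¹ := fun q => by
        rcases hq q⁻¹ with h4 | h4
        · exact ⟨1, P.one_mem, by rw [h4, map_one]⟩
        · exact ⟨y, hy, by rw [h4, hεt y hyB]⟩
      choose z hzP hz using hz
      have h5 : ∀ q, z q * σ q ∈ B := fun q => by rw [← hε, map_mul, hz, hσ, inv_mul_cancel]
      have h6 : ∀ q, a (z q) * σ q ∈ B := fun q => by rw [← hε, map_mul, haε _ (hzP q), hz, hσ, inv_mul_cancel]
      refine ⟨⟨fun q => (f (a (z q) * σ q))⁻¹ * g * f (z q * σ q), 1⟩, ⟨rfl, fun q => ?_⟩, fun x hx => ?_⟩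
      · show (f (a (z q) * σ q))⁻¹ * g * f (z q * σ q) ∈ K
        have h7 : (f (a (z q) * σ q))⁻¹ * g * f (z q * σ q) = (f (a (z q) * σ q))⁻¹ * g * (f (a (z q) * σ q))⁻¹⁻¹ *
            ((f (z q * σ q))⁻¹ * f (a (z q) * σ q))⁻¹ := by group
        rw [h7, ← hf.mul.inv_mul (h5 q) (h6 q)]
        refine K.mul_mem (Subgroup.Normal.conj_mem inferInstance g hg _) (K.inv_mem ?_)
        rw [hf.mem _ (B.mul_mem (B.inv_mem (h5 q)) (h6 q))]
        have h8 : (z q * σ q)⁻¹ * (a (z q) * σ q) = (σ q)⁻¹ * ((z q)⁻¹ * a (z q)) * σ q := by group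
        rw [h8]
        exact hU.conj_mem' _ (hH (ha.mem_hyp (hzP q))) _
      · refine RegularWreathProduct.ext (funext fun q => ?_) (by rw [conj_right rfl]; exact haε x hx)
        rw [conj_left rfl, hιr, hιl, hιl, haε x hx]
        set q' := (ε x)⁻¹ * q with hq'
        show _ = (f (a (z q) * σ q))⁻¹ * g * f (z q * σ q) * _ * ((f (a (z q') * σ q'))⁻¹ * g * f (z q' * σ q'))⁻¹
        have hw : z q * x * (z q')⁻¹ ∈ P := P.mul_mem (P.mul_mem (hzP q) hx) (P.inv_mem (hzP q'))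
        have hwB : z q * x * (z q')⁻¹ ∈ B := by
          rw [← hε, map_mul, map_mul, map_inv, hz, hz, hq']
          group
        have h7 := h3 _ ⟨hw, hwB⟩
        have h8 : f (z q * x * (z q')⁻¹) = f (z q * σ q) * f ((σ q)⁻¹ * x * σ q') * (f (z q' * σ q'))⁻¹ := by
          have h9 : (σ q)⁻¹ * x * σ q' ∈ B := hmemB x q
          rw [← hf.mul.inv (h5 q'), ← hf.mul _ (h5 q) _ h9, ← hf.mul _ (B.mul_mem (h5 q) h9) _ (B.inv_mem (h5 q'))]
          congr 1
          group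
        have h9 : (σ q)⁻¹ * a x * σ q' ∈ B := by
          have h10 := hmemB (a x) q
          rwa [haε x hx] at h10
        have h10 : f (a (z q * x * (z q')⁻¹)) =
            f (a (z q) * σ q) * f ((σ q)⁻¹ * a x * σ q') * (f (a (z q') * σ q'))⁻¹ := by
          rw [← hf.mul.inv (h6 q'), ← hf.mul _ (h6 q) _ h9, ← hf.mul _ (B.mul_mem (h6 q) h9) _ (B.inv_mem (h6 q')),
            ha.1.mul (P.mul_mem (hzP q) hx) (P.inv_mem (hzP q')), ha.1.mul (hzP q) hx, ha.1.inv (hzP q')]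
          congr 1
          group
        rw [h8, h10] at h7
        have h11 : f ((σ q)⁻¹ * a x * σ q') = (f (a (z q) * σ q))⁻¹ * (f (a (z q) * σ q) * f ((σ q)⁻¹ * a x * σ q') *
          (f (a (z q') * σ q'))⁻¹) * f (a (z q') * σ q') := by group
        rw [h11, h7]
        group
  · have hodd : ∀ q, Odd (orderOf (n.left q)) := fun q => odd_of_dvd (orderOf_dvd_of_pow_eq_one (by
      rw [← (base_pow hn.1 q _).2, pow_orderOf_eq_one]
      rfl)) ho
    have h3 : ∀ x ∈ P, ∀ q, (ι (a x)).left q = n.left q * (ι x).left q * (n.left q)⁻¹ := fun x hx q => by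
      rw [h1 x hx, conj_left hn.1, hιr, (hε x).2 (hUB (hP hx)), inv_one, one_mul]
    refine h.mp hUB hf hf' hP ha (hodd 1) (fun x hx => ?_) (hodd (ε t)) fun x hx => ?_
    · rw [← hι1 _ (hUB (hP hx)), ← hι1 _ (hUB (hP (ha x hx))), h3 x hx]
    · show f (t⁻¹ * a x * t) = _ * f (t⁻¹ * x * t) * _
      rw [← hιt _ (hUB (hP hx)), ← hιt _ (hUB (hP (ha x hx))), h3 x hx]

section pair

variable {F : Sys A} {T R : Subgroup A}

theorem conj_sup {T R T' R' : Subgroup A} (h : ∀ x ∈ T, ∀ y ∈ R, x * y = y * x) {s : A}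
    (h1 : ∀ x ∈ T, s * x * s⁻¹ ∈ T' ⊔ R') (h2 : ∀ x ∈ R, s * x * s⁻¹ ∈ T' ⊔ R') : ∀ x ∈ T ⊔ R, s * x * s⁻¹ ∈ T' ⊔ R' := by
  intro x hx
  obtain ⟨t, ht, r, hr, rfl⟩ := (mem_sup_comm h).1 hx
  have h3 : s * (t * r) * s⁻¹ = s * t * s⁻¹ * (s * r * s⁻¹) := by group
  rw [h3]
  exact mul_mem (h1 t ht) (h2 r hr)

theorem pair_normal (h : Pair T R) : (T ⊔ R).Normal := ⟨fun x hx s => by
  rcases h.cj s with h1 | h1
  · exact conj_sup h.comm (fun x hx => (le_sup_left : T ≤ _) (h1.1 x hx))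
      (fun x hx => (le_sup_right : R ≤ _) (h1.2 x hx)) x hx
  · exact conj_sup h.comm (fun x hx => (le_sup_right : R ≤ _) (h1.1 x hx))
      (fun x hx => (le_sup_left : T ≤ _) (h1.2 x hx)) x hx⟩

/-- the elements which keep both factors -/
def stab (T R : Subgroup A) : Subgroup A := Subgroup.normalizer (T : Set A) ⊓ Subgroup.normalizer (R : Set A)

theorem mem_stab [Finite A] {s : A} :
    s ∈ stab T R ↔ (∀ x ∈ T, s * x * s⁻¹ ∈ T) ∧ ∀ x ∈ R, s * x * s⁻¹ ∈ R :=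
  ⟨fun h => ⟨fun x hx => (Subgroup.mem_normalizer_iff.1 h.1 x).1 hx, fun x hx => (Subgroup.mem_normalizer_iff.1 h.2 x).1 hx⟩,
    fun h => ⟨Subgroup.mem_normalizer_fintype h.1, Subgroup.mem_normalizer_fintype h.2⟩⟩

theorem swap_of_not [Finite A] (h : Pair T R) {s : A} (hs : s ∉ stab T R) :
    (∀ x ∈ T, s * x * s⁻¹ ∈ R) ∧ ∀ x ∈ R, s * x * s⁻¹ ∈ T := (h.cj s).resolve_left fun h1 => hs (mem_stab.2 h1)

theorem mul_mem_stab [Finite A] (h : Pair T R) (x y : A) (hx : x ∉ stab T R) (hy : y ∉ stab T R) : x * y ∈ stab T R := by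
  have h1 : ∀ z, x * y * z * (x * y)⁻¹ = x * (y * z * y⁻¹) * x⁻¹ := fun z => by group
  refine mem_stab.2 ⟨fun z hz => ?_, fun z hz => ?_⟩
  · rw [h1]
    exact (swap_of_not h hx).2 _ ((swap_of_not h hy).1 z hz)
  · rw [h1]
    exact (swap_of_not h hx).1 _ ((swap_of_not h hy).2 z hz)

theorem stab_normal [Finite A] (h : Pair T R) : (stab T R).Normal := ⟨fun x hx s => by
  by_cases hs : s ∈ stab T R
  · exact mul_mem (mul_mem hs hx) (inv_mem hs)
  · exact mul_mem_stab h _ _ (fun h1 => hs (((stab T R).mul_mem_cancel_right hx).1 h1))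
      fun h1 => hs ((stab T R).inv_mem_iff.1 h1)⟩

theorem sup_le_stab [Finite A] (h : ∀ x ∈ T, ∀ y ∈ R, x * y = y * x) : T ⊔ R ≤ stab T R :=
  sup_le (fun s hs => mem_stab.2 ⟨fun x hx => mul_mem (mul_mem hs hx) (inv_mem hs), fun x hx => by
      rw [h s hs x hx, mul_inv_cancel_right]; exact hx⟩)
    fun s hs => mem_stab.2 ⟨fun x hx => by rw [← h x hx s hs, mul_inv_cancel_right]; exact hx,
      fun x hx => mul_mem (mul_mem hs hx) (inv_mem hs)⟩

theorem keep_of_swap {P X Y : Subgroup A} {a : A → A} (ha : Od F P a) (h1 : ∀ x ∈ P, x ∈ X → a x ∈ Y)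
    (h2 : ∀ x ∈ P, x ∈ Y → a x ∈ X) : ∀ x ∈ P, x ∈ X → a x ∈ X := by
  obtain ⟨-, hm, k, ⟨i, rfl⟩, hk⟩ := ha
  intro x hx hX
  have h3 : ∀ n, a^[2 * n] x ∈ X := fun n => by
    induction n with
    | zero => exact hX
    | succ n ih =>
      rw [show 2 * (n + 1) = 2 * n + 1 + 1 from rfl, Function.iterate_succ_apply', Function.iterate_succ_apply']
      exact h2 _ (hm _ (iter_mem hm _ x hx)) (h1 _ (iter_mem hm _ x hx) ih)
  have h4 := h3 (i + 1)
  rwa [show 2 * (i + 1) = 2 * i + 1 + 1 from rfl, Function.iterate_succ_apply', hk x hx] at h4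

theorem od_keep [Finite A] (h : Pair T R) {P : Subgroup A} {a : A → A} (ha : Od F P a) (hd : decP T R P a) :
    (∀ x ∈ P, x ∈ T → a x ∈ T) ∧ ∀ x ∈ P, x ∈ R → a x ∈ R := by
  obtain ⟨s, hs⟩ := hd
  have h1 : ∀ x, a x = s * (s⁻¹ * a x * s) * s⁻¹ := fun x => by group
  rcases h.cj s with h2 | h2
  · exact ⟨fun x hx hT => by rw [h1]; exact h2.1 _ ((hs x hx).2.1 hT),
      fun x hx hR => by rw [h1]; exact h2.2 _ ((hs x hx).2.2 hR)⟩
  · have h3 : ∀ x ∈ P, x ∈ T → a x ∈ R := fun x hx hT => by rw [h1]; exact h2.1 _ ((hs x hx).2.1 hT)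
    have h4 : ∀ x ∈ P, x ∈ R → a x ∈ T := fun x hx hR => by rw [h1]; exact h2.2 _ ((hs x hx).2.2 hR)
    exact ⟨keep_of_swap ha h3 h4, keep_of_swap ha h4 h3⟩

theorem eq_one_of_odd {Q : Type*} [Group Q] (hQ : IsPGroup 2 Q) {g : Q} (hg : Odd (orderOf g)) : g = 1 := by
  obtain ⟨e, he⟩ := hQ g
  rw [← orderOf_eq_one_iff]
  exact Nat.eq_one_of_dvd_coprimes (Nat.Coprime.pow_right e (Nat.coprime_two_right.2 hg)) dvd_rfl
    (orderOf_dvd_of_pow_eq_one he)

/-- an odd automorphism which is inner modulo a normal subgroup is trivial modulo it -/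
theorem od_mod [Finite A] (hA : IsPGroup 2 A) {U : Subgroup A} [U.Normal] {P : Subgroup A} {a : A → A} (ha : Od F P a)
    {s : A} (hs : ∀ x ∈ P, x⁻¹ * (s⁻¹ * a x * s) ∈ U) : ∀ x ∈ P, x⁻¹ * a x ∈ U := by
  obtain ⟨-, hm, k, hk, h1⟩ := ha
  obtain ⟨j, hj, h2⟩ := odd_inducer (f := fun x : A => (x : A ⧸ U)) (g := (s : A ⧸ U)) hm hk h1 fun x hx => by
    have h3 := QuotientGroup.eq.2 (hs x hx)
    rw [h3, QuotientGroup.mk_mul, QuotientGroup.mk_mul, QuotientGroup.mk_inv]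
    group
  intro x hx
  have h3 := h2 x hx
  rw [eq_one_of_odd (hA.to_quotient U) hj, one_mul, inv_one, mul_one] at h3
  exact QuotientGroup.eq.1 h3.symm

theorem stronglyClosed_of_od [Finite A] (hA : IsPGroup 2 A) {B X : Subgroup A} {E : FusionSystem B}
    (hE : E.IsSaturated 2) (hX : X ≤ B) (hn : ∀ s ∈ B, ∀ x ∈ X, s * x * s⁻¹ ∈ X)
    (h : ∀ P a, Od E P a → ∀ x ∈ P, x ∈ X → a x ∈ X) : E.StronglyClosed X := by
  have key := gen_odd (hA.to_subgroup B) hE (M := fun P f => ∀ x ∈ P, x ∈ X ↔ f x ∈ X)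
    ⟨fun P f g _ h1 he x hx => by rw [he x hx]; exact h1 x hx,
      fun P Q f g _ _ h1 h2 h3 x hx => (h1 x hx).trans (h2 _ (h3 x hx)),
      fun P R f g _ h1 _ h2 _ y hy => by
        obtain ⟨x, hx, rfl, h3⟩ := h2 y hy
        rw [h3]
        exact (h1 x hx).symm,
      fun P _ s hs x _ => ⟨hn s hs x, fun h1 => by
        have h2 := hn s⁻¹ (B.inv_mem hs) _ h1
        have h3 : s⁻¹ * (s * x * s⁻¹) * s⁻¹⁻¹ = x := by group
        rwa [h3] at h2⟩⟩
    fun P a ha x hx => ⟨h P a ha x hx, fun h1 => by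
      obtain ⟨k, ⟨i, rfl⟩, hk⟩ := ha.2.2
      have h2 : ∀ n, a^[n] (a x) ∈ X := fun n => by
        induction n with
        | zero => exact h1
        | succ n ih =>
          rw [Function.iterate_succ_apply']
          exact h P a ha _ (iter_mem ha.2.1 n _ (ha.2.1 x hx)) ih
      have h3 : a^[2 * i + 1] x ∈ X := h2 (2 * i)
      rwa [hk x hx] at h3⟩
  exact stronglyClosed_of_mp hX fun P f hf hP x hx => (key P f hf x hx).1 (hP hx)

/-- the splitting property is symmetric -/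
theorem spl_symm [Finite A] (hA : IsPGroup 2 A) {B : Subgroup A} {E : FusionSystem B} (hE : E.IsSaturated 2)
    (hi : E.HasPPowerIndexIn F 2) (hT : E.StronglyClosed T) (hR : E.StronglyClosed R)
    (hc : ∀ x ∈ T, ∀ y ∈ R, x * y = y * x) (h : Spl F T R) : Spl F R T := by
  have : Fact (Nat.Prime 2) := ⟨Nat.prime_two⟩
  intro ρ hρ
  have hρ' : Od E R ρ := Od.of_index hi hR.1 hρ
  have hfin : Finite B := inferInstance
  have hfn : E.IsFullyNormalized R := isFullyNormalized_of_normal E hR.1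
    fun s hs x hx => H759.StronglyClosed.conj_mem hR hs hx
  obtain ⟨k, hk, h1⟩ := mp_extend_of_fullyCentralized (hA.to_subgroup B) hE
    (H802.isFullyCentralized_of_isFullyNormalized (hA.to_subgroup B) hE hfn) hρ'.1
    (fun y => ⟨fun hy => hρ'.1.surj hρ'.2.1 hy, fun ⟨x, hx, h2⟩ => h2 ▸ hρ'.2.1 x hx⟩) (N := T ⊔ R) le_sup_right
    (sup_le hT.1 hR.1) fun g hg => by
      obtain ⟨t, ht, r, hr, rfl⟩ := (mem_sup_comm hc).1 hg
      have h2 : ∀ x ∈ R, t * r * x * (t * r)⁻¹ = r * x * r⁻¹ := fun x hx => by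
        have h3 : t * r * x * (t * r)⁻¹ = t * (r * x * r⁻¹) * t⁻¹ := by group
        rw [h3, hc t ht _ (mul_mem (mul_mem hr hx) (inv_mem hr)), mul_inv_cancel_right]
      refine ⟨fun x hx => by rw [h2 x hx]; exact mul_mem (mul_mem hr hx) (inv_mem hr), ρ r, hR.1 (hρ'.2.1 r hr),
        fun x hx => ?_⟩
      rw [h2 x hx, hρ'.1.mul (mul_mem hr hx) (inv_mem hr), hρ'.1.mul hr hx, hρ'.1.inv hr]
  have hkT : ∀ x ∈ T, k x ∈ T := fun x hx => mp_mem_of_stronglyClosed hT hk ((le_sup_left : T ≤ _) hx) hx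
  have hkR : ∀ x ∈ R, k x ∈ R := fun x hx => mp_mem_of_stronglyClosed hR hk ((le_sup_right : R ≤ _) hx) hx
  have hkU : ∀ x ∈ T ⊔ R, k x ∈ T ⊔ R := hk.mem_sup (fun x hx => (le_sup_left : T ≤ _) (hkT x hx))
    fun x hx => (le_sup_right : R ≤ _) (hkR x hx)
  obtain ⟨n, hn, h2⟩ := hρ'.2.2
  obtain ⟨j, hj, -, ho⟩ := exists_od hk hkU hn
  have h3 : ∀ x ∈ R, k^[j] x = ρ x := fun x hx => by
    rw [iter_congr hρ'.2.1 h1 j x hx, iter_mod (h2 x hx) hj]
    rfl
  obtain ⟨g, hg, h4, h5⟩ := h k^[j] ((ho.res le_sup_left (iter_mem hkT j)).mono hi.1)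
  obtain ⟨l, hl, h6, -⟩ := exists_inv_split hg (fun x hx => by rw [h4 x hx]; exact iter_mem hkT j x hx) h5
  refine ⟨fun x => l (k^[j] x), ?_, fun x hx => ?_, fun x hx => ?_⟩
  · rw [sup_comm] at hl ⊢
    exact (mp_mono hi.1 ho.1).comp hl ho.2.1
  · have h7 := h6 _ ((le_sup_left : R ≤ _) (hρ'.2.1 x hx))
    rw [h5 _ (hρ'.2.1 x hx)] at h7
    show l (k^[j] x) = ρ x
    rw [h3 x hx, h7]
  · show l (k^[j] x) = x
    rw [← h4 x hx, h6 x ((le_sup_right : T ≤ _) hx)]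

/-- a model modulo `R` with the order of `K` -/
theorem exists_md [Finite A] (hA : IsPGroup 2 A) (hI : IH (Nat.card A)) {B : Subgroup A} {E : FusionSystem B}
    (hE : E.IsSaturated 2) (hi : E.HasPPowerIndexIn F 2) (hR : E.StronglyClosed R) (hR1 : R ≠ ⊥)
    (hc : ∀ x ∈ T, ∀ y ∈ R, x * y = y * x) (hinf : T ⊓ R = ⊥) (hUB : T ⊔ R ≤ B)
    (hUn : ∀ s ∈ B, ∀ u ∈ T ⊔ R, s * u * s⁻¹ ∈ T ⊔ R) (hH : F.hyperfocalSubgroup 2 ≤ T ⊔ R) :
    ∃ (G : Type) (_ : Group G) (_ : Finite G) (f : A → G) (K : Subgroup G) (_ : K.Normal) (m : ℕ),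
      Md F B (T ⊔ R) R f K ∧ Odd m ∧ Nat.card K = Nat.card T * m := by
  obtain ⟨G, _, _, f, hf⟩ := exists_fac (hA.to_subgroup B) hI hE hR (by
    have h1 := card_inf_mul_relIndex R B
    rw [inf_eq_left.2 hR.1] at h1
    have h2 : 1 < Nat.card R := (Subgroup.one_lt_card_iff_ne_bot R).2 hR1
    have h3 : Nat.card B ≤ Nat.card A := Subgroup.card_le_card_group B
    have h4 : 0 < Nat.card B := Nat.card_pos
    have h5 : 0 < R.relIndex B := Nat.pos_of_ne_zero fun h => by rw [h, mul_zero] at h1; omega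
    nlinarith)
  obtain ⟨K, hK⟩ := hf.exists_ker hUB le_sup_right hUn ((H770.hyp_mono hi.1 2).trans hH)
  have hTB : T ≤ B := le_sup_left.trans hUB
  obtain ⟨m, hm, h1⟩ := hK.card (hf.mul.im T) fun y => by
    rw [hf.mul.mem_im hTB]
    refine ⟨fun ⟨x, hx, h2⟩ => ⟨x, (le_sup_left : T ≤ _) hx, h2⟩, ?_⟩
    rintro ⟨x, hx, rfl⟩
    obtain ⟨t, ht, r, hr, rfl⟩ := (mem_sup_comm hc).1 hx
    exact ⟨t, ht, by rw [hf.mul t (hTB ht) r (hR.1 hr), (hf.ker r (hR.1 hr)).2 hr, mul_one]⟩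
  rw [hf.mul.card_im hTB fun x hx h2 => by
    have h3 : x ∈ T ⊓ R := ⟨hx, (hf.ker x (hTB hx)).1 h2⟩
    rwa [hinf, Subgroup.mem_bot] at h3] at h1
  exact ⟨G, inferInstance, inferInstance, f, K, hK.normal, m, md_of_fac hi hf hK, hm, h1⟩

end pair

/-- **BoxFP.** -/
theorem boxFP : BoxFP := by
  intro A _ _ hA hI F T R hF hP hd hS
  have : Fact (Nat.Prime 2) := ⟨Nat.prime_two⟩
  have hU := pair_normal hP
  have hB := stab_normal hP
  have hUB : T ⊔ R ≤ stab T R := sup_le_stab hP.comm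
  have hH : F.hyperfocalSubgroup 2 ≤ T ⊔ R := hyp_le_of_od fun P a ha => by
    obtain ⟨s, hs⟩ := hd P a ha.1
    exact od_mod hA ha fun x hx => (hs x hx).1
  have hk := fun P a (ha : Od F P a) => od_keep hP ha (hd P a ha.1)
  have hmain : ∀ B : Subgroup A, B = stab T R → ∃ E : FusionSystem B, E.IsSaturated 2 ∧ E.HasPPowerIndexIn F 2 ∧
      E.StronglyClosed T ∧ E.StronglyClosed R := by
    rintro _ rfl
    obtain ⟨E, ⟨hE, hi⟩, -⟩ := S5113.result 2 (hA.to_subgroup ⊤) F hF (stab T R) le_top (hH.trans hUB)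
    exact ⟨E, hE, hi, stronglyClosed_of_od hA hE (le_sup_left.trans hUB) (fun s hs => (mem_stab.1 hs).1)
      fun P a ha => (hk P a (ha.mono hi.1)).1, stronglyClosed_of_od hA hE (le_sup_right.trans hUB)
      (fun s hs => (mem_stab.1 hs).2) fun P a ha => (hk P a (ha.mono hi.1)).2⟩
  obtain ⟨E, hE, hi, hT, hR⟩ := hmain _ rfl
  have h2 : Two F T R := ⟨hP.inf, hP.comm, fun P a ha => (hk P a ha).1, fun P a ha => (hk P a ha).2, hS,
    spl_symm hA hE hi hT hR hP.comm hS⟩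
  obtain ⟨G, _, _, f, K, _, m, hf, hm, hc⟩ := exists_md hA hI hE hi hR hP.neR hP.comm hP.inf hUB
    (fun s _ u hu => hU.conj_mem u hu s) hH
  by_cases htop : stab T R = ⊤
  · obtain ⟨G', _, _, f', K', _, m', hf', hm', hc'⟩ := exists_md (T := R) (R := T) hA hI hE hi hT hP.neT h2.symm.comm
      h2.symm.inf (by rwa [sup_comm]) (by rw [sup_comm]; exact fun s _ u hu => hU.conj_mem u hu s) (by rwa [sup_comm])
    rw [htop] at hf hf'
    rw [sup_comm] at hf'
    exact real_prod hA hF h2 hf hf' hm hm' hc hc'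
  · obtain ⟨t, -, ht⟩ := SetLike.not_le_iff_exists.1 fun h => htop (top_le_iff.1 h)
    have ht' : t⁻¹ ∉ stab T R := fun h => ht ((stab T R).inv_mem_iff.1 h)
    have htR : ∀ x, x ∈ T ↔ t⁻¹ * x * t ∈ R := fun x => ⟨fun hx => by
      have h3 := (swap_of_not hP ht').1 x hx
      rwa [inv_inv] at h3, fun hx => by
      have h3 := (swap_of_not hP ht).2 _ hx
      have h4 : t * (t⁻¹ * x * t) * t⁻¹ = x := by group
      rwa [h4] at h3⟩
    refine real_wr hA hF h2 hUB ht (mul_mem_stab hP) htR hH hf hm hc (Nat.card_congr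
      ⟨fun x => ⟨t * x * t⁻¹, (swap_of_not hP ht).2 _ x.2⟩, fun x => ⟨t⁻¹ * x * t, (htR _).1 x.2⟩,
        fun x => Subtype.ext ?_, fun x => Subtype.ext ?_⟩)
    · show t⁻¹ * (t * x * t⁻¹) * t = x
      group
    · show t * (t⁻¹ * x * t) * t⁻¹ = x
      group

end Cfsg.Agent.FS.N.R
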