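import Cfsg.Agent.FS.N.R.Fac

/-!
# The boxes of the case `T / V = UT₃(4)` of `BoxR3` (helper6, project FS, folder FS/N/R)
-/

set_option autoImplicit false

namespace Cfsg.Agent.FS.N.R

open Cfsg Cfsg.FusionSystem Cfsg.Agent.H752 Cfsg.Agent.FS.Th Cfsg.Agent.FS.Real

/-- the centre of `H`, as a subgroup of the ambient group -/
def zc {G : Type*} [Group G] (H : Subgroup G) : Subgroup G := H ⊓ Subgroup.centralizer (H : Set G)

theorem mem_zc {G : Type*} [Group G] {H : Subgroup G} {z : G} : z ∈ zc H ↔ z ∈ H ∧ ∀ y ∈ H, y * z = z * y := Iff.rfl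

/-- facts on `UT₃(4)` -/
structure UT {G : Type*} [Group G] (H : Subgroup G) : Prop where
  card : Nat.card H = 64
  cardZ : Nat.card (zc H) = 4
  sqZ : ∀ z ∈ zc H, z * z = 1
  cl2 : ∀ x ∈ H, ∀ y ∈ H, x * y * x⁻¹ * y⁻¹ ∈ zc H
  cen : ∀ x ∈ H, x ∉ zc H → x * x = 1 →
    Nat.card ↥(H ⊓ Subgroup.centralizer {x}) = 16 ∧ ∀ y ∈ H, x * y = y * x → y * y = 1
  three : ∀ x ∈ H, ∀ y ∈ H, ∀ z ∈ H, x * x = 1 → y * y = 1 → z * z = 1 →
    x * y = y * x ∨ y * z = z * y ∨ x * z = z * x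

/-- the group facts for the presentation `D` -/
def BoxUT (D : PcD) : Prop := ∀ (G : Type) [Group G] (H : Subgroup G) (x : ℕ → G), Gen D H x → UT H

/-- central extensions: the model `f` of `E / V` lifts to a model `j` of `E` -/
def BoxCE : Prop :=
  ∀ (A : Type) [Group A] [Finite A], IsPGroup 2 A → ∀ (T V : Subgroup A) (E : FusionSystem T), E.IsSaturated 2 →
    E.IsCentral V → ∀ (G : Type) [Group G] [Finite G] (f : A → G), Fac E V f →
      ∃ (L : Type) (_ : Group L) (_ : Finite L) (p : L →* G) (j : A → L), Function.Surjective p ∧ Fac E ⊥ j ∧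
        (∀ x ∈ T, p (j x) = f x) ∧ (∀ l, p l = 1 → ∃ v ∈ V, l = j v) ∧ ∀ v ∈ V, ∀ l, j v * l = l * j v

/-- the data for the gluing of `L` and `M` along `T` (pure group theory) -/
structure Glu {A M L G : Type} [Group A] [Group M] [Group L] [Group G] (T R : Subgroup A) (ι : A →* M) (f : A →* G)
    (j : A → L) (p : L →* G) (τ : G) : Prop where
  pg : IsPGroup 2 A
  inj : Function.Injective ι
  syl : ∃ S : Sylow 2 M, (S : Subgroup M) = ι.range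
  nT : (T.map ι).Normal
  nR : (R.map ι).Normal
  cM : ∀ m : M, (∀ u ∈ T ⊔ R, m * ι u = ι u * m) → m ∈ (T ⊔ R).map ι
  comm : ∀ x ∈ T ⊔ R, ∀ r ∈ R, x * r = r * x
  ker : ∀ x, f x = 1 ↔ x ∈ R
  mul : MulOn T j
  jinj : ∀ x ∈ T, j x = 1 → x = 1
  jsyl : ∃ S : Sylow 2 L, ∀ y, y ∈ (S : Subgroup L) ↔ ∃ x ∈ T, j x = y
  pj : ∀ x ∈ T, p (j x) = f x
  pker : ∀ l, p l = 1 → ∃ v ∈ T ⊓ R, l = j v
  cen : ∀ v ∈ T ⊓ R, ∀ l, j v * l = l * j v
  nN : p.range.Normal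
  cG : Subgroup.centralizer ((T.map f : Subgroup G) : Set G) ≤ T.map f
  bor : ∀ g ∈ p.range, g ∈ Subgroup.normalizer ((T.map f : Subgroup G) : Set G) → ∃ x ∈ T, ∃ e : ℕ, g = f x * τ ^ e
  tN : τ ∈ p.range
  tn : τ ∈ Subgroup.normalizer ((T.map f : Subgroup G) : Set G)
  t3 : τ ^ 3 = 1
  fpf : ∀ y ∈ T.map f, τ * y = y * τ → y = 1
  down : ∀ m : M, ∃ h : G, ∀ x ∈ T, ∀ y, ι y = m * ι x * m⁻¹ → f y = h * f x * h⁻¹
  up : ∀ l : L, (∀ x ∈ T, ∃ y ∈ T, j y = l * j x * l⁻¹) →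
    ∃ m : M, (∀ x ∈ T, ∀ y ∈ T, j y = l * j x * l⁻¹ → ι y = m * ι x * m⁻¹) ∧ ∀ r ∈ R, m * ι r = ι r * m

/-- the glued group -/
structure Gld {A M L G H : Type} [Group A] [Group M] [Group L] [Group G] [Group H] (T R : Subgroup A) (ι : A →* M)
    (f : A →* G) (j : A → L) (p : L →* G) (lam : L →* H) (μ : M →* H) (q : H →* G) : Prop where
  inj : Function.Injective μ
  linj : Function.Injective lam
  am : ∀ x ∈ T, lam (j x) = μ (ι x)
  dec : ∀ g, ∃ l m, g = lam l * μ m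
  nor : lam.range.Normal
  comm : ∀ l, ∀ r ∈ R, lam l * μ (ι r) = μ (ι r) * lam l
  inf : ∀ l m, lam l = μ m → m ∈ T.map ι
  ql : ∀ l, q (lam l) = p l
  qm : ∀ x ∈ T ⊔ R, q (μ (ι x)) = f x
  syl : ∃ S : Sylow 2 H, (S : Subgroup H) = (μ.comp ι).range

def BoxPG : Prop :=
  ∀ (A M L G : Type) [Group A] [Group M] [Group L] [Group G] [Finite M] [Finite L] [Finite G] (T R : Subgroup A)
    (ι : A →* M) (f : A →* G) (j : A → L) (p : L →* G) (τ : G), Glu T R ι f j p τ →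
      ∃ (H : Type) (_ : Group H) (_ : Finite H) (lam : L →* H) (μ : M →* H) (q : H →* G), Gld T R ι f j p lam μ q

/-- the maps on the subgroups of `U` -/
def BoxAU : Prop :=
  ∀ (A : Type) [Group A] [Finite A], IsPGroup 2 A → ∀ (F F' : Sys A) (U R : Subgroup A), F.IsSaturated 2 →
    F.IsNormal R → F.StronglyClosed U → R ≤ U → (∀ x ∈ U, ∀ r ∈ R, x * r = r * x) → (∀ a, Mp F U a → Mp F' U a) →
    (∀ P a, R ≤ P → P ≤ U → Mp F P a → ∃ b, Mp F P b ∧ Mp F' P b ∧ ∀ x ∈ P, (a x)⁻¹ * b x ∈ R) →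
      ∀ P a, P ≤ U → Mp F P a → Mp F' P a

/-- the data for the comparison of two systems -/
structure Agr {A G : Type} [Group A] [Group G] (F F' : Sys A) (U R : Subgroup A) (f : A →* G) (τ : G) : Prop where
  sat : F.IsSaturated 2
  sat' : F'.IsSaturated 2
  nR : F.IsNormal R
  sc : F.StronglyClosed U
  le : R ≤ U
  comm : ∀ x ∈ U, ∀ r ∈ R, x * r = r * x
  idx : U.index ∣ 2
  fac : Fac F R f
  ut : UT (U.map f)
  nz : ∀ g : G, (∀ z ∈ zc (U.map f), g * z * g⁻¹ ∈ zc (U.map f)) →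
    g ∈ Subgroup.normalizer ((U.map f : Subgroup G) : Set G)
  h1 : ∀ P : Subgroup G, P ≤ U.map f → Nat.card P = 16 → (∀ x ∈ P, x * x = 1) → ∀ s, s ∉ U →
    (∀ x ∈ P, f s * x * (f s)⁻¹ ∈ P) → ∀ x ∈ P, f s * x = x * f s → ∃ y ∈ P, x = f s * y * (f s)⁻¹ * y⁻¹
  tn : τ ∈ Subgroup.normalizer ((U.map f : Subgroup G) : Set G)
  t3 : τ ^ 3 = 1
  fpf : ∀ y ∈ U.map f, τ * y = y * τ → y = 1
  low : ∀ P a, P ≤ U → (Mp F P a ↔ Mp F' P a)
  high : ∀ P a, U ≤ P → Mp F P a → Mp F' P a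

def BoxAG : Prop :=
  ∀ (A G : Type) [Group A] [Finite A] [Group G] [Finite G], IsPGroup 2 A → ∀ (F F' : Sys A) (U R : Subgroup A)
    (f : A →* G) (τ : G), Agr F F' U R f τ → ∀ P a, Mp F P a → Mp F' P a

end Cfsg.Agent.FS.N.R
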