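import Cfsg.Agent.FS.N.R.Good
import Cfsg.Agent.FS.N.R.Box
import Cfsg.Agent.H759.FusSolvable

/-!
# The case `S = T × X` with `X` nonabelian of order `8` (helper6, project FS, folder FS/N/R)
-/

set_option autoImplicit false

namespace Cfsg.Agent.FS.N.R

open Cfsg Cfsg.FusionSystem Cfsg.Agent.H752 Cfsg.Agent.FS.Th Cfsg.Agent.FS.Real

variable {A : Type} [Group A] [Finite A] {F : Sys A}

omit [Finite A] in
theorem comm_of_relIndex {X : Subgroup A} (h : (zc X).relIndex X ∣ 2) : ∀ x ∈ X, ∀ y ∈ X, x * y = y * x := by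
  intro x hx y hy
  by_cases h1 : x ∈ zc X
  · exact (h1.2 y hy).symm
  by_cases h2 : y ∈ zc X
  · exact h2.2 x hx
  rcases (Nat.dvd_prime Nat.prime_two).1 h with h | h
  · exact absurd (Subgroup.relIndex_eq_one.1 h hx) h1
  · have h4 : x⁻¹ * y ∈ zc X := (Subgroup.mul_mem_iff_of_index_two h (a := (⟨x, hx⟩ : X)⁻¹) (b := ⟨y, hy⟩)).2 (by
      rw [inv_mem_iff]
      exact ⟨fun k => absurd k h1, fun k => absurd k h2⟩)
    have h5 := h4.2 x hx
    rw [mul_inv_cancel_left] at h5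
    calc x * y = x * (x⁻¹ * y * x) := by rw [← h5]
      _ = y * x := by group

theorem card_zc (hA : IsPGroup 2 A) {X : Subgroup A} [X.Normal] (h8 : Nat.card X = 8)
    (hn : ¬ ∀ x ∈ X, ∀ y ∈ X, x * y = y * x) : Nat.card (zc X) = 2 := by
  have : Fact (Nat.Prime 2) := ⟨Nat.prime_two⟩
  have h1 := card_inf_mul_relIndex (zc X) X
  rw [inf_eq_left.2 (show zc X ≤ X from inf_le_left), h8] at h1
  have h2 : ¬ (zc X).relIndex X ∣ 2 := fun k => hn (comm_of_relIndex k)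
  obtain ⟨z, hz, hzc, hz1⟩ := GTwoFour.Tools.exists_mem_center_of_normal hA X (by
    rintro rfl
    rw [Subgroup.card_bot] at h8
    omega)
  have h3 : 1 < Nat.card (zc X) := (Subgroup.one_lt_card_iff_ne_bot _).2 fun e => hz1 (Subgroup.mem_bot.1 (by
    rw [← e]
    exact ⟨hz, fun y _ => Subgroup.mem_center_iff.1 hzc y⟩))
  obtain ⟨i, hi, h4⟩ := (Nat.dvd_prime_pow Nat.prime_two (m := 3)).1 ⟨_, h1.symm⟩
  rw [h4] at h1 h3 ⊢
  interval_cases i
  · omega
  · rfl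
  · exact absurd (by rw [show (zc X).relIndex X = 2 by omega]) h2
  · exact absurd (by rw [show (zc X).relIndex X = 1 by omega]; exact one_dvd _) h2

theorem zc_iff {X : Subgroup A} {a : A → A} (ha : Mp F X a) (hm : ∀ x ∈ X, a x ∈ X) {x : A} (hx : x ∈ X) :
    x ∈ zc X ↔ a x ∈ zc X := by
  refine ⟨fun h => ⟨hm x hx, fun y hy => ?_⟩, fun h => ⟨hx, fun y hy => ?_⟩⟩
  · obtain ⟨w, hw, rfl⟩ := ha.surj hm hy
    rw [← ha.mul hw hx, ← ha.mul hx hw, h.2 w hw]
  · refine ha.inj (X.mul_mem hy hx) (X.mul_mem hx hy) ?_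
    rw [ha.mul hy hx, ha.mul hx hy]
    exact h.2 _ (hm y hy)

omit [Finite A] in
theorem bot_iff {X : Subgroup A} {a : A → A} (ha : Mp F X a) {x : A} (hx : x ∈ X) :
    x ∈ (⊥ : Subgroup A) ↔ a x ∈ (⊥ : Subgroup A) :=
  ⟨fun k => by rw [Subgroup.mem_bot.1 k, ha.one]; exact Subgroup.one_mem _,
    fun k => ha.inj hx X.one_mem ((Subgroup.mem_bot.1 k).trans ha.one.symm)⟩

theorem real_swap (hA : IsPGroup 2 A) (hI : IH (Nat.card A)) (hF : F.IsSaturated 2) (hc : F.center = ⊥)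
    {T X : Subgroup A} (hT : F.StronglyClosed T) (hX : F.StronglyClosed X) (hT1 : T ≠ ⊥) (hsup : X ⊔ T = ⊤)
    (h8 : Nat.card X = 8) (hn : ¬ ∀ x ∈ X, ∀ y ∈ X, x * y = y * x) (hV : F.IsNormal (T ⊓ X)) (hVX : T ⊓ X ≤ zc X)
    (hQX : F.core ≤ X) (h4 : 4 ≤ Nat.card F.core) : F.IsRealizable 2 := by
  have : Fact (Nat.Prime 2) := ⟨Nat.prime_two⟩
  have hS : IsPGroup 2 (⊤ : Subgroup A) := hA.to_subgroup _
  have nT := normal_of_sc hT
  have nX := normal_of_sc hX
  have hQ : F.IsNormal F.core := H759.isNormal_core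
  have sQ := H759.IsNormal.stronglyClosed hQ
  have nQ := normal_of_sc sQ
  have h2 := card_zc hA h8 hn
  have hi : T ⊓ X = ⊥ := bot_of_card hA hF hc hV (h2 ▸ Subgroup.card_dvd_of_le hVX)
  have hz : ∀ a, Mp F X a → ∀ x ∈ zc X, a x = x := fun a ha x hx => by
    have hm : ∀ x ∈ X, a x ∈ X := fun x hx => mp_mem_of_stronglyClosed hX ha hx hx
    exact (inv_mul_eq_one.1 (Subgroup.mem_bot.1 (mod_of_index (P := X) (Y := ⊥) (X := zc X) (a := a)
      (by rw [Subgroup.relIndex_bot_left, h2]) (fun y hy k => (zc_iff ha hm hy).1 k) (fun y hy => bot_iff ha hy) hx.1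
      hx))).symm
  obtain ⟨z, hz1, hzc, hz2⟩ := GTwoFour.Tools.exists_mem_center_of_normal hA F.core (by
    intro e
    rw [e, Subgroup.card_bot] at h4
    omega)
  have hz3 : z ∈ zc X := ⟨hQX hz1, fun y _ => Subgroup.mem_center_iff.1 hzc y⟩
  have h5 := card_inf_mul_relIndex F.core X
  rw [inf_eq_left.2 hQX, h8] at h5
  have hne : F.core.relIndex X ≠ 1 := fun e => by
    have h6 : F.core = X := le_antisymm hQX (Subgroup.relIndex_eq_one.1 e)
    exact hz2 (one_of_fix hS hF hc hQ hz1 fun a ha => hz a (h6 ▸ ha) z hz3)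
  have h6 : F.core.relIndex X = 2 := by
    have h7 : F.core.relIndex X ≠ 0 := fun e => by rw [e] at h5; omega
    have h9 : F.core.relIndex X < 3 := by
      by_contra h9
      have := Nat.mul_le_mul h4 (not_lt.1 h9)
      omega
    omega
  have h7 := card_inf_mul_relIndex (zc X) F.core
  have h9 : Nat.card ↥(zc X ⊓ F.core) = 2 := by
    have h10 : 1 < Nat.card ↥(zc X ⊓ F.core) := (Subgroup.one_lt_card_iff_ne_bot _).2 fun e => hz2 (Subgroup.mem_bot.1 (by
      rw [← e]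
      exact ⟨hz3, hz1⟩))
    have h11 := Subgroup.card_le_of_le (inf_le_left : zc X ⊓ F.core ≤ zc X)
    omega
  rw [h6] at h5
  rw [h9] at h7
  refine real_of_pair hA hI hF hX hT (fun e => by rw [e, Subgroup.card_bot] at h8; omega) hT1
    (by rw [inf_comm, hi]) (fun x hx y hy => (Subgroup.commute_of_normal_of_disjoint X T nX nT
      (by rw [disjoint_iff, inf_comm, hi]) x y hx hy).eq) (by rw [hsup]; exact le_top) fun a ha => ?_
  refine ⟨fun x => x, mp_id F le_top, fun x hx => ?_, fun _ _ => rfl⟩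
  have hq : ∀ x ∈ X, x ∈ F.core ↔ a x ∈ F.core := fun x hx =>
    ⟨mp_mem_of_stronglyClosed sQ ha.1 hx, mp_mem_of_stronglyClosed' sQ ha.1 hx⟩
  have h10 : ∀ x ∈ X, x⁻¹ * a x ∈ zc X := fun x hx => D.Od.two hS ha (Q := F.core)
    (fun y hy => mod_of_index (P := X) (by rw [h6]) (fun w hw _ => ha.2.1 w hw) hq hy hy)
    (fun y hy k => mod_of_index (P := X) (by rw [show (zc X).relIndex F.core = 2 by omega])
      (fun w hw k => (hq w hw).1 k) (fun w hw => zc_iff ha.1 ha.2.1 hw) hy k) hx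
  exact inv_mul_eq_one.1 (Subgroup.mem_bot.1 (D.Od.two hS ha h10 (fun y _ k => by
    rw [hz a ha.1 y k, inv_mul_cancel]
    exact Subgroup.one_mem _) hx))

end Cfsg.Agent.FS.N.R
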