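import Cfsg.Agent.FS.N.R.Cf
import Cfsg.Agent.FS.N.R.Swap

/-!
# `BoxR3` from the boxes (helper6, project FS, folder FS/N/R)
-/

set_option autoImplicit false

namespace Cfsg.Agent.FS.N.R

open Cfsg Cfsg.FusionSystem Cfsg.Agent.H752 Cfsg.Agent.FS.Th Cfsg.Agent.FS.Real

theorem comm_bot {A : Type*} [Group A] {X : Subgroup A} (h : ∀ x ∈ X, ∀ y ∈ X, x * y = y * x) : ⁅X, X⁆ = ⊥ :=
  le_bot_iff.1 (Subgroup.commutator_le.2 fun x hx y hy => by
    rw [commutatorElement_def, h x hx y hy, mul_inv_cancel_right, mul_inv_cancel]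
    exact Subgroup.one_mem _)

variable {A B : Type} [Group A] [Finite A] [Group B] [Finite B] {F : Sys A} {T R : Subgroup A} {E : FusionSystem T}
  {π : A →* B} {F' : Sys B} {E' : FusionSystem (T.map π)}

theorem Su.core_inf (h : Su F T R E) (hA : IsPGroup 2 A) (hB : IsPGroup 2 B) (hk : ∀ x, π x = 1 ↔ x ∈ R)
    (hF' : Fq F R π F') (hE' : Fq E (T ⊓ R) π E') : T.map π ⊓ F'.core = ⊥ := by
  have : Fact (Nat.Prime 2) := ⟨Nat.prime_two⟩
  have hn := h.nor_fq hA hF' hE'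
  have hQ : F'.IsNormal F'.core := H759.isNormal_core
  have n1 := normal_of_sc hn.1.2.2.2.1
  have n2 := normal_of_sc (H759.IsNormal.stronglyClosed hQ)
  by_contra hne
  obtain ⟨z, hz, hzc, hz1⟩ := GTwoFour.Tools.exists_mem_center_of_normal hB _ hne
  have h1 := H759.IsNormal.le_core (H759.isNormal_of_abelian (hB.to_subgroup _) hE'.sat
    (H760.stronglyClosed_inf_sub hn.1.2.2.1 (H759.stronglyClosed_center_of_isNormal hQ)) (comm_bot (by
      rintro _ ⟨-, x, hx, rfl⟩ _ ⟨-, y, -, rfl⟩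
      exact congrArg Subtype.val (Subgroup.mem_center_iff.1 hx y).symm)))
  rw [h.core_eq hA hk hE'] at h1
  exact hz1 (h1 ⟨hz.1, ⟨z, hz.2⟩, Subgroup.mem_center_iff.2 fun y => Subtype.ext (Subgroup.mem_center_iff.1 hzc y), rfl⟩)

/-- the quotient has a nontrivial core -/
theorem Su.real_core (h : Su F T R E) (hA : IsPGroup 2 A) (hI : IH (Nat.card A)) (hc : F.center = ⊥)
    (h4 : 4 ≤ Nat.card F.core) (hB : IsPGroup 2 B) (hπ : Function.Surjective π) (hk : ∀ x, π x = 1 ↔ x ∈ R)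
    (hF' : Fq F R π F') (hE' : Fq E (T ⊓ R) π E') (hq : F'.core ≠ ⊥) (hcard : Nat.card A = Nat.card B * Nat.card R)
    (idx : (T.map π).index = 1 ∨ (T.map π).index = 2 ∧ Nat.card R = 4) : F.IsRealizable 2 := by
  have : Fact (Nat.Prime 2) := ⟨Nat.prime_two⟩
  have hS : IsPGroup 2 (⊤ : Subgroup A) := hA.to_subgroup _
  have hi := h.core_inf hA hB hk hF' hE'
  have sQ := H759.IsNormal.stronglyClosed (H759.isNormal_core (F := F'))
  have n0 := normal_of_sc h.scT
  have n1 := normal_of_sc (h.nor_fq hA hF' hE').1.2.2.2.1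
  have n2 := normal_of_sc sQ
  have h1 := card_inf_mul_relIndex (T.map π) F'.core
  rw [hi, Subgroup.card_bot, one_mul] at h1
  have h2 := Subgroup.relIndex_dvd_index_of_normal (T.map π) F'.core
  have h3 := (Subgroup.one_lt_card_iff_ne_bot _).2 hq
  rw [h1] at h2
  obtain ⟨i2, r4⟩ := idx.resolve_left fun e => by
    rw [e, Nat.dvd_one] at h2
    omega
  rw [i2] at h2
  have h5 : Nat.card F'.core = 2 := le_antisymm (Nat.le_of_dvd two_pos h2) h3
  have hRX : R ≤ F'.core.comap π := fun r hr => show π r ∈ F'.core from (hk r).2 hr ▸ Subgroup.one_mem _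
  have sX : F.StronglyClosed (F'.core.comap π) := by
    have k := H759.stronglyClosed_preimage hS h.sat h.sc hF'.fac sQ
    rwa [pre_rs, top_inf_eq] at k
  have h8 : Nat.card (F'.core.comap π) = 8 := by
    have k1 := Subgroup.card_mul_index (F'.core.comap π)
    have k2 := Subgroup.card_mul_index F'.core
    have k3 : F'.core.index ≠ 0 := Subgroup.index_ne_zero_of_finite
    rw [Subgroup.index_comap_of_surjective _ hπ, hcard, ← k2, h5, r4] at k1
    exact Nat.eq_of_mul_eq_mul_right (Nat.pos_of_ne_zero k3) (k1.trans (by ring))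
  have hb : ∀ x, π x ∈ T.map π → π x ∈ F'.core → x ∈ R := fun x k1 k2 =>
    (hk x).1 (Subgroup.mem_bot.1 (hi ▸ (⟨k1, k2⟩ : π x ∈ T.map π ⊓ F'.core)))
  have hV : T ⊓ F'.core.comap π = T ⊓ R :=
    le_antisymm (fun t ht => ⟨ht.1, hb t ⟨t, ht.1, rfl⟩ ht.2⟩) (inf_le_inf_left _ hRX)
  refine real_swap hA hI h.sat hc h.scT sX (fun e => h.nle (e ▸ bot_le)) (top_le_iff.1 fun g _ => ?_) h8 (fun ab => ?_)
    (hV ▸ h.normalV hA) (fun v hv => ⟨hv.2, fun x hx => ?_⟩) (h.le.trans hRX) h4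
  · have k1 : ∀ y, π y ∈ T.map π → y ∈ F'.core.comap π ⊔ T := fun y hy =>
      (sup_le le_sup_right (hRX.trans le_sup_left) : T ⊔ R ≤ _) (comap_map_of hk ▸ hy)
    by_cases k2 : π g ∈ T.map π
    · exact k1 g k2
    obtain ⟨⟨y, hy⟩, hy1⟩ := Subgroup.ne_bot_iff_exists_ne_one.1 hq
    obtain ⟨x, rfl⟩ := hπ y
    have k3 := k1 (x⁻¹ * g) (by
      rw [map_mul, Subgroup.mul_mem_iff_of_index_two i2, map_inv, inv_mem_iff]
      exact ⟨fun k => absurd (Subtype.ext ((hk x).2 (hb x k hy))) hy1, fun k => absurd k k2⟩)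
    exact (Subgroup.mul_mem_cancel_left _ (inv_mem (le_sup_left (b := T) hy))).1 k3
  · have k1 := Subgroup.card_le_of_le
      ((H759.IsNormal.le_core (H759.isNormal_of_abelian hS h.sat sX (comm_bot ab))).trans h.le)
    omega
  · refine mul_inv_eq_iff_eq_mul.1 (agree_comm (mp_conj F le_top (s := x) trivial) (mp_id F le_top) (fun _ k => k)
      (fun t ht => ?_) v (h.le_comm hA (hV ▸ hv)))
    have k1 : t⁻¹ * (x * t * x⁻¹) ∈ T := T.mul_mem (T.inv_mem ht) (n0.conj_mem t ht x)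
    refine ⟨k1, fun u hu => h.comm u hu _ (hb _ ⟨_, k1, rfl⟩ ?_)⟩
    rw [show t⁻¹ * (x * t * x⁻¹) = t⁻¹ * x * t⁻¹⁻¹ * x⁻¹ by group, map_mul, map_mul, map_mul, map_inv π t⁻¹, map_inv π x]
    exact mul_mem (n2.conj_mem _ hx _) (inv_mem hx)

theorem boxR3_of {dU : PcD} (hU : BoxUT dU) (hCE : BoxCE) (hPG : BoxPG) (hAU : BoxAU) (hAG : BoxAG) : BoxR3 dU := by
  intro hL A _ _ hA h9 hI F hF hc hq hn
  have : Fact (Nat.Prime 2) := ⟨Nat.prime_two⟩
  obtain ⟨T, R, E, h⟩ := exists_su hA hF hn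
  have nR := normal_of_sc h.sc
  have hk : ∀ x, QuotientGroup.mk' R x = 1 ↔ x ∈ R := QuotientGroup.eq_one_iff
  have hπ := QuotientGroup.mk'_surjective R
  have hB : IsPGroup 2 (A ⧸ R) := hA.to_quotient R
  have hcard := Subgroup.card_eq_card_quotient_mul_card_subgroup R
  generalize QuotientGroup.mk' R = π at hk hπ
  obtain ⟨F', hF'⟩ := exists_fq (π := π) hA hF h.sc (fun x _ => hk x) (S' := ⊤) (Subgroup.map_top_of_surjective π hπ).symm
  obtain ⟨E', hE'⟩ := exists_fq (π := π) hA h.satE (H760.stronglyClosed_inf_sub h.sub h.sc)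
    (fun x hx => (hk x).trans ⟨fun k => ⟨hx, k⟩, fun k => k.2⟩) rfl
  obtain ⟨D, hD, k1, k2⟩ := h.exists_pull hA hk hE'
  have h4 : 4 ≤ Nat.card F.core := by
    obtain ⟨n, hn⟩ := IsPGroup.iff_card.1 (hA.to_subgroup F.core)
    by_contra hlt
    refine hq (bot_of_card hA hF hc H759.isNormal_core ?_)
    rw [hn] at hlt ⊢
    rcases n with _ | _ | n
    · exact one_dvd _
    · exact dvd_rfl
    · exact absurd (Nat.pow_le_pow_right two_pos (by omega : 2 ≤ n + 1 + 1)) hlt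
  have hR4 := h4.trans (Subgroup.card_le_of_le h.le)
  have h7 : Nat.card (A ⧸ R) ≤ 2 ^ 7 := by nlinarith
  rcases hL.top _ (hB.to_subgroup _) ((Subgroup.card_le_card_group _).trans h7) D k1 k2 with ⟨w, hG⟩ | hg
  swap
  · exact h.real_good hA hI hc hq fun a ha => h.good_mod hA hk hF' hE' hD hg ha
  have h64 : Nat.card (T.map π) = 64 := Subgroup.card_top.symm.trans (hU _ _ _ hG).card
  have hi := Subgroup.card_mul_index (T.map π)
  have hi0 : (T.map π).index ≠ 0 := Subgroup.index_ne_zero_of_finite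
  obtain ⟨r, hr⟩ := IsPGroup.iff_card.1 (hA.to_subgroup R)
  have h8 : (T.map π).index * Nat.card R ≤ 8 := by
    rw [hcard, ← hi, h64, mul_assoc] at h9
    omega
  have hR : Nat.card R = 4 ∨ Nat.card R = 8 := by
    have k3 : Nat.card R ≤ 8 := le_trans (Nat.le_mul_of_pos_left _ (Nat.pos_of_ne_zero hi0)) h8
    rw [hr] at hR4 k3 ⊢
    have k4 : r ≤ 3 := (Nat.pow_le_pow_iff_right one_lt_two).1 k3
    interval_cases r <;> omega
  have idx : (T.map π).index = 1 ∨ (T.map π).index = 2 ∧ Nat.card R = 4 := by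
    rcases hR with k | k <;> rw [k] at h8 <;> omega
  by_cases ab : ∀ x ∈ R, ∀ y ∈ R, x * y = y * x
  · by_cases hq' : F'.core = ⊥
    · exact h.real_bad hL hU hCE hPG hAU hAG hA hB h7 hπ hk hF' hE'
        (H759.isNormal_of_abelian (hA.to_subgroup _) hF h.sc (comm_bot ab)) ab hq' hG
        (idx.elim (fun k => k ▸ one_dvd _) fun k => k.1 ▸ dvd_rfl)
    · exact h.real_core hA hI hc h4 hB hπ hk hF' hE' hq' hcard idx
  have r8 : Nat.card R = 8 := hR.resolve_left fun k => ab fun x hx y hy =>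
    congrArg Subtype.val (IsPGroup.commutative_of_card_eq_prime_sq (p := 2) k ⟨x, hx⟩ ⟨y, hy⟩)
  have i1 : T.map π = ⊤ := Subgroup.index_eq_one.1 (idx.resolve_right fun k => by omega)
  exact real_swap hA hI hF hc h.scT h.sc (fun e => h.nle (e ▸ bot_le))
    (by rw [sup_comm, ← comap_map_of hk, i1, Subgroup.comap_top]) r8 ab (h.normalV hA)
    (fun v hv => ⟨hv.2, fun y hy => (h.comm v hv.1 y hy).symm⟩) h.le h4

end Cfsg.Agent.FS.N.R
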