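import Cfsg.Agent.FS.N.R.Box

/-!
# The gluing of `L` and `M` along `T` (helper74, project FS, folder FS/N/R)

`boxPG : BoxPG`.
-/

set_option autoImplicit false
set_option linter.unusedSectionVars false

namespace Cfsg.Agent.FS.N.R.PG

open Subgroup

/-! ### generalities -/

section Gen

variable {M G : Type*} [Group M] [Group G]

/-- graphs -/
theorem exists_hom (Γ : Subgroup (M × G)) (inj : ∀ g, (1, g) ∈ Γ → g = 1) (surj : ∀ m, ∃ g, (m, g) ∈ Γ) :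
    ∃ π : M →* G, ∀ m g, (m, g) ∈ Γ ↔ π m = g := by
  choose π h using surj
  have key : ∀ m g, (m, g) ∈ Γ → π m = g := fun m g h1 =>
    inv_mul_eq_one.1 (inj _ (inv_mul_cancel m ▸ mul_mem (inv_mem (h m)) h1))
  exact ⟨MonoidHom.mk' π fun a b => key _ _ (mul_mem (h a) (h b)), fun m g => ⟨key m g, fun e => e ▸ h m⟩⟩

/-- fixed point free action -/
theorem comm_surj {C : Subgroup G} [Finite C] {g : G} (hn : ∀ x ∈ C, g⁻¹ * x * g ∈ C) (h : ∀ x ∈ C, g * x = x * g → x = 1)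
    {z : G} (hz : z ∈ C) : ∃ x ∈ C, x * g * x⁻¹ = g * z := by
  obtain ⟨x, hx⟩ := Finite.surjective_of_injective (f := fun x : C => (⟨g⁻¹ * x * g * (x : G)⁻¹, mul_mem (hn x x.2) (inv_mem x.2)⟩ : C))
    (fun a b e => Subtype.ext (inv_mul_eq_one.1 (h _ (mul_mem (inv_mem a.2) b.2) (by
      have h1 : g⁻¹ * a * g * (a : G)⁻¹ = g⁻¹ * b * g * (b : G)⁻¹ := congrArg Subtype.val e
      calc g * ((a : G)⁻¹ * b) = (a : G)⁻¹ * g * (g⁻¹ * a * g * (a : G)⁻¹) * b := by group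
        _ = _ := by rw [h1]; group)))) ⟨z, hz⟩
  exact ⟨x, x.2, by rw [← show g⁻¹ * x * g * (x : G)⁻¹ = z from congrArg Subtype.val hx]; group⟩

theorem mem_nrm [Finite G] {K : Subgroup G} {g : G} (h : ∀ x ∈ K, g * x * g⁻¹ ∈ K) : g ∈ normalizer (K : Set G) :=
  mem_normalizer_fintype h

theorem nrm_mem {K : Subgroup G} {g x : G} (h : g ∈ normalizer (K : Set G)) (hx : x ∈ K) : g * x * g⁻¹ ∈ K :=
  (mem_normalizer_iff.1 h x).1 hx

theorem nrm_mem' {K : Subgroup G} {g x : G} (h : g ∈ normalizer (K : Set G)) (hx : x ∈ K) : g⁻¹ * x * g ∈ K :=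
  (mem_normalizer_iff''.1 h x).1 hx

theorem cen_conj {K : Subgroup G} {g x : G} (h : g ∈ normalizer (K : Set G)) (hx : x ∈ centralizer (K : Set G)) :
    g⁻¹ * x * g ∈ centralizer (K : Set G) := fun y hy => by
  have h1 := hx _ (nrm_mem h hy)
  calc y * (g⁻¹ * x * g) = g⁻¹ * (g * y * g⁻¹ * x) * g := by group
    _ = _ := by rw [h1]; group

/-- a homomorphism into a `2`-group which kills a Sylow subgroup -/
theorem hom_triv [Finite M] (S : Sylow 2 M) (w : M →* G) (h1 : ∀ x ∈ S, w x = 1) (h2 : ∀ x, ∃ k, w x ^ 2 ^ k = 1) (x : M) :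
    w x = 1 := by
  have h3 : IsPGroup 2 w.range := fun ⟨_, y, rfl⟩ => (h2 y).imp fun _ h => Subtype.ext h
  have : Finite w.range := Finite.of_surjective _ w.rangeRestrict_surjective
  obtain ⟨n, hn⟩ := IsPGroup.iff_card.1 h3
  have h4 := index_dvd_of_le (show (S : Subgroup M) ≤ w.ker from h1)
  rw [index_ker, hn] at h4
  rcases n with _ | n
  · exact (card_eq_one.1 hn).le ⟨x, rfl⟩
  · exact absurd ((dvd_pow_self 2 n.succ_ne_zero).trans h4) S.not_dvd_index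

end Gen

variable {A M L G : Type} [Group A] [Group M] [Group L] [Group G] [Finite M] [Finite L] [Finite G] {T R : Subgroup A}
  {ι : A →* M} {f : A →* G} {j : A → L} {p : L →* G} {τ : G} (h : Glu T R ι f j p τ)
include h

theorem nA {K : Subgroup A} (hK : (K.map ι).Normal) : K.Normal := comap_map_eq_self_of_injective h.inj K ▸ hK.comap ι

theorem dec {u : A} (hu : u ∈ T ⊔ R) : ∃ x ∈ T, ∃ r ∈ R, x * r = u :=
  have := nA h h.nR
  mem_sup_of_normal_right.1 hu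

theorem fU {u : A} (hu : u ∈ T ⊔ R) : f u ∈ T.map f := by
  obtain ⟨x, hx, r, hr, rfl⟩ := dec h hu
  exact ⟨x, hx, by rw [map_mul, (h.ker r).2 hr, mul_one]⟩

theorem mem_U {a : A} (ha : f a ∈ T.map f) : a ∈ T ⊔ R := by
  obtain ⟨x, hx, e⟩ := ha
  exact mul_inv_cancel_left x a ▸ mul_mem_sup hx ((h.ker _).1 (by rw [map_mul, map_inv, e, inv_mul_cancel]))

theorem mem_j {l : L} (hl : p l ∈ T.map f) : ∃ x ∈ T, j x = l := by
  obtain ⟨x, hx, e⟩ := hl
  obtain ⟨v, hv, e'⟩ := h.pker (l * (j x)⁻¹) (by rw [map_mul, map_inv, h.pj x hx, e, mul_inv_cancel])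
  exact ⟨v * x, mul_mem hv.1 hx, by rw [h.mul v hv.1 x hx, ← e', inv_mul_cancel_right]⟩

theorem ker_cen {z : L} (hz : p z = 1) (l : L) : z * l = l * z := by
  obtain ⟨v, hv, rfl⟩ := h.pker z hz
  exact h.cen v hv l

theorem ker_pow {z : L} (hz : p z = 1) : ∃ k, z ^ 2 ^ k = 1 := by
  obtain ⟨v, hv, rfl⟩ := h.pker z hz
  exact (h.pg v).imp fun k e => by rw [← h.mul.pow hv.1, e, h.mul.one]

theorem exists_t : ∃ (s : L) (t : M), p s = τ ∧ (∀ x ∈ T, ∃ y ∈ T, j y = s * j x * s⁻¹ ∧ ι y = t * ι x * t⁻¹) ∧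
    ∀ r ∈ R, t * ι r = ι r * t := by
  obtain ⟨s, hs⟩ := h.tN
  have h1 : ∀ x ∈ T, ∃ y ∈ T, j y = s * j x * s⁻¹ := fun x hx => mem_j h (by
    rw [map_mul, map_mul, map_inv, hs, h.pj x hx]
    exact nrm_mem h.tn ⟨x, hx, rfl⟩)
  obtain ⟨t, h2, h3⟩ := h.up s h1
  exact ⟨s, t, hs, fun x hx => (h1 x hx).imp fun y hy => ⟨hy.1, hy.2, h2 x hx y hy.1 hy.2⟩, h3⟩

/-! ### the homomorphism `M → G` -/

variable (T R ι f) in
/-- the graph of `f` on `T R` -/
abbrev G0 : Subgroup (M × G) := (T ⊔ R).map (ι.prod f)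

theorem nrm_iff {m : M} {g : G} : (m, g) ∈ normalizer (G0 T R ι f : Set (M × G)) ↔
    ∀ x ∈ T, ∀ y, ι y = m * ι x * m⁻¹ → f y = g * f x * g⁻¹ := by
  refine ⟨fun h1 x hx y e => ?_, fun h1 => mem_nrm ?_⟩
  · obtain ⟨u, -, h2⟩ := nrm_mem h1 ⟨x, mem_sup_left hx, rfl⟩
    exact h.inj ((congrArg Prod.fst h2).trans e.symm) ▸ congrArg Prod.snd h2
  · rintro _ ⟨u, hu, rfl⟩
    obtain ⟨x, hx, r, hr, rfl⟩ := dec h hu
    obtain ⟨y, hy, h2⟩ := h.nT.conj_mem _ ⟨x, hx, rfl⟩ m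
    obtain ⟨r', hr', h3⟩ := h.nR.conj_mem _ ⟨r, hr, rfl⟩ m
    refine ⟨y * r', mul_mem_sup hy hr', Prod.ext ?_ ?_⟩
    · show ι (y * r') = m * ι (x * r) * m⁻¹
      rw [map_mul, map_mul, h2, h3]
      group
    · show f (y * r') = g * f (x * r) * g⁻¹
      rw [map_mul, map_mul, (h.ker r).2 hr, (h.ker r').2 hr', mul_one, mul_one, h1 x hx y h2]

theorem cen_iff {g : G} : (1, g) ∈ normalizer (G0 T R ι f : Set (M × G)) ↔ g ∈ centralizer (T.map f : Set G) := by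
  rw [nrm_iff h]
  refine ⟨fun h1 => ?_, fun h1 x hx y e => ?_⟩
  · rintro _ ⟨x, hx, rfl⟩
    exact eq_mul_inv_iff_mul_eq.1 (h1 x hx x (by simp))
  · rw [h.inj (e.trans (by simp) : ι y = ι x), ← h1 _ ⟨x, hx, rfl⟩, mul_inv_cancel_right]

theorem nrm_snd {m : M} {g : G} (h1 : (m, g) ∈ normalizer (G0 T R ι f : Set (M × G))) :
    g ∈ normalizer (T.map f : Set G) := mem_nrm <| by
  rintro _ ⟨x, hx, rfl⟩
  obtain ⟨y, hy, h2⟩ := h.nT.conj_mem _ ⟨x, hx, rfl⟩ m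
  exact ⟨y, hy, (nrm_iff h).1 h1 x hx y h2⟩

theorem nrm_self (a : A) : (ι a, f a) ∈ normalizer (G0 T R ι f : Set (M × G)) := (nrm_iff h).2 fun x _ y e => by
  rw [← map_inv, ← map_mul, ← map_mul] at e ⊢
  rw [h.inj e]

theorem cen_R {m : M} (hm : ∀ r ∈ R, m * ι r = ι r * m) (g : M) : ∀ r ∈ R, g * m * g⁻¹ * ι r = ι r * (g * m * g⁻¹) :=
  fun r hr => by
    obtain ⟨r', hr', h1⟩ := h.nR.conj_mem _ ⟨r, hr, rfl⟩ g⁻¹
    calc g * m * g⁻¹ * ι r = g * (m * (g⁻¹ * ι r * g⁻¹⁻¹)) * g⁻¹ := by group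
      _ = g * (g⁻¹ * ι r * g⁻¹⁻¹ * m) * g⁻¹ := by rw [← h1, hm r' hr']
      _ = _ := by group

/-- an element which is trivial on `U / R` and on `R` -/
theorem mem_of_stab {c : M} (h1 : (c, 1) ∈ normalizer (G0 T R ι f : Set (M × G))) (h2 : c ∈ centralizer (R.map ι : Set M)) :
    ∃ a ∈ T ⊔ R, ι a = c ∧ f a ∈ centralizer (T.map f : Set G) := by
  let K : Subgroup M := (normalizer (G0 T R ι f : Set (M × G))).comap (MonoidHom.inl M G) ⊓ centralizer (R.map ι : Set M)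
  have : K.Normal := ⟨fun c hc m => ⟨?_, ?_⟩⟩
  · have h3 : IsPGroup 2 K := fun c => by
      have := Finite.of_injective _ h.inj
      obtain ⟨k, hk⟩ := IsPGroup.iff_card.1 h.pg
      obtain ⟨a, -, ha⟩ := h.cM (c.1 ^ 2 ^ k) fun u hu => by
        obtain ⟨y, -, h4⟩ := nrm_mem c.2.1 ⟨u, hu, rfl⟩
        have h5 : ι y = c * ι u * (c : M)⁻¹ := congrArg Prod.fst h4
        have h6 : u⁻¹ * y ∈ R := (h.ker _).1 (by
          rw [map_mul, map_inv, show f y = 1 * f u * 1⁻¹ from congrArg Prod.snd h4]; group)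
        have h7 : Commute (ι (u⁻¹ * y)) c := c.2.2 _ ⟨_, h6, rfl⟩
        have h8 : SemiconjBy (ι u) (ι (u⁻¹ * y) * c) c := by
          rw [SemiconjBy, map_mul, map_inv, h5]
          group
        have h9 := (h8.pow_right (2 ^ k)).eq
        rw [h7.mul_pow, ← map_pow, ← hk, pow_card_eq_one', map_one, one_mul, hk] at h9
        exact h9.symm
      exact ⟨k + k, Subtype.ext (by
        rw [coe_pow, pow_add, pow_mul, ← ha, ← map_pow, ← hk, pow_card_eq_one', map_one, coe_one])⟩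
    obtain ⟨S, hS⟩ := h.syl
    obtain ⟨a, rfl⟩ := hS.le (h3.le_sylow_of_normal S (show c ∈ K from ⟨h1, h2⟩))
    have h4 := mul_mem (inv_mem h1) (nrm_self h a)
    rw [Prod.inv_mk, Prod.mk_mul_mk, inv_mul_cancel, inv_one, one_mul, cen_iff h] at h4
    exact ⟨a, mem_U h (h.cG h4), rfl, h4⟩
  · obtain ⟨g, hg⟩ := h.down m
    have h3 := (nrm_iff h).2 hg
    have h4 := mul_mem (mul_mem h3 hc.1) (inv_mem h3)
    rwa [MonoidHom.inl_apply, Prod.inv_mk, Prod.mk_mul_mk, Prod.mk_mul_mk, mul_one, mul_inv_cancel] at h4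
  · have := h.nR
    exact (normal_centralizer (H := R.map ι)).conj_mem _ hc.2 m

theorem exists_pi {s : L} {t : M} (hs : p s = τ)
    (ht : ∀ x ∈ T, ∃ y ∈ T, j y = s * j x * s⁻¹ ∧ ι y = t * ι x * t⁻¹) (hR : ∀ r ∈ R, t * ι r = ι r * t) :
    ∃ π : M →* G, (∀ u ∈ T ⊔ R, π (ι u) = f u) ∧ π t = τ ∧ ∀ m, m * t * m⁻¹ ∈ (T ⊔ R).map ι ⊔ zpowers t := by
  have h0 : (t, τ) ∈ normalizer (G0 T R ι f : Set (M × G)) := (nrm_iff h).2 fun x hx y e => by
    obtain ⟨y', hy, h1, h2⟩ := ht x hx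
    rw [h.inj (e.trans h2.symm), ← h.pj _ hy, h1, map_mul, map_mul, map_inv, hs, h.pj x hx]
  let G1 := G0 T R ι f ⊔ zpowers (t, τ)
  have h1 : G1 ≤ normalizer (G0 T R ι f : Set (M × G)) := sup_le le_normalizer (zpowers_le.2 h0)
  have h2 : ∀ g, (1, g) ∈ G1 → g = 1 := fun g hg => by
    have h3 := h.cG ((cen_iff h).1 (h1 hg))
    obtain ⟨_, ⟨u, hu, rfl⟩, _, ⟨e, rfl⟩, h4⟩ := (coe_mul_of_right_le_normalizer_left _ _ (zpowers_le.2 h0)).le hg
    have h5 : ι u * t ^ e = 1 := congrArg Prod.fst h4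
    have h6 : f u * τ ^ e = g := congrArg Prod.snd h4
    have h7 := h.fpf _ ((mul_mem_cancel_left (fU h hu)).1 (h6 ▸ h3)) (Commute.self_zpow τ e)
    obtain ⟨y, -, h8⟩ := nrm_mem h0 ⟨u, hu, rfl⟩
    have h9 : ι y = t * ι u * t⁻¹ := congrArg Prod.fst h8
    rw [eq_inv_of_mul_eq_one_left h5, (Commute.self_zpow t e).inv_right.eq, mul_inv_cancel_right,
      ← eq_inv_of_mul_eq_one_left h5] at h9
    rw [← h6, h7, mul_one]
    exact h.fpf _ (fU h hu) (eq_mul_inv_iff_mul_eq.1 (h.inj h9 ▸ congrArg Prod.snd h8 : f u = τ * f u * τ⁻¹)).symm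
  have h3 : ∀ x ∈ normalizer (G0 T R ι f : Set (M × G)), x * (t, τ) * x⁻¹ ∈ G1 → x ∈ normalizer (G1 : Set (M × G)) :=
    fun x hx h3 => mem_nrm (K := G1) (show G1 ≤ G1.comap (MulAut.conj x).toMonoidHom from
      sup_le (fun y hy => mem_sup_left (nrm_mem hx hy)) (zpowers_le.2 h3))
  have h4 : (t, τ) ∈ G1 := mem_sup_right (mem_zpowers _)
  obtain ⟨π, hπ⟩ := exists_hom (normalizer (G0 T R ι f : Set (M × G)) ⊓ normalizer (G1 : Set (M × G)))
    (fun g hg => h.fpf g (h.cG ((cen_iff h).1 hg.1)) (by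
      have h5 := mul_mem (nrm_mem hg.2 h4) (inv_mem h4)
      rw [Prod.inv_mk, Prod.inv_mk, Prod.mk_mul_mk, Prod.mk_mul_mk, Prod.mk_mul_mk, inv_one, one_mul, mul_one,
        mul_inv_cancel] at h5
      exact (mul_inv_eq_iff_eq_mul.1 (mul_inv_eq_one.1 (h2 _ h5))).symm)) fun m => by
    obtain ⟨g, hg⟩ := h.down m
    have h5 := (nrm_iff h).2 hg
    obtain ⟨x, hx, e, h6⟩ := h.bor _ (h.nN.conj_mem _ h.tN g)
      (mul_mem (mul_mem (nrm_snd h h5) h.tn) (inv_mem (nrm_snd h h5)))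
    have h7 : (ι x * t ^ e, g * τ * g⁻¹) ∈ G1 := 
      h6 ▸ mul_mem_sup (S := G0 T R ι f) ⟨x, mem_sup_left hx, rfl⟩ (npow_mem_zpowers (t, τ) e)
    have h8 := mul_mem (inv_mem (h1 h7)) (mul_mem (mul_mem h5 h0) (inv_mem h5))
    rw [Prod.inv_mk, Prod.inv_mk, Prod.mk_mul_mk, Prod.mk_mul_mk, Prod.mk_mul_mk, inv_mul_cancel] at h8
    have h9 : ∀ m, (∀ r ∈ R, m * ι r = ι r * m) → m ∈ centralizer (R.map ι : Set M) := by
      rintro m hm _ ⟨r, hr, rfl⟩
      exact (hm r hr).symm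
    obtain ⟨a, ha, h10, h11⟩ := mem_of_stab h h8 (mul_mem (inv_mem (mul_mem (h9 _ fun r hr => by
      rw [← map_mul, ← map_mul, h.comm x (mem_sup_left hx) r hr]) (pow_mem (h9 t hR) e))) (h9 _ (cen_R h hR m)))
    obtain ⟨z, hz, h12⟩ := comm_surj (fun x => cen_conj h.tn) (fun x hx => h.fpf x (h.cG hx)) (cen_conj (nrm_snd h h5) h11)
    have h13 := mul_mem h5 ((cen_iff h).2 hz)
    rw [Prod.mk_mul_mk, mul_one] at h13
    refine ⟨g * z, h13, h3 _ h13 ?_⟩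
    convert mul_mem h7 (mem_sup_left ⟨a, ha, rfl⟩) using 1
    refine Prod.ext ?_ ?_
    · show m * t * m⁻¹ = ι x * t ^ e * ι a
      rw [h10, mul_inv_cancel_left]
    · show g * z * τ * (g * z)⁻¹ = g * τ * g⁻¹ * f a
      calc _ = g * (z * τ * z⁻¹) * g⁻¹ := by group
        _ = _ := by rw [h12]; group
  have h5 : ∀ m g, (m, g) ∈ G1 → π m = g := fun m g hm => (hπ m g).1 ⟨h1 hm, le_normalizer hm⟩
  refine ⟨π, fun u hu => h5 _ _ (mem_sup_left ⟨u, hu, rfl⟩), h5 _ _ h4, fun m => ?_⟩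
  refine (show G1 ≤ ((T ⊔ R).map ι ⊔ zpowers t).comap (MonoidHom.fst M G) from
    sup_le ?_ (zpowers_le.2 (mem_comap.2 (mem_sup_right (mem_zpowers t))))) (nrm_mem ((hπ m _).2 rfl).2 h4)
  rintro _ ⟨u, hu, rfl⟩
  exact mem_comap.2 (mem_sup_left ⟨u, hu, rfl⟩)

/-! ### the action of `M` on `L` -/

theorem exists_c : ∃ c : M →* MulAut T, ∀ m (x : T), ι (c m x) = m * ι x * m⁻¹ :=
  have := h.nT
  ⟨(MulAut.congr (T.equivMapOfInjective ι h.inj).symm).toMonoidHom.comp MulAut.conjNormal, fun _ _ =>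
    congrArg Subtype.val ((T.equivMapOfInjective ι h.inj).apply_symm_apply _)⟩

/-- the quotient of two lifts -/
def dif {X : Type} [Group X] (a b : X →* L) (e : ∀ x, p (a x) = p (b x)) : X →* L :=
  MonoidHom.mk' (fun x => a x * (b x)⁻¹) fun x y => by
    rw [map_mul, map_mul, ← ker_cen h (z := a y * (b y)⁻¹) (by rw [map_mul, map_inv, e, mul_inv_cancel]), ← mul_assoc,
      ker_cen h (z := a y * (b y)⁻¹) (by rw [map_mul, map_inv, e, mul_inv_cancel])]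
    group

theorem dif_ker {X : Type} [Group X] (a b : X →* L) (e : ∀ x, p (a x) = p (b x)) (x : X) : p (dif h a b e x) = 1 :=
  (map_mul p _ _).trans (by rw [map_inv, e, mul_inv_cancel])

section Act

variable {s : L} {t : M} (hs : p s = τ) (ht : ∀ x ∈ T, ∃ y ∈ T, j y = s * j x * s⁻¹ ∧ ι y = t * ι x * t⁻¹)
include hs ht

theorem triv_T (w : T →* L) (h1 : ∀ v : T, v.1 ∈ R → w v = 1)
    (h2 : ∀ y y' : T, j y' = s * j y * s⁻¹ → ι y' = t * ι y * t⁻¹ → w y' = w y) (x : T) : w x = 1 := by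
  obtain ⟨a, ha, h3⟩ := comm_surj (fun x => nrm_mem' h.tn) h.fpf (z := f x) ⟨x, x.2, rfl⟩
  obtain ⟨y, hy, h4⟩ := nrm_mem' h.tn ha
  obtain ⟨y', hy', h5, h6⟩ := ht y hy
  have h7 := h1 (x * ⟨y', hy'⟩ * (⟨y, hy⟩ : T)⁻¹) ((h.ker _).1 (by
    show f (x * y' * y⁻¹) = 1
    rw [map_mul, map_mul, map_inv, ← h.pj _ hy', h5, map_mul, map_mul, map_inv, hs, h.pj _ hy, h4,
      eq_inv_mul_iff_mul_eq.2 h3.symm]
    group))
  rwa [map_mul, map_mul, map_inv, h2 ⟨y, hy⟩ ⟨y', hy'⟩ h5 h6, mul_inv_cancel_right] at h7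

theorem uniq (α : L →* L) (h1 : ∀ l, p (α l) = p l) (h2 : ∀ v ∈ T ⊓ R, α (j v) = j v) (l : L) : α l = l := by
  obtain ⟨S, hS⟩ := h.jsyl
  refine mul_inv_eq_one.1 (hom_triv S (dif h α (MonoidHom.id L) h1) (fun x hx => ?_) (fun x => ker_pow h (dif_ker h _ _ _ x)) l)
  obtain ⟨x, hx', rfl⟩ := (hS x).1 hx
  refine triv_T h hs ht ((dif h α (MonoidHom.id L) h1).comp h.mul.hom)
    (fun v hv => mul_inv_eq_one.2 (h2 v ⟨v.2, hv⟩)) (fun y y' h3 _ => ?_) ⟨x, hx'⟩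
  refine (congrArg (dif h α (MonoidHom.id L) h1) h3).trans ?_
  rw [map_mul, map_mul, map_inv, ker_cen h (dif_ker h _ _ _ s), mul_inv_cancel_right]
  rfl

end Act

open scoped IsMulCommutative in
theorem exists_lift (g : G) (a : T →* T) (ha : ∀ x : T, f (a x) = g * f x * g⁻¹) :
    ∃ α : L →* L, (∀ l, p (α l) = g * p l * g⁻¹) ∧ ∀ v : T, v.1 ∈ R → α (j v) = j (a v) := by
  obtain ⟨S, hS⟩ := h.jsyl
  have : IsMulCommutative p.ker := ⟨⟨fun a b => Subtype.ext (ker_cen h a.2 b)⟩⟩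
  have hj : Function.Injective h.mul.hom := (injective_iff_map_eq_one _).2 fun x hx => Subtype.ext (h.jinj x x.2 hx)
  have hr : (S : Subgroup L) = h.mul.hom.range := Subgroup.ext fun y => (hS y).trans
    ⟨fun ⟨x, hx, e⟩ => ⟨⟨x, hx⟩, e⟩, fun ⟨x, e⟩ => ⟨x, x.2, e⟩⟩
  let X := ((MulAut.conj g).toMonoidHom.comp (p.comp (MonoidHom.fst L L))).eqLocus (p.comp (MonoidHom.snd L L))
  let π := (MonoidHom.fst L L).comp X.subtype
  have h1 : Function.Surjective π := fun l =>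
    let ⟨l', e⟩ := h.nN.conj_mem _ ⟨l, rfl⟩ g
    ⟨⟨(l, l'), e.symm⟩, rfl⟩
  let Y := h.mul.hom.range.comap π
  let b : Y →* T := (MonoidHom.ofInjective hj).symm.toMonoidHom.comp (π.subgroupComap _)
  have hb : ∀ y, j (b y) = y.1.1.1 := fun y => MonoidHom.apply_ofInjective_symm hj _
  have h2 : ∀ y : Y, p (((MonoidHom.snd L L).comp (X.subtype.comp Y.subtype)) y) = p ((h.mul.hom.comp (a.comp b)) y) :=
    fun y => y.1.2.symm.trans (((h.pj _ (a (b y)).2).trans (ha _)).trans (by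
      rw [← h.pj _ (b y).2, hb]; rfl)).symm
  let tr := MonoidHom.transfer ((dif h _ _ h2).codRestrict p.ker (dif_ker h _ _ h2))
  have h3 : ∀ (v : T) (z : L) (hv : v.1 ∈ R) (hz : p z = 1), ∃ hx : (j v, z) ∈ X,
      (tr ⟨_, hx⟩ : L) = (z * (j (a v))⁻¹) ^ Y.index := fun v z hv hz => by
    have h4 : p (j v) = 1 := (h.pj _ v.2).trans ((h.ker _).2 hv)
    have hx : (j v, z) ∈ X := (congrArg (MulAut.conj g) h4).trans ((map_one _).trans hz.symm)
    refine ⟨hx, ?_⟩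
    rw [MonoidHom.transfer_eq_pow _ _ fun k y _ => by
      rw [mul_assoc, ← (show Commute y _ from Subtype.ext (Prod.ext (ker_cen h h4 _).symm (ker_cen h hz _).symm)).pow_right k,
        inv_mul_cancel_left]]
    refine (congrArg (dif h _ _ h2) (?_ : _ = (⟨⟨_, hx⟩, v, rfl⟩ : Y) ^ Y.index)).trans ((map_pow _ _ _).trans ?_)
    · rfl
    · exact congrArg (fun y => (z * (j (a y))⁻¹) ^ Y.index) (hj (hb ⟨⟨_, hx⟩, v, rfl⟩))
  have h4 : IsPGroup 2 p.ker := fun z => (ker_pow h z.2).imp fun _ e => Subtype.ext e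
  have h5 : (Nat.card p.ker).Coprime Y.index := by
    obtain ⟨k, hk⟩ := IsPGroup.iff_card.1 h4
    rw [hk, index_comap_of_surjective _ h1, ← hr]
    exact ((Nat.prime_two.coprime_iff_not_dvd).2 S.not_dvd_index).pow_left k
  have h6 : ∀ z : p.ker, ∃ hx : (1, z.1) ∈ X, tr ⟨_, hx⟩ = powCoprime h5 z := fun z => by
    have h6 := h3 1 z (one_mem R) z.2
    rw [map_one, coe_one, h.mul.one, inv_one, mul_one] at h6
    exact h6.imp fun _ e => Subtype.ext e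
  obtain ⟨α, hα⟩ := exists_hom (tr.ker.map X.subtype) (fun z ⟨x, h7, h8⟩ => by
    have h9 : p z = 1 := (congrArg (fun y => p y.2) h8).symm.trans (x.2.symm.trans
      ((congrArg (fun y => MulAut.conj g (p y.1)) h8).trans (by simp)))
    obtain ⟨hx, h10⟩ := h6 ⟨z, h9⟩
    rw [← show x = ⟨_, hx⟩ from Subtype.ext h8, show tr x = 1 from h7, eq_comm] at h10
    exact congrArg Subtype.val ((powCoprime h5).injective (h10.trans (one_pow _).symm))) fun l => by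
    obtain ⟨x, rfl⟩ := h1 l
    obtain ⟨z, hz⟩ := (powCoprime h5).surjective (tr x)
    obtain ⟨hx, h7⟩ := h6 z
    exact ⟨x.1.2 * z.1⁻¹, x * (⟨_, hx⟩ : X)⁻¹, show tr _ = 1 by rw [map_mul, map_inv, h7, hz, mul_inv_cancel],
      Prod.ext (by simp [π]) rfl⟩
  refine ⟨α, fun l => ?_, fun v hv => (hα _ _).1 ?_⟩
  · obtain ⟨x, -, h7⟩ := (hα l _).2 rfl
    exact (h7 ▸ x.2 : (l, α l) ∈ X).symm
  · obtain ⟨hx, h7⟩ := h3 v (j (a v)) hv ((h.pj _ (a v).2).trans (by rw [ha, (h.ker _).2 hv, mul_one, mul_inv_cancel]))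
    exact ⟨_, Subtype.ext (h7.trans (by rw [mul_inv_cancel, one_pow]; rfl)), rfl⟩

theorem exists_act : ∃ (π : M →* G) (c : M →* MulAut T) (ρ : M →* MulAut L), (∀ u ∈ T ⊔ R, π (ι u) = f u) ∧
    (∀ m (x : T), ι (c m x) = m * ι x * m⁻¹) ∧ (∀ m l, p (ρ m l) = π m * p l * (π m)⁻¹) ∧
    (∀ x ∈ T, ρ (ι x) = MulAut.conj (j x)) ∧ (∀ r ∈ R, ρ (ι r) = 1) ∧ ∀ m (x : T), ρ m (j x) = j (c m x) := by
  obtain ⟨s, t, hs, ht, hR⟩ := exists_t h
  obtain ⟨π, h1, h2, h3⟩ := exists_pi h hs ht hR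
  obtain ⟨c, hc⟩ := exists_c h
  have h4 : ∀ m (x : T), f (c m x) = π m * f x * (π m)⁻¹ := fun m x => by
    rw [← h1 _ (mem_sup_left (c m x).2), hc, map_mul, map_mul, map_inv, h1 _ (mem_sup_left x.2)]
  have h5 : ∀ m (v : T), v.1 ∈ R → (c m v).1 ∈ R := fun m v hv => (h.ker _).1 (by
    rw [h4, (h.ker _).2 hv, mul_one, mul_inv_cancel])
  have h6 : ∀ m (x y : T), ι y = m * ι x * m⁻¹ → c m x = y := fun m x y e => Subtype.ext (h.inj ((hc m x).trans e.symm))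
  let Γ : Subgroup (M × MulAut L) :=
    { carrier := {x | (∀ l, p (x.2 l) = π x.1 * p l * (π x.1)⁻¹) ∧ ∀ v : T, v.1 ∈ R → x.2 (j v) = j (c x.1 v)}
      one_mem' := ⟨fun l => by simp, fun v _ => by simp⟩
      mul_mem' := fun {a b} ha hb => ⟨fun l => by
        rw [Prod.snd_mul, Prod.fst_mul, MulAut.mul_apply, ha.1, hb.1, map_mul]; group, fun v hv => by
        rw [Prod.snd_mul, Prod.fst_mul, MulAut.mul_apply, hb.2 v hv, ha.2 _ (h5 _ v hv), map_mul, MulAut.mul_apply]⟩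
      inv_mem' := fun {a} ha => ⟨fun l => by
        rw [Prod.fst_inv, map_inv, ← a.2.apply_inv_self L l, ha.1, MulAut.apply_inv_self, Prod.snd_inv]; group, fun v hv =>
        a.2.injective (by rw [ha.2 _ (h5 _ v hv), Prod.fst_inv, map_inv, Prod.snd_inv, MulAut.apply_inv_self,
          MulAut.apply_inv_self])⟩ }
  obtain ⟨ρ, hρ⟩ := exists_hom Γ (fun α hα => MulEquiv.ext (uniq h hs ht α.toMonoidHom (by simpa using hα.1)
    fun v hv => by simpa using hα.2 ⟨v, hv.1⟩ hv.2)) fun m => by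
    obtain ⟨α, h7, h8⟩ := exists_lift h (π m) (c m).toMonoidHom (h4 m)
    refine ⟨MulEquiv.ofBijective α (Finite.injective_iff_bijective.1 ((injective_iff_map_eq_one _).2 fun l hl => ?_)), h7, h8⟩
    obtain ⟨v, hv, rfl⟩ := h.pker l (conj_eq_one_iff.1 ((h7 l).symm.trans (by rw [hl, map_one])))
    rw [show v = 1 from congrArg Subtype.val ((c m).map_eq_one_iff.1
      (Subtype.ext (h.jinj _ (c m ⟨v, hv.1⟩).2 ((h8 ⟨v, hv.1⟩ hv.2).symm.trans hl)))), h.mul.one]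
  have h7 : ∀ m, (m, ρ m) ∈ Γ := fun m => (hρ m _).2 rfl
  have h8 : ∀ m, (∀ r ∈ R, m * ι r = ι r * m) → ∀ v : T, v.1 ∈ R → c m v = v := fun m hm v hv =>
    h6 m v v (by rw [hm v hv, mul_inv_cancel_right])
  have h9 : ∀ m l, π m = p l → (∀ r ∈ R, m * ι r = ι r * m) → ρ m = MulAut.conj l := fun m l e hm =>
    (hρ m _).1 ⟨fun l' => by rw [e, ← map_inv, ← map_mul, ← map_mul]; rfl, fun v hv => by
      rw [h8 m hm v hv]
      exact mul_inv_eq_iff_eq_mul.2 (h.cen v ⟨v.2, hv⟩ l).symm⟩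
  have h10 : ∀ u ∈ T ⊔ R, ∀ r ∈ R, ι u * ι r = ι r * ι u := fun u hu r hr => by rw [← map_mul, ← map_mul, h.comm u hu r hr]
  have h11 : ∀ x ∈ T, ρ (ι x) = MulAut.conj (j x) := fun x hx =>
    h9 _ _ ((h1 x (mem_sup_left hx)).trans (h.pj x hx).symm) (h10 x (mem_sup_left hx))
  have h12 : ∀ r ∈ R, ρ (ι r) = 1 := fun r hr => (h9 _ 1 ((h1 r (mem_sup_right hr)).trans
    (((h.ker r).2 hr).trans (map_one p).symm)) (h10 r (mem_sup_right hr))).trans (map_one _)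
  let W : Subgroup M :=
    { carrier := {m | ∀ x : T, ρ m (j x) = j (c m x)}
      one_mem' := fun x => by simp
      mul_mem' := fun ha hb x => by rw [map_mul, map_mul, MulAut.mul_apply, hb, ha, MulAut.mul_apply]
      inv_mem' := fun {a} ha x => (ρ a).injective (by
        rw [ha, map_inv, map_inv, MulAut.apply_inv_self, MulAut.apply_inv_self]) }
  have h13 : t ∈ W := fun x => by
    obtain ⟨y, hy, h13, h14⟩ := ht x x.2
    rw [h9 t s (h2.trans hs.symm) hR, h6 t x ⟨y, hy⟩ h14]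
    exact h13.symm
  have h14 : (T ⊔ R).map ι ⊔ zpowers t ≤ W := by
    rw [Subgroup.map_sup]
    refine sup_le (sup_le ?_ ?_) (zpowers_le.2 h13)
    · rintro _ ⟨x, hx, rfl⟩ y
      rw [h11 x hx, h6 _ y (⟨x, hx⟩ * y * (⟨x, hx⟩ : T)⁻¹) (by simp)]
      exact (h.mul.conj hx y.2).symm
    · rintro _ ⟨r, hr, rfl⟩ y
      rw [h12 r hr, h6 _ y y (by rw [← h10 y (mem_sup_left y.2) r hr, mul_inv_cancel_right])]
      rfl
  refine ⟨π, c, ρ, h1, hc, fun m => (h7 m).1, h11, h12, fun m x => mul_inv_eq_one.1 ?_⟩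
  have h15 : ∀ x : T, p (((ρ m).toMonoidHom.comp h.mul.hom) x) = p ((h.mul.hom.comp (c m).toMonoidHom) x) := fun x =>
    ((h7 m).1 _).trans (((h.pj _ (c m x).2).trans (h4 m x)).trans (by rw [← h.pj _ x.2]; rfl)).symm
  refine triv_T h hs ht (dif h _ _ h15) (fun v hv => mul_inv_eq_one.2 ((h7 m).2 v hv)) (fun y y' _ h16 => ?_) x
  obtain ⟨v, hv, h17⟩ := h.pker _ (dif_ker h _ _ h15 y)
  have h18 : ρ m (j y) = j v * j (c m y) := mul_inv_eq_iff_eq_mul.1 h17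
  have h19 := (h7 (m * t * m⁻¹)).2 ⟨v, hv.1⟩ hv.2
  rw [h8 _ (cen_R h hR m) _ hv.2] at h19
  refine (mul_inv_eq_iff_eq_mul.2 ?_).trans h17.symm
  show ρ m (j y') = j v * j (c m y')
  rw [← h6 t y y' h16, ← h13 y, ← MulAut.mul_apply, ← MulAut.mul_apply, ← map_mul, ← map_mul,
    ← inv_mul_cancel_right (m * t) m, map_mul ρ, map_mul c, MulAut.mul_apply, MulAut.mul_apply, h18, map_mul,
    h14 (h3 m)]
  exact congrArg (· * _) h19

omit h in
/-- **the gluing** -/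
theorem _root_.Cfsg.Agent.FS.N.R.boxPG : BoxPG := by
  intro A M L G _ _ _ _ _ _ _ T R ι f j p τ h
  obtain ⟨π, c, ρ, h1, h2, h3, h4, h5, h6⟩ := exists_act h
  let δ : T →* L ⋊[ρ] M := MonoidHom.mk' (fun x => ⟨(j x)⁻¹, ι x⟩) fun x y => SemidirectProduct.ext (by
    rw [SemidirectProduct.mul_left, h4 x x.2, coe_mul, h.mul x x.2 y y.2, MulAut.conj_apply]; group) (map_mul ι _ _)
  have : δ.range.Normal := ⟨by
    rintro _ ⟨x, rfl⟩ g
    refine ⟨c g.right x, eq_mul_inv_of_mul_eq (SemidirectProduct.ext ?_ ?_)⟩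
    · show (j (c g.right x))⁻¹ * ρ (ι (c g.right x)) g.left = g.left * ρ g.right (j x)⁻¹
      rw [h4 _ (c g.right x).2, map_inv, h6, MulAut.conj_apply]
      group
    · exact (congrArg (· * _) (h2 _ x)).trans (inv_mul_cancel_right _ _)⟩
  have : Finite (L ⋊[ρ] M) := Finite.of_equiv _ SemidirectProduct.equivProd.symm
  let mk := QuotientGroup.mk' δ.range
  have h7 : ∀ l m, mk (.inl l) = mk (.inr m) ↔ ∃ x : T, j x = l ∧ ι x = m := fun l m => QuotientGroup.eq.trans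
    (exists_congr fun x => by
      rw [← map_inv, ← SemidirectProduct.mk_eq_inl_mul_inr, SemidirectProduct.ext_iff]
      exact and_congr_left' inv_inj)
  have h8 : Function.Injective (mk.comp SemidirectProduct.inr) := (injective_iff_map_eq_one _).2 fun m hm => by
    obtain ⟨x, h8, rfl⟩ := (h7 1 m).1 (by rw [map_one, map_one]; exact hm.symm)
    rw [h.jinj x x.2 h8, map_one]
  refine ⟨_, inferInstance, inferInstance, mk.comp SemidirectProduct.inl, mk.comp SemidirectProduct.inr,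
    QuotientGroup.lift _ (SemidirectProduct.lift p π fun m => MonoidHom.ext (h3 m)) ?_, h8,
    (injective_iff_map_eq_one _).2 fun l hl => ?_, fun x hx => (h7 _ _).2 ⟨⟨x, hx⟩, rfl, rfl⟩, fun g => ?_, ?_,
    fun l r hr => ?_, fun l m e => ?_, fun l => SemidirectProduct.lift_inl _ _ (fun m => MonoidHom.ext (h3 m)) l,
    fun x hx => (SemidirectProduct.lift_inr _ _ (fun m => MonoidHom.ext (h3 m)) _).trans (h1 x hx), ?_⟩
  · rintro _ ⟨x, rfl⟩
    show p (j x)⁻¹ * π (ι x) = 1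
    rw [map_inv, h.pj x x.2, h1 x (mem_sup_left x.2), inv_mul_cancel]
  · obtain ⟨x, rfl, h9⟩ := (h7 l 1).1 (by rw [map_one, map_one]; exact hl)
    rw [h.inj (h9.trans (map_one ι).symm), h.mul.one]
  · obtain ⟨g, rfl⟩ := QuotientGroup.mk'_surjective _ g
    exact ⟨g.left, g.right, (congrArg mk g.inl_left_mul_inr_right.symm).trans (map_mul _ _ _)⟩
  · rw [MonoidHom.range_comp, SemidirectProduct.range_inl_eq_ker_rightHom]
    exact Normal.map inferInstance _ (QuotientGroup.mk'_surjective _)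
  · refine (map_mul mk _ _).symm.trans ((congrArg mk ?_).trans (map_mul mk _ _))
    ext <;> simp [h5 r hr]
  · obtain ⟨x, -, rfl⟩ := (h7 l m).1 e
    exact ⟨x, x.2, rfl⟩
  · refine ⟨(h.pg.of_surjective _ (MonoidHom.rangeRestrict_surjective _)).toSylow ?_, rfl⟩
    obtain ⟨S, hS⟩ := h.syl
    obtain ⟨S', hS'⟩ := h.jsyl
    have hj : Function.Injective h.mul.hom := (injective_iff_map_eq_one _).2 fun x hx => Subtype.ext (h.jinj x x.2 hx)
    have hr : (S' : Subgroup L) = h.mul.hom.range := Subgroup.ext fun y => (hS' y).trans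
      ⟨fun ⟨x, hx, e⟩ => ⟨⟨x, hx⟩, e⟩, fun ⟨x, e⟩ => ⟨x, x.2, e⟩⟩
    have h9 := (card_eq_card_quotient_mul_card_subgroup δ.range).symm.trans SemidirectProduct.card
    rw [← card_mul_index ((mk.comp SemidirectProduct.inr).comp ι).range, ← S.1.card_mul_index, ← S'.1.card_mul_index, hS, hr,
      ← Nat.card_congr (MonoidHom.ofInjective hj).toEquiv, ← Nat.card_congr (MonoidHom.ofInjective h.inj).toEquiv,
      ← Nat.card_congr (MonoidHom.ofInjective (f := (mk.comp SemidirectProduct.inr).comp ι) (h8.comp h.inj)).toEquiv,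
      ← Nat.card_congr (MonoidHom.ofInjective (f := δ)
        fun _ _ e => Subtype.ext (h.inj (congrArg SemidirectProduct.right e))).toEquiv, ← hS, ← hr] at h9
    have := Finite.of_injective _ h.inj
    rw [Nat.eq_of_mul_eq_mul_left (Nat.mul_pos (Nat.card_pos (α := A)) (Nat.card_pos (α := T)))
      (show _ * ((mk.comp SemidirectProduct.inr).comp ι).range.index = _ * (S.1.index * S'.1.index) by
        linear_combination h9), Nat.prime_two.dvd_mul]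
    exact not_or.2 ⟨S.not_dvd_index, S'.not_dvd_index⟩

end Cfsg.Agent.FS.N.R.PG
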