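import Cfsg.Agent.FS.N.R.Box
import Cfsg.Agent.FS.Real.Tab

/-!
# `BoxUT`: facts on `UT₃(4)` (helper51, project FS)
-/

set_option autoImplicit false

namespace Cfsg.Agent.FS.N.R.UTk

open Cfsg Cfsg.Agent.FS.Real

section gen

variable {G : Type*} [Group G] {D : PcD} {S : Subgroup G} {x : ℕ → G} (H : Gen D S x)
include H

theorem card_eq {K : Subgroup G} (hK : K ≤ S) (q : ℕ → Bool) (h : ∀ a < D.N, el x D.n a ∈ K ↔ q a = true) :
    Nat.card K = ((Finset.range D.N).filter fun a => q a = true).card := by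
  rw [← Nat.card_eq_finsetCard]
  refine (Nat.card_congr (Equiv.ofBijective (fun a : ↥((Finset.range D.N).filter fun a => q a = true) =>
    (⟨el x D.n a, (h a (Finset.mem_range.1 (Finset.mem_filter.1 a.2).1)).2 (Finset.mem_filter.1 a.2).2⟩ : K))
    ⟨fun a b e => Subtype.ext (H.inj (Finset.mem_range.1 (Finset.mem_filter.1 a.2).1)
      (Finset.mem_range.1 (Finset.mem_filter.1 b.2).1) (congrArg Subtype.val e)), fun g => ?_⟩)).symm
  obtain ⟨a, ha, e⟩ := (H.mem g).1 (hK g.2)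
  exact ⟨⟨a, Finset.mem_filter.2 ⟨Finset.mem_range.2 ha, (h a ha).1 (e ▸ g.2)⟩⟩, Subtype.ext e⟩

theorem comm_iff {a b : ℕ} (ha : a < D.N) (hb : b < D.N) :
    el x D.n a * el x D.n b = el x D.n b * el x D.n a ↔ D.mul a b = D.mul b a := by
  rw [H.mul ha, H.mul hb]
  exact ⟨H.inj (D.mul_lt ha _) (D.mul_lt hb _), fun e => by rw [e]⟩

theorem sq_iff {a : ℕ} (ha : a < D.N) : el x D.n a * el x D.n a = 1 ↔ D.mul a a = 0 := by
  rw [H.mul ha]
  exact ⟨H.eq_zero (D.mul_lt ha _), fun e => by rw [e, el_nil]⟩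

theorem zc_iff {a : ℕ} (ha : a < D.N) : el x D.n a ∈ zc S ↔ ∀ b < D.N, D.mul b a = D.mul a b := by
  rw [mem_zc]
  refine ⟨fun h b hb => (comm_iff H hb ha).1 (h.2 _ (H.el_mem hb)), fun h => ⟨H.el_mem ha, fun y hy => ?_⟩⟩
  obtain ⟨b, hb, rfl⟩ := (H.mem y).1 hy
  exact (comm_iff H hb ha).2 (h b hb)

end gen

theorem k1 : ∀ a < 64, (∀ b < 64, dU34.mul b a = dU34.mul a b) ↔ a % 16 = 0 := by decide +kernel

theorem k2 : ∀ a < 64, a % 16 = 0 → dU34.mul a a = 0 := by decide +kernel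

theorem k3 : ∀ a < 64, ∀ b < 64, dU34.div (dU34.cj a b) b % 16 = 0 := by decide +kernel

theorem k4 : ∀ a < 64, a % 16 ≠ 0 → dU34.mul a a = 0 →
    ((Finset.range 64).filter fun b => Nat.beq (dU34.mul a b) (dU34.mul b a) = true).card = 16 ∧
      ∀ b < 64, dU34.mul a b = dU34.mul b a → dU34.mul b b = 0 := by decide +kernel

set_option synthInstance.maxSize 1000 in
theorem k5 : ∀ a < 64, dU34.mul a a = 0 → ∀ b < 64, dU34.mul b b = 0 → dU34.mul a b ≠ dU34.mul b a →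
    ∀ c < 64, dU34.mul c c = 0 → dU34.mul b c = dU34.mul c b ∨ dU34.mul a c = dU34.mul c a := by decide +kernel

end Cfsg.Agent.FS.N.R.UTk

namespace Cfsg.Agent.FS.N.R

open Cfsg Cfsg.Agent.FS.Real UTk

/-- **the facts on `UT₃(4)`** -/
theorem boxUT : BoxUT dU34 := by
  intro G _ S x H
  have hz : ∀ a < 64, (el x dU34.n a ∈ zc S ↔ a % 16 = 0) := fun a ha => (zc_iff H ha).trans (k1 a ha)
  refine ⟨H.card, ?_, fun z h => ?_, fun u hu v hv => ?_, fun u hu h1 h2 => ?_, fun u hu v hv w hw h1 h2 h3 => ?_⟩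
  · rw [card_eq H (K := zc S) inf_le_left (fun a => Nat.beq (a % 16) 0) fun a ha => by rw [Nat.beq_eq]; exact hz a ha]
    decide +kernel
  · obtain ⟨a, ha, rfl⟩ := (H.mem z).1 h.1
    exact (sq_iff H ha).2 (k2 a ha ((hz a ha).1 h))
  · obtain ⟨a, ha, rfl⟩ := (H.mem u).1 hu
    obtain ⟨b, hb, rfl⟩ := (H.mem v).1 hv
    rw [H.cj ha, H.div (dU34.cj_lt ha _)]
    exact (hz _ (dU34.div_lt (dU34.cj_lt ha _) _)).2 (k3 a ha b hb)
  · obtain ⟨a, ha, rfl⟩ := (H.mem u).1 hu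
    obtain ⟨h3, h4⟩ := k4 a ha (fun e => h1 ((hz a ha).2 e)) ((sq_iff H ha).1 h2)
    refine ⟨?_, fun y hy e => ?_⟩
    · rw [card_eq H inf_le_left (fun b => Nat.beq (dU34.mul a b) (dU34.mul b a)) fun b hb => by
        rw [Nat.beq_eq, ← comm_iff H ha hb, Subgroup.mem_inf, Subgroup.mem_centralizer_singleton_iff, eq_comm]
        exact and_iff_right (H.el_mem hb)]
      exact h3
    · obtain ⟨b, hb, rfl⟩ := (H.mem y).1 hy
      exact (sq_iff H hb).2 (h4 b hb ((comm_iff H ha hb).1 e))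
  · obtain ⟨a, ha, rfl⟩ := (H.mem u).1 hu
    obtain ⟨b, hb, rfl⟩ := (H.mem v).1 hv
    obtain ⟨c, hc, rfl⟩ := (H.mem w).1 hw
    rw [comm_iff H ha hb, comm_iff H hb hc, comm_iff H ha hc, or_iff_not_imp_left]
    exact fun h => k5 a ha ((sq_iff H ha).1 h1) b hb ((sq_iff H hb).1 h2) h c hc ((sq_iff H hc).1 h3)

end Cfsg.Agent.FS.N.R
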