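import Cfsg.Agent.FS.N.R.Box
import Cfsg.Agent.FS.Th.Ess
import Cfsg.Agent.FS.Th.Thompson
import Cfsg.Agent.H758.NormExt

/-!
# The box `BoxAU` (helper35, project FS, folder FS/N/R)
-/

set_option autoImplicit false
set_option linter.unusedSectionVars false

namespace Cfsg.Agent.FS.N.R.AG

open Cfsg Cfsg.FusionSystem Cfsg.Agent.H752 Cfsg.Agent.H802 Cfsg.Agent.FS.Th Cfsg.Agent.FS.Real

variable {A : Type} [Group A] [Finite A] {F F' : Sys A} {P Q U R : Subgroup A} {a b : A → A}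

theorem exists_inv (ha : Mp F P a) (hm : ∀ x ∈ P, a x ∈ P) :
    ∃ b, Mp F P b ∧ (∀ x ∈ P, b (a x) = x) ∧ ∀ y ∈ P, b y ∈ P ∧ a (b y) = y :=
  ha.exists_symm le_rfl fun _ => ⟨fun hy => ha.surj hm hy, fun ⟨x, hx, h⟩ => h ▸ hm x hx⟩

theorem mp_cj (ha : Mp F P a) {x y : A} (hx : x ∈ P) (hy : y ∈ P) : a (x * y * x⁻¹) = a x * a y * (a x)⁻¹ := by
  rw [ha.mul (mul_mem hx hy) (inv_mem hx), ha.mul hx hy, ha.inv hx]

theorem card_lt (h : P < Q) : Nat.card P < Nat.card Q :=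
  lt_of_le_of_ne (Subgroup.card_le_of_le h.le) fun he => h.ne (Subgroup.eq_of_le_of_card_ge h.le he.ge)

/-- a subgroup normalized by `P` and not contained in `P` has an element outside `P` which normalizes `P` -/
theorem exists_norm (hA : IsPGroup 2 A) {X : Subgroup A} (hn : ∀ p ∈ P, ∀ x ∈ X, p * x * p⁻¹ ∈ X) (h : ¬ X ≤ P) :
    ∃ x ∈ X, x ∉ P ∧ ∀ y ∈ P, x * y * x⁻¹ ∈ P := by
  have : Fact (Nat.Prime 2) := ⟨Nat.prime_two⟩
  obtain ⟨g, ⟨h1, h2⟩, h3⟩ := SetLike.exists_of_lt (lt_inf_normalizer (S := ⊤) (hA.to_subgroup ⊤) (Q := P) (P := P ⊔ X)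
    le_sup_left le_top fun he => h (he ▸ le_sup_right))
  replace h1 : g ∈ ((P ⊔ X : Subgroup A) : Set A) := h1
  rw [Subgroup.coe_mul_of_left_le_normalizer_right P X fun p hp => Subgroup.mem_normalizer_fintype (hn p hp)] at h1
  obtain ⟨p, hp, x, hx, rfl⟩ := h1
  refine ⟨x, hx, fun h4 => h3 (mul_mem hp h4), fun y hy => ?_⟩
  have h4 := mul_mem (mul_mem (inv_mem hp) ((Subgroup.mem_normalizer_iff.1 h2 y).1 hy)) hp
  rwa [show p⁻¹ * (p * x * y * (p * x)⁻¹) * p = x * y * x⁻¹ by group] at h4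

/-- the chain `1 ≤ R ≤ P` -/
def ch (R P : Subgroup A) : ℕ → Subgroup P
  | 0 => ⊥
  | 1 => R.subgroupOf P
  | _ + 2 => ⊤

variable (hA : IsPGroup 2 A) (hF : F.IsSaturated 2) (hR : F.StronglyClosed R)
include hA hF hR

theorem triv (hP : F.IsFullyNormalized P) (hRP : R ≤ P) (ha : Mp F P a) (h1 : ∀ x ∈ P, a x * x⁻¹ ∈ R)
    (h2 : ∀ r ∈ R, a r = r) : ∃ s, ∀ x ∈ P, a x = s * x * s⁻¹ := by
  have : Fact (Nat.Prime 2) := ⟨Nat.prime_two⟩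
  obtain ⟨δ, hδ, h3⟩ := ha.exists_aut fun x hx => (P.mul_mem_cancel_right (inv_mem hx)).1 (hRP (h1 x hx))
  have h4 : ∀ α ∈ F.autGroup P, ∀ i, ∀ x ∈ ch R P i, α x ∈ ch R P i := fun α hα i x hx => by
    rcases i with _ | _ | i
    · replace hx : x ∈ (⊥ : Subgroup P) := hx
      show α x ∈ (⊥ : Subgroup P)
      rw [Subgroup.mem_bot.1 hx, map_one]
      exact one_mem _
    · replace hx : (x : A) ∈ R := hx
      have h5 := mp_mem_of_stronglyClosed hR (mp_fn le_top hα) x.2 hx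
      rw [fn_apply α x.2] at h5
      exact h5
    · exact Subgroup.mem_top _
  have h5 : IsPGroup 2 (chainStab (ch R P) 2) :=
    isPGroup_chainStab (hA.to_subgroup P) (K := ch R P) (m := 2) rfl fun M hM => (sup_bot_eq M).symm.trans hM
  obtain ⟨β, hβ, h6⟩ := exists_conj_le_autInducedBy (hA.to_subgroup ⊤) hF hP
    (B := chainStab (ch R P) 2 ⊓ F.autGroup P) inf_le_right h5.to_inf_left
  have h7 : δ ∈ chainStab (ch R P) 2 := mem_chainStab (h4 δ hδ) fun i hi x hx => by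
    rcases i with _ | _ | i
    · replace hx : (x : A) ∈ R := hx
      show δ x * x⁻¹ ∈ (⊥ : Subgroup P)
      exact Subgroup.mem_bot.2 (mul_inv_eq_one.2 (Subtype.ext ((h3 x x.2).symm.trans (h2 x hx))))
    · show ((δ x : P) : A) * (x : A)⁻¹ ∈ R
      rw [← h3 x x.2]
      exact h1 x x.2
    · omega
  have h8 := h6 (β⁻¹ * δ * β⁻¹⁻¹) ⟨conj_mem_chainStab (fun i => iff_of_mapsTo (h4 _ (inv_mem hβ) i)) h7,
    Subgroup.mul_mem _ (Subgroup.mul_mem _ (Subgroup.inv_mem _ hβ) hδ) (Subgroup.inv_mem _ (Subgroup.inv_mem _ hβ))⟩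
  rw [show β * (β⁻¹ * δ * β⁻¹⁻¹) * β⁻¹ = δ by group, mem_autInducedBy_iff] at h8
  obtain ⟨s, -, hs⟩ := h8
  exact ⟨s, fun x hx => (h3 x hx).trans (hs ⟨x, hx⟩)⟩

theorem conj_of_mod {G : Type*} [Group G] {f : A →* G} (hk : ∀ x, f x = 1 ↔ x ∈ R) (hP : F.IsFullyNormalized P)
    (hRP : R ≤ P) (ha : Mp F P a) (hm : ∀ x ∈ P, a x ∈ P) {u v : A} (hu : ∀ x ∈ P, u * x * u⁻¹ ∈ P)
    (h1 : ∀ x ∈ P, f (a (u * x * u⁻¹)) = f (v * a x * v⁻¹)) (h2 : ∀ r ∈ R, u * r = r * u) (h3 : ∀ r ∈ R, v * r = r * v) :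
    ∃ s, ∀ x ∈ P, a (u * x * u⁻¹) = s * a x * s⁻¹ := by
  obtain ⟨b, hb, h4, h5⟩ := exists_inv ha hm
  have h6 : ∀ y ∈ P, v * y * v⁻¹ ∈ P := fun y hy => by
    have h7 := (hk ((a (u * b y * u⁻¹))⁻¹ * (v * a (b y) * v⁻¹))).1 (by
      rw [map_mul, map_inv, h1 _ (h5 y hy).1, inv_mul_cancel])
    rw [(h5 y hy).2] at h7
    exact (P.mul_mem_cancel_left (inv_mem (hm _ (hu _ (h5 y hy).1)))).1 (hRP h7)
  have h7 : ∀ y ∈ P, v⁻¹ * y * v⁻¹⁻¹ ∈ P := fun y hy =>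
    (Subgroup.mem_normalizer_iff.1 (inv_mem (Subgroup.mem_normalizer_fintype h6)) y).1 hy
  obtain ⟨s, hs⟩ := triv hA hF hR hP hRP (a := fun y => a (u * b (v⁻¹ * y * v⁻¹⁻¹) * u⁻¹))
    ((((mp_conj F le_top (Subgroup.mem_top v⁻¹)).comp hb h7).comp (mp_conj F le_top (Subgroup.mem_top u))
      fun y hy => (h5 _ (h7 y hy)).1).comp ha fun y hy => hu _ (h5 _ (h7 y hy)).1) (fun y hy => (hk _).1 (by
        rw [map_mul, h1 _ (h5 _ (h7 y hy)).1, (h5 _ (h7 y hy)).2, ← map_mul,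
          show v * (v⁻¹ * y * v⁻¹⁻¹) * v⁻¹ * y⁻¹ = 1 by group, map_one])) fun r hr => by
    have h8 : v⁻¹ * r * v⁻¹⁻¹ = r := by rw [inv_inv, mul_assoc, ← h3 r hr, inv_mul_cancel_left]
    show a (u * b (v⁻¹ * r * v⁻¹⁻¹) * u⁻¹) = r
    rw [h8, h2 _ (mp_mem_of_stronglyClosed hR hb (hRP hr) hr), mul_inv_cancel_right, (h5 r (hRP hr)).2]
  refine ⟨s * v, fun x hx => ?_⟩
  have h8 : a (u * b (v⁻¹ * (v * a x * v⁻¹) * v⁻¹⁻¹) * u⁻¹) = _ := hs _ (h6 _ (hm x hx))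
  rw [show v⁻¹ * (v * a x * v⁻¹) * v⁻¹⁻¹ = a x by group, h4 x hx] at h8
  rw [h8]
  group

omit hA hF in
theorem img (hRP : R ≤ P) (ha : Mp F P a) (hb : Mp F P b) (h : ∀ x ∈ P, (a x)⁻¹ * b x ∈ R)
    (hQ : ∀ y, y ∈ Q ↔ ∃ x ∈ P, a x = y) : R ≤ Q ∧ ∀ y, y ∈ Q ↔ ∃ x ∈ P, b x = y := by
  have h1 : R ≤ Q := fun r hr => by
    obtain ⟨x, hx, h1⟩ := (ha.res hRP).surj (fun x hx => mp_mem_of_stronglyClosed hR ha (hRP hx) hx) hr
    exact (hQ r).2 ⟨x, hRP hx, h1⟩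
  have h2 : ∀ x ∈ P, b x ∈ Q := fun x hx =>
    (Q.mul_mem_cancel_left (inv_mem ((hQ _).2 ⟨x, hx, rfl⟩))).1 (h1 (h x hx))
  obtain ⟨c, hc, -, h3⟩ := ha.exists_symm le_rfl hQ
  refine ⟨h1, fun y => ⟨fun hy => ?_, fun ⟨x, hx, h4⟩ => h4 ▸ h2 x hx⟩⟩
  obtain ⟨x, hx, h4⟩ := (hb.comp hc h2).surj (fun x hx => (h3 _ (h2 x hx)).1) (h3 y hy).1
  exact ⟨x, hx, hc.inj (h2 x hx) hy h4⟩

theorem au_step (hU : F.StronglyClosed U) (hc : ∀ x ∈ U, ∀ r ∈ R, x * r = r * x) (ht : ∀ a, Mp F U a → Mp F' U a)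
    (hmod : ∀ P a, R ≤ P → P ≤ U → Mp F P a → ∃ b, Mp F P b ∧ Mp F' P b ∧ ∀ x ∈ P, (a x)⁻¹ * b x ∈ R)
    (hRP : R ≤ P) (hPU : P ≤ U) (ha : Mp F P a)
    (ih : ∀ W k, R ≤ W → W ≤ U → Nat.card P < Nat.card W → Mp F W k → Mp F' W k) : Mp F' P a := by
  have : Fact (Nat.Prime 2) := ⟨Nat.prime_two⟩
  have hS := hA.to_subgroup ⊤
  have : R.Normal := ⟨fun r hr g => H759.StronglyClosed.conj_mem hR (Subgroup.mem_top g) hr⟩
  obtain ⟨Q, φ, hQ, hφ, h1⟩ := exists_mp_fullyNormalized hS hF (P := P) le_top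
  replace hφ : Mp F P φ := hφ.res (le_inf le_top Subgroup.le_normalizer)
  obtain ⟨b, hb, hb', h2⟩ := hmod P φ hRP hPU hφ
  obtain ⟨hRQ, h3⟩ := img hR hRP hφ hb h2 h1
  have hQU : Q ≤ U := fun y hy => by
    obtain ⟨x, hx, rfl⟩ := (h3 y).1 hy
    exact mp_mem_of_stronglyClosed hU hb hx (hPU hx)
  obtain ⟨b', h4, h5, h6⟩ := hb.exists_symm le_rfl h3
  have h7 := h4.comp ha fun y hy => (h6 y hy).1
  obtain ⟨c, hc1, hc', h8⟩ := hmod Q _ hRQ hQU h7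
  obtain ⟨T, hT, -, -⟩ := h7.exists_image le_rfl
  obtain ⟨hRT, h9⟩ := img hR hRQ h7 hc1 h8 hT
  obtain ⟨c', h10, h11, h12⟩ := hc1.exists_symm le_rfl h9
  have h13 : ∀ y ∈ Q, a (b' y) ∈ T := fun y hy => (hT _).2 ⟨y, hy, rfl⟩
  have h14 := h7.comp h10 h13
  have h15 : ∀ y ∈ Q, c' (a (b' y)) ∈ Q := fun y hy => (h12 _ (h13 y hy)).1
  have h16 : ∀ y ∈ Q, QuotientGroup.mk' R (c' (a (b' y))) = QuotientGroup.mk' R y := fun y hy => by
    refine QuotientGroup.eq.2 ?_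
    have h17 := mp_mem_of_stronglyClosed hR h10 (hRT (h8 y hy)) (h8 y hy)
    rwa [h10.mul (inv_mem (h13 y hy)) ((h9 _).2 ⟨y, hy, rfl⟩), h10.inv (h13 y hy), h11 y hy] at h17
  have h17 : Mp F' Q fun y => c' (a (b' y)) := by
    by_cases he : Q = U
    · subst he
      exact ht _ h14
    have h18 := lt_inf_normalizer hS hQU le_top he
    obtain ⟨k, hk, h19⟩ := mp_extend_of_fullyCentralized hS hF (isFullyCentralized_of_isFullyNormalized hS hF hQ) h14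
      (fun y => ⟨fun hy => h14.surj h15 hy, fun ⟨x, hx, h⟩ => h ▸ h15 x hx⟩) h18.le le_top fun g hg => by
        have h19 : ∀ x ∈ Q, g * x * g⁻¹ ∈ Q := fun x hx => (Subgroup.mem_normalizer_iff.1 hg.2 x).1 hx
        obtain ⟨s, hs⟩ := conj_of_mod hA hF hR (f := QuotientGroup.mk' R) (fun x => QuotientGroup.eq_one_iff x) hQ hRQ h14
          h15 h19 (v := g) (fun x hx => by
            rw [h16 _ (h19 x hx), map_mul, map_mul, map_mul, map_mul, h16 x hx]) (hc g hg.1) (hc g hg.1)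
        exact ⟨h19, s, Subgroup.mem_top s, hs⟩
    obtain ⟨T', hT', -, h20⟩ := hb.exists_image le_rfl
    obtain rfl : T' = Q := Subgroup.ext fun y => (hT' y).trans (h3 y).symm
    exact ((ih _ k (hRQ.trans h18.le) inf_le_left (h20 ▸ card_lt h18) hk).res h18.le).congr
      fun x hx => (h19 x hx).symm
  have h18 : ∀ x ∈ P, b x ∈ Q := fun x hx => (h3 _).2 ⟨x, hx, rfl⟩
  refine ((hb'.comp h17 h18).comp hc' fun x hx => h15 _ (h18 x hx)).congr fun x hx => ?_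
  show a x = c (c' (a (b' (b x))))
  rw [(h12 _ (h13 _ (h18 x hx))).2, h5 x hx]

omit hA hF hR in
/-- **BoxAU** -/
theorem _root_.Cfsg.Agent.FS.N.R.boxAU : BoxAU := by
  intro A _ _ hA F F' U R hF hR hU hRU hc ht hmod P a hP ha
  have key : ∀ n (P : Subgroup A) a, Nat.card A - Nat.card P = n → R ≤ P → P ≤ U → Mp F P a → Mp F' P a := fun n => by
    induction n using Nat.strong_induction_on with
    | _ n ih =>
      intro P a hn h1 h2 h3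
      refine au_step hA hF (H759.IsNormal.stronglyClosed hR) hU hc ht hmod h1 h2 h3 fun W k h4 h5 h6 h7 =>
        ih _ ?_ W k rfl h4 h5 h7
      have := Subgroup.card_le_card_group W
      omega
  obtain ⟨g, hg, h1, -⟩ := H758.normal_ext hR ha
  exact ((key _ _ g rfl le_sup_right (sup_le hP hRU) hg).res le_sup_left).congr fun x hx => (h1 x hx).symm

end Cfsg.Agent.FS.N.R.AG
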