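import Cfsg.Agent.FS.N.R.Model
import Cfsg.Agent.FS.N.R.Box

/-!
# The case `T / V = UT₃(4)`: assembly (helper6, project FS, folder FS/N/R)
-/

set_option autoImplicit false

namespace Cfsg.Agent.FS.N.R

open Cfsg Cfsg.FusionSystem Cfsg.Agent.H752 Cfsg.Agent.FS.Th Cfsg.Agent.FS.Real

/-- the configuration -/
structure Cfg {A G : Type} [Group A] [Group G] (F : Sys A) (T R : Subgroup A) (E : FusionSystem T) (f : A →* G)
    (N : Subgroup G) (τ : G) : Prop where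
  sat : F.IsSaturated 2
  satE : E.IsSaturated 2
  scT : F.StronglyClosed T
  nR : F.IsNormal R
  cenV : E.IsCentral (T ⊓ R)
  cz : Cz F E R
  comm : ∀ x ∈ T ⊔ R, ∀ r ∈ R, x * r = r * x
  fac : Fac F R f
  nN : N.Normal
  inf : ∀ x, f x ∈ N ↔ x ∈ T ⊔ R
  res : ∀ x, f x ∈ pResidual 2 G ↔ x ∈ T ⊔ R
  down : ∀ P a, Mp E P a → ∃ n ∈ N, ∀ x ∈ P, f (a x) = n * f x * n⁻¹
  up : ∀ P : Subgroup A, P ≤ T → ∀ n ∈ N, (∀ x ∈ P, ∃ y ∈ T, f y = n * f x * n⁻¹) →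
    ∃ a, Mp E P a ∧ ∀ x ∈ P, f (a x) = n * f x * n⁻¹
  idx : (T ⊔ R).index ∣ 2
  ut : UT (T.map f)
  cG : Subgroup.centralizer ((T.map f : Subgroup G) : Set G) ≤ T.map f
  bor : ∀ g ∈ N, g ∈ Subgroup.normalizer ((T.map f : Subgroup G) : Set G) → ∃ x ∈ T, ∃ e : ℕ, g = f x * τ ^ e
  nz : ∀ g : G, (∀ z ∈ zc (T.map f), g * z * g⁻¹ ∈ zc (T.map f)) →
    g ∈ Subgroup.normalizer ((T.map f : Subgroup G) : Set G)
  h1 : ∀ P : Subgroup G, P ≤ T.map f → Nat.card P = 16 → (∀ x ∈ P, x * x = 1) → ∀ s, s ∉ T ⊔ R →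
    (∀ x ∈ P, f s * x * (f s)⁻¹ ∈ P) → ∀ x ∈ P, f s * x = x * f s → ∃ y ∈ P, x = f s * y * (f s)⁻¹ * y⁻¹
  tN : τ ∈ N
  tn : τ ∈ Subgroup.normalizer ((T.map f : Subgroup G) : Set G)
  t3 : τ ^ 3 = 1
  fpf : ∀ y ∈ T.map f, τ * y = y * τ → y = 1

namespace Cfg

variable {A G : Type} [Group A] [Group G] {F : Sys A} {T R : Subgroup A} {E : FusionSystem T} {f : A →* G}
  {N : Subgroup G} {τ : G} (h : Cfg F T R E f N τ)
include h

theorem ker (x : A) : f x = 1 ↔ x ∈ R := h.fac.ker x trivial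

theorem dec {x : A} (hx : x ∈ T ⊔ R) : ∃ t ∈ T, ∃ r ∈ R, t * r = x :=
  (mem_sup_comm fun t ht r hr => h.comm t (le_sup_left (b := R) ht) r hr).1 hx

theorem map_sup : (T ⊔ R).map f = T.map f := by
  refine le_antisymm ?_ (Subgroup.map_mono le_sup_left)
  rintro _ ⟨x, hx, rfl⟩
  obtain ⟨t, ht, r, hr, rfl⟩ := h.dec hx
  exact ⟨t, ht, by rw [map_mul, (h.ker r).2 hr, mul_one]⟩

theorem mem_map {x : A} : f x ∈ T.map f ↔ x ∈ T ⊔ R := by
  refine ⟨fun ⟨t, ht, e⟩ => ?_, fun hx => h.map_sup ▸ ⟨x, hx, rfl⟩⟩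
  have h1 := Subgroup.mul_mem_sup ht ((h.fac.eq_iff trivial trivial).1 e)
  rwa [mul_inv_cancel_left] at h1

theorem scU : F.StronglyClosed (T ⊔ R) := stronglyClosed_of_mp le_top fun P a ha hP x hx => by
  obtain ⟨t, ht, r, hr, rfl⟩ := h.dec (hP hx)
  obtain ⟨b, hb, h1⟩ := mp_normal h.nR ha
  have h2 : r ∈ P ⊔ R := le_sup_right (a := P) hr
  have h3 : t ∈ P ⊔ R := ((P ⊔ R).mul_mem_cancel_right h2).1 (le_sup_left (b := R) hx)
  rw [← h1 _ hx, hb.mul h3 h2]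
  exact Subgroup.mul_mem_sup (mp_mem_of_stronglyClosed h.scT hb h3 ht)
    (mp_mem_of_stronglyClosed (H759.IsNormal.stronglyClosed h.nR) hb h2 hr)

theorem cen_le : centralizerIn ⊤ (T ⊔ R) ≤ T ⊔ R := fun x hx => h.mem_map.1 (h.cG (by
  rintro _ ⟨t, ht, rfl⟩
  rw [← map_mul, ← map_mul, hx.2 t (le_sup_left (b := R) ht)]))

variable [Finite G]

theorem exists_sylow : ∃ S : Sylow 2 N, (S : Subgroup N).map N.subtype = T.map f := by
  have : Fact (Nat.Prime 2) := ⟨Nat.prime_two⟩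
  have := h.nN
  obtain ⟨S, hS⟩ := h.fac.syl
  refine ⟨(S.isPGroup'.comap_subtype (K := N)).toSylow fun k => S.not_dvd_index (k.trans (relIndex_dvd_index _ N)), ?_⟩
  ext y
  constructor
  · rintro ⟨n, hn, rfl⟩
    obtain ⟨x, -, e⟩ := (hS _).1 hn
    have e' : f x = N.subtype n := e
    rw [← e', h.mem_map, ← h.inf, e']
    exact n.2
  · rintro ⟨t, ht, rfl⟩
    exact ⟨⟨f t, (h.inf t).2 (le_sup_left (b := R) ht)⟩, (hS _).2 ⟨t, trivial, rfl⟩, rfl⟩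

theorem exists_ce [Finite A] (hA : IsPGroup 2 A) (hCE : BoxCE) :
    ∃ (L : Type) (_ : Group L) (_ : Finite L) (p : L →* G) (j : A → L), p.range = N ∧ Fac E ⊥ j ∧
      (∀ x ∈ T, p (j x) = f x) ∧ (∀ l, p l = 1 → ∃ v ∈ T ⊓ R, l = j v) ∧ ∀ v ∈ T ⊓ R, ∀ l, j v * l = l * j v := by
  classical
  let g : A → N := fun x => if hx : f x ∈ N then ⟨f x, hx⟩ else 1
  have hg : ∀ x ∈ T, (g x : G) = f x := fun x hx => by
    show ((if hx : f x ∈ N then (⟨f x, hx⟩ : N) else 1 : N) : G) = f x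
    rw [dif_pos ((h.inf x).2 (le_sup_left (b := R) hx))]
  obtain ⟨S, hS⟩ := h.exists_sylow
  obtain ⟨L, _, _, p, j, h1, h2, h3, h4, h5⟩ := hCE A hA T (T ⊓ R) E h.satE h.cenV N g
    ⟨fun x hx y hy => Subtype.ext (by rw [Subgroup.coe_mul, hg x hx, hg y hy, hg _ (T.mul_mem hx hy), map_mul]),
      fun x hx => by rw [Subtype.ext_iff, hg x hx, Subgroup.coe_one, h.ker, Subgroup.mem_inf, and_iff_right hx],
      ⟨S, fun y => by
        rw [← Subgroup.mem_map_iff_mem (Subgroup.subtype_injective N), hS]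
        exact ⟨fun ⟨x, hx, e⟩ => ⟨x, hx, Subtype.ext ((hg x hx).trans e)⟩,
          fun ⟨x, hx, e⟩ => ⟨x, hx, (hg x hx).symm.trans (congrArg Subtype.val e)⟩⟩⟩,
      fun P a ha => by
        obtain ⟨n, hn, h1⟩ := h.down P a ha
        exact ⟨⟨n, hn⟩, fun x hx => Subtype.ext (by
          rw [hg _ (ha.mem hx), h1 x hx, ← hg x (ha.le hx)]
          rfl)⟩,
      fun P hP n hn => by
        obtain ⟨a, ha, h1⟩ := h.up P hP n n.2 fun x hx => by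
          obtain ⟨y, hy, h1⟩ := hn x hx
          exact ⟨y, hy, by rw [← hg y hy, h1, ← hg x (hP hx)]; rfl⟩
        exact ⟨a, ha, fun x hx => Subtype.ext (by
          rw [hg _ (ha.mem hx), h1 x hx, ← hg x (hP hx)]
          rfl)⟩⟩
  refine ⟨L, inferInstance, inferInstance, N.subtype.comp p, j, ?_, h2, fun x hx => ?_,
    fun l hl => h4 l (Subtype.ext hl), h5⟩
  · rw [MonoidHom.range_comp, MonoidHom.range_eq_top.2 h1, ← MonoidHom.range_eq_map, Subgroup.range_subtype]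
  · show (p (j x) : G) = f x
    rw [h3 x hx, hg x hx]

/-- **The bad case.** -/
theorem real [Finite A] (hA : IsPGroup 2 A) (hCE : BoxCE) (hPG : BoxPG) (hAU : BoxAU) (hAG : BoxAG) :
    F.IsRealizable 2 := by
  have : Fact (Nat.Prime 2) := ⟨Nat.prime_two⟩
  have nN := h.nN
  have sR := H759.IsNormal.stronglyClosed h.nR
  have hTU : T ≤ T ⊔ R := le_sup_left
  have hRU : R ≤ T ⊔ R := le_sup_right
  obtain ⟨L, _, _, p, j, hp, hj, pj, pker, pcen⟩ := h.exists_ce hA hCE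
  obtain ⟨M, _, _, ι, hι, hsyl, m1, m2, m3⟩ := exists_model hA h.sat h.scU h.cen_le
  have jinj : ∀ x ∈ T, ∀ y ∈ T, j x = j y → x = y := fun x hx y hy e =>
    inv_mul_eq_one.1 (Subgroup.mem_bot.1 ((hj.eq_iff hx hy).1 e))
  have hnor : ∀ X : Subgroup A, F.StronglyClosed X → X ≤ T ⊔ R → (X.map ι).Normal := fun X hX hle => ⟨by
    rintro _ ⟨x, hx, rfl⟩ m
    obtain ⟨a, ha, h1⟩ := m2 m
    exact ⟨_, mp_mem_of_stronglyClosed hX ha (hle hx) hx, h1 x (hle hx)⟩⟩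
  obtain ⟨H, _, _, lam, μ, q, hH⟩ := hPG A M L G T R ι f j p τ
    ⟨hA, hι, hsyl, hnor T h.scT hTU, hnor R sR hRU, m3, h.comm, h.ker, hj.mul,
      fun x hx e => Subgroup.mem_bot.1 ((hj.ker x hx).1 e), hj.syl, pj, pker, pcen, hp ▸ nN, h.cG, hp ▸ h.bor, hp ▸ h.tN,
      h.tn, h.t3, h.fpf, fun m => by
        obtain ⟨a, ha, h1⟩ := m2 m
        obtain ⟨g, hg⟩ := h.fac.down _ a ha
        exact ⟨g, fun x hx y hy => by rw [hι (hy.trans (h1 x (hTU hx)).symm), hg x (hTU hx)]⟩, fun l hl => by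
        obtain ⟨a, ha, h1⟩ := hj.up T le_rfl l hl
        obtain ⟨b, hb, h2, h3⟩ := h.cz T a ha
        obtain ⟨m, hm⟩ := m1 _ b le_rfl hb
        refine ⟨m, fun x hx y hy e => ?_, fun r hr => ?_⟩
        · rw [jinj y hy _ (ha.mem hx) (e.trans (h1 x hx).symm), ← h2 x hx, hm x (hTU hx)]
        · have h4 := hm r (hRU hr)
          rw [h3 r hr] at h4
          exact mul_inv_eq_iff_eq_mul.1 h4.symm⟩
  obtain ⟨S', hS'⟩ := hH.syl
  have hι' : Function.Injective (μ.comp ι) := hH.inj.comp hι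
  obtain ⟨F', hF'⟩ := exists_ind (μ.comp ι) hι'
  have sat' := sat_of_ind hF' hι' S' hS'
  -- conjugation by an element of `L`
  have lmap : ∀ l : L, ∃ (P : Subgroup A) (b : A → A), Mp F P b ∧
      (∀ t ∈ T, ∀ r ∈ R, (∃ y ∈ T, j y = l * j t * l⁻¹) → t * r ∈ P) ∧
      ∀ x ∈ P, μ (ι (b x)) = lam l * μ (ι x) * (lam l)⁻¹ := fun l => by
    let P := hj.mul.pre ((hj.mul.im T).comap (MulAut.conj l).toMonoidHom)
    have hP : ∀ t, t ∈ P ↔ t ∈ T ∧ ∃ y ∈ T, j y = l * j t * l⁻¹ := fun t =>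
      hj.mul.mem_pre.trans (and_congr_right fun _ => hj.mul.mem_im le_rfl)
    have hPT : P ≤ T := fun t ht => ((hP t).1 ht).1
    obtain ⟨a, ha, h1⟩ := hj.up P hPT l fun x hx => ((hP x).1 hx).2
    obtain ⟨b, hb, h2, h3⟩ := h.cz P a ha
    refine ⟨_, b, hb, fun t ht r hr e => Subgroup.mul_mem_sup ((hP t).2 ⟨ht, e⟩) hr, fun x hx => ?_⟩
    obtain ⟨t, ht, r, hr, rfl⟩ := (mem_sup_comm fun t ht r hr => h.comm t (hTU (hPT ht)) r hr).1 hx
    rw [hb.mul (le_sup_left (b := R) ht) (le_sup_right (a := P) hr), h2 t ht, h3 r hr, map_mul, map_mul, map_mul, map_mul,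
      ← hH.am _ (ha.mem ht), ← hH.am t (hPT ht), h1 t ht, map_mul, map_mul, map_inv, mul_assoc _ _ (μ (ι r)),
      mul_assoc _ _ (lam l)⁻¹, mul_assoc _ _ (lam l)⁻¹, ← map_inv, hH.comm l⁻¹ r hr, mul_assoc]
  have low : ∀ P a, P ≤ T ⊔ R → Mp F' P a → Mp F P a := fun P a hP ha => by
    obtain ⟨g, hg⟩ := (hF' P a).1 ha
    obtain ⟨l, m, rfl⟩ := hH.dec g
    obtain ⟨c, hc, h1⟩ := m2 m
    obtain ⟨Q, b, hb, h2, h3⟩ := lmap l
    have h4 : ∀ x ∈ P, μ (ι (a x)) = lam l * μ (ι (c x)) * (lam l)⁻¹ := fun x hx => by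
      rw [h1 x (hP hx), map_mul, map_mul, map_inv]
      exact (hg x hx).trans (by
        show lam l * μ m * μ (ι x) * _ = _
        group)
    have h5 : ∀ x ∈ P, c x ∈ Q := fun x hx => by
      obtain ⟨t, ht, r, hr, e⟩ := h.dec (mp_mem_of_stronglyClosed h.scU hc (hP hx) (hP hx))
      have h6 : lam (l * j t * l⁻¹) = μ (ι (a x * r⁻¹)) := by
        rw [map_mul ι, map_mul μ, h4 x hx, ← e, map_mul ι, map_mul μ, map_mul, map_mul, hH.am t ht, map_inv, map_inv ι,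
          map_inv μ, eq_mul_inv_iff_mul_eq, mul_assoc _ _ (μ (ι r)), ← map_inv lam, hH.comm l⁻¹ r hr]
        group
      obtain ⟨y, hy, h7⟩ := hH.inf _ _ h6
      rw [← e]
      exact h2 t ht r hr ⟨y, hy, hH.linj (by rw [hH.am y hy, h7, h6])⟩
    exact ((hc.res hP).comp hb h5).congr fun x hx => hι' ((h4 x hx).trans (h3 _ (h5 x hx)).symm)
  have high : ∀ P a, T ⊔ R ≤ P → Mp F P a → Mp F' P a := fun P a hP ha => by
    obtain ⟨m, hm⟩ := m1 P a hP ha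
    exact (hF' P a).2 ⟨μ m, fun x hx => by
      show μ (ι (a x)) = μ m * μ (ι x) * _
      rw [hm x hx, map_mul, map_mul, map_inv]⟩
  have act : ∀ (m : M) (c : A → A), Mp F (T ⊔ R) c → (∀ x ∈ T ⊔ R, ι (c x) = m * ι x * m⁻¹) →
      ∀ x ∈ T ⊔ R, f (c x) = q (μ m) * f x * (q (μ m))⁻¹ := fun m c hc h1 x hx => by
    rw [← hH.qm _ (mp_mem_of_stronglyClosed h.scU hc hx hx), h1 x hx, map_mul, map_mul, map_mul, map_mul, map_inv,
      map_inv, hH.qm x hx]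
  have cent : ∀ g g' : G, (∀ x ∈ T ⊔ R, g * f x * g⁻¹ = g' * f x * g'⁻¹) → ∃ t ∈ T, f t = g⁻¹ * g' := fun g g' e =>
    h.cG (by
      rintro _ ⟨x, hx, rfl⟩
      calc f x * (g⁻¹ * g') = g⁻¹ * (g * f x * g⁻¹) * g' := by group
        _ = g⁻¹ * (g' * f x * g'⁻¹) * g' := by rw [e x (hTU hx)]
        _ = g⁻¹ * g' * f x := by group)
  have low' : ∀ P a, P ≤ T ⊔ R → Mp F P a → Mp F' P a := by
    refine hAU A hA F F' (T ⊔ R) R h.sat h.nR h.scU hRU h.comm (fun a => high _ a le_rfl) fun P a hRP hP ha => ?_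
    obtain ⟨g, hg⟩ := h.fac.down P a ha
    obtain ⟨S, hS⟩ := h.exists_sylow
    have h1 := Sylow.normalizer_sup_eq_top S
    rw [hS] at h1
    obtain ⟨k, hk, n, hn, rfl⟩ := Subgroup.mem_sup_of_normal_right.1 (h1.ge (Subgroup.mem_top g))
    obtain ⟨c, hc, h2⟩ := h.fac.up (T ⊔ R) le_top k fun x hx => by
      obtain ⟨y, -, e⟩ := (Subgroup.mem_normalizer_iff.1 hk _).1 (h.mem_map.2 hx)
      exact ⟨y, trivial, e⟩
    obtain ⟨m, hm⟩ := m1 _ c le_rfl hc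
    obtain ⟨l, hl⟩ : k * n * k⁻¹ ∈ p.range := hp ▸ nN.conj_mem n hn k
    obtain ⟨Q, b, hb, h3, h4⟩ := lmap l
    have h5 : ∀ x ∈ P, f (a x) = p l * f (c x) * (p l)⁻¹ := fun x hx => by
      rw [hg x hx, hl, h2 x (hP hx)]
      group
    have h6 : ∀ x ∈ P, c x ∈ Q := fun x hx => by
      obtain ⟨t, ht, r, hr, e⟩ := h.dec (mp_mem_of_stronglyClosed h.scU hc (hP hx) (hP hx))
      obtain ⟨t', ht', r', hr', e'⟩ := h.dec (mp_mem_of_stronglyClosed h.scU ha hx (hP hx))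
      obtain ⟨v, hv, h7⟩ := pker ((j t')⁻¹ * (l * j t * l⁻¹)) (by
        have h8 := h5 x hx
        rw [← e, ← e', map_mul, map_mul, (h.ker r).2 hr, (h.ker r').2 hr', mul_one, mul_one] at h8
        rw [map_mul, map_mul, map_mul, map_inv, map_inv, pj t ht, pj t' ht', h8, inv_mul_cancel])
      rw [← e]
      exact h3 t ht r hr ⟨t' * v, T.mul_mem ht' hv.1, by rw [hj.mul _ ht' _ hv.1, ← h7, mul_inv_cancel_left]⟩
    have h7 := (hc.res hP).comp hb h6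
    refine ⟨_, h7, (hF' P _).2 ⟨lam l * μ m, fun x hx => ?_⟩, fun x hx => (h.fac.eq_iff trivial trivial).1 ?_⟩
    · show μ (ι (b (c x))) = lam l * μ m * μ (ι x) * _
      rw [h4 _ (h6 x hx), hm x (hP hx), map_mul, map_mul, map_inv]
      group
    · rw [h5 x hx, ← hH.qm _ (mp_mem_of_stronglyClosed h.scU h7 hx (hP hx)), h4 _ (h6 x hx), map_mul, map_mul, map_inv,
        hH.ql, hH.qm _ (mp_mem_of_stronglyClosed h.scU hc (hP hx) (hP hx))]
  have hle := hAG A G hA F F' (T ⊔ R) R f τ ⟨h.sat, sat', h.nR, h.scU, hRU, h.comm, h.idx, h.fac, h.map_sup ▸ h.ut,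
    h.map_sup ▸ h.nz, h.map_sup ▸ h.h1, h.map_sup ▸ h.tn, h.t3, h.map_sup ▸ h.fpf,
    fun P a hP => ⟨low' P a hP, low P a hP⟩, high⟩
  have hyp' : hyp F' ≤ T ⊔ R := fun x hx => by
    have h1 : q (μ (ι x)) ∈ pResidual 2 G :=
      TwoFusion.PResidual.map_pResidual_le 2 q ⟨_, (mem_hyp_iff_of_ind hF' hι' S' hS' x).1 hx, rfl⟩
    obtain ⟨t, ht, h2⟩ := cent (q (μ (ι x))) (f x) fun y hy => by
      rw [← act (ι x) _ (mp_conj F le_top (s := x) trivial) (fun y _ => by rw [map_mul, map_mul, map_inv]) y hy, map_mul,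
        map_mul, map_inv]
    have h3 := (pResidual 2 G).mul_mem h1 ((h.res t).2 (hTU ht))
    rw [h2, mul_inv_cancel_left] at h3
    exact (h.res x).1 h3
  have hge := eq_of_odd (hA.to_subgroup _) h.sat sat' (isSubsystemOf_of_mp hle) fun P a hP ha =>
    low P a (hP.trans hyp') ha.1
  exact Ind.isRealizable (F := F) (fun P a => (⟨hle P a, hge P a⟩ : Mp F P a ↔ Mp F' P a).trans (hF' P a)) hι' S' hS'

end Cfg

end Cfsg.Agent.FS.N.R
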