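import Cfsg.Agent.FS.N.R.Nrm

/-!
# The configuration of the bad case (helper6, project FS, folder FS/N/R)
-/

set_option autoImplicit false

namespace Cfsg.Agent.FS.N.R

open Cfsg Cfsg.FusionSystem Cfsg.Agent.H752 Cfsg.Agent.FS.Th Cfsg.Agent.FS.Real

/-- a fixed point free automorphism of the whole group -/
theorem exists_fpf {A : Type} [Group A] {F : Sys A} (h : R34 F) (hh : hyp F = ⊤) :
    ∃ c, Mp F ⊤ c ∧ ∀ y, c y = y → y = 1 := by
  obtain ⟨G, _, _, f, -, -, hI, hf, -, -, -, -, -, -, -, t, -, tn, -, fpf⟩ := h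
  rw [hh] at tn fpf
  have h1 : ∀ y, f (Function.invFun f (t * f y * t⁻¹)) = t * f y * t⁻¹ := fun y => by
    obtain ⟨w, -, e⟩ := (Subgroup.mem_normalizer_iff.1 tn (f y)).1 ⟨y, trivial, rfl⟩
    exact Function.invFun_eq ⟨w, e⟩
  refine ⟨fun y => Function.invFun f (t * f y * t⁻¹), (hI _ _).2 ⟨t, fun y _ => h1 y⟩, fun y hy => hf ?_⟩
  have h2 := h1 y
  rw [show Function.invFun f (t * f y * t⁻¹) = y from hy] at h2
  rw [map_one]
  exact fpf _ ⟨y, trivial, rfl⟩ (mul_inv_eq_iff_eq_mul.1 h2.symm)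

variable {A B : Type} [Group A] [Finite A] [Group B] [Finite B] {F : Sys A} {T R : Subgroup A} {E : FusionSystem T}
  {π : A →* B} {F' : Sys B} {E' : FusionSystem (T.map π)}

omit [Finite A] [Finite B] in
theorem comap_map_of (hk : ∀ x, π x = 1 ↔ x ∈ R) : (T.map π).comap π = T ⊔ R := by
  rw [Subgroup.comap_map_eq]
  exact congrArg _ (Subgroup.ext hk)

theorem Su.real_bad {dU : PcD} (hL : Low dU) (hU : BoxUT dU) (hCE : BoxCE) (hPG : BoxPG) (hAU : BoxAU) (hAG : BoxAG)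
    (h : Su F T R E) (hA : IsPGroup 2 A) (hB : IsPGroup 2 B) (h7 : Nat.card B ≤ 2 ^ 7) (hπ : Function.Surjective π)
    (hk : ∀ x, π x = 1 ↔ x ∈ R) (hF' : Fq F R π F') (hE' : Fq E (T ⊓ R) π E') (nR : F.IsNormal R)
    (ab : ∀ x ∈ R, ∀ y ∈ R, x * y = y * x) (hq : F'.core = ⊥) {w : ℕ → T.map π} (hG : Gen dU ⊤ w)
    (idx : (T.map π).index ∣ 2) : F.IsRealizable 2 := by
  have hn := h.nor_fq hA hF' hE'
  have sc := hn.1.2.2.2.1
  have htop : (⊤ : Subgroup (T.map π)).map (T.map π).subtype = T.map π := by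
    rw [← MonoidHom.range_eq_map, Subgroup.range_subtype]
  have hG' := hG.map _ (Subgroup.subtype_injective (T.map π))
  rw [htop] at hG'
  have hh : hyp F' = T.map π := le_antisymm (hyp_le_of_od fun P a ha x hx =>
    mod_of_index (X := ⊤) (by rwa [Subgroup.relIndex_top_right]) (fun _ _ _ => trivial)
      (fun x hx => ⟨mp_mem_of_stronglyClosed sc ha.1 hx, mp_mem_of_stronglyClosed' sc ha.1 hx⟩) hx trivial) (by
    have h1 := H770.hyp_mono hn.1.2.2.1 2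
    rwa [hE'.hyp, h.perf] at h1)
  obtain ⟨G, _, _, f, S, N, hI, hf, hS, nN, hSN, cG, c192, nz, h1, τ, tN, tn, t3, fpf⟩ :=
    hL.l34 B hB h7 F' ⟨hF'.sat, hq⟩ ⟨_, by rw [hh]; exact hG'⟩
  have res := mem_hyp_iff_of_ind hI hf S hS
  rw [show F'.hyperfocalSubgroup 2 = T.map π from hh] at res
  rw [hh] at hSN cG c192 nz h1 tn fpf
  have hmap : T.map (f.comp π) = (T.map π).map f := (Subgroup.map_map _ _ _).symm
  have hmem : ∀ x, π x ∈ T.map π ↔ x ∈ T ⊔ R := fun x => by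
    rw [← comap_map_of hk]
    rfl
  have ut := hU G _ _ (hG'.map f hf)
  have hle : (T.map π).map f ≤ N := hSN ▸ inf_le_right
  have bor := bor_of ut.card hle c192 tN tn fpf
  obtain ⟨D, hD, hDm⟩ := exists_nsys hI hf S hS N hSN
  have down : ∀ P a, Mp E P a → ∃ n ∈ N, ∀ x ∈ P, f (π (a x)) = n * f (π x) * n⁻¹ := fun P a ha => by
    obtain ⟨b, hb, h2⟩ := h.le_of_nor hA hB hF' hE' hD ha
    obtain ⟨-, -, n, hn, h3⟩ := (hDm _ _).1 hb
    exact ⟨n, hn, fun x hx => by rw [← h2 x hx, h3 _ ⟨x, hx, rfl⟩]⟩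
  have hnz : ∀ (n : G) (b : B → B), (∀ y ∈ T.map π, b y ∈ T.map π) → (∀ y ∈ T.map π, f (b y) = n * f y * n⁻¹) →
      n ∈ Subgroup.normalizer (((T.map π).map f : Subgroup G) : Set G) := fun n b hb e =>
    Subgroup.mem_normalizer_fintype (by
      rintro _ ⟨y, hy, rfl⟩
      exact ⟨_, hb y hy, e y hy⟩)
  -- the elements which induce maps of `E'`
  let K : Submonoid G :=
    { carrier := {g | ∃ b, Mp E' (T.map π) b ∧ ∀ y ∈ T.map π, f (b y) = g * f y * g⁻¹}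
      one_mem' := ⟨_, mp_id E' le_rfl, fun y _ => by rw [one_mul, inv_one, mul_one]⟩
      mul_mem' := by
        rintro g g' ⟨b, hb, e⟩ ⟨b', hb', e'⟩
        exact ⟨_, hb'.comp hb fun y hy => hb'.mem hy, fun y hy => by
          rw [e _ (hb'.mem hy), e' y hy]
          group⟩ }
  have hK : ∀ g ∈ (T.map π).map f, g ∈ K := by
    rintro _ ⟨s, hs, rfl⟩
    exact ⟨_, mp_conj E' le_rfl hs, fun y _ => by rw [map_mul, map_mul, map_inv]⟩
  have hτ : τ ∈ K := by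
    obtain ⟨D₀, hD₀, k1, k2⟩ := h.exists_pull hA hk hE'
    obtain ⟨c, hc, k3⟩ := exists_fpf (hL.l34 _ (hB.to_subgroup _) ((Subgroup.card_le_card_group _).trans h7) D₀ k1
      ⟨_, k2 ▸ hG⟩) k2
    have k4 := (mp_push_iff hD₀ (P := ⊤) (a := c) (b := ex fun x => (c x : B)) fun x _ => ex_coe _ x).2 hc
    rw [htop] at k4
    obtain ⟨a, ha, k5⟩ := hE'.up _ _ k4
    obtain ⟨n, hn, k6⟩ := down _ a ha
    have k7 : ∀ y ∈ T.map π, f (ex (fun x : T.map π => (c x : B)) y) = n * f y * n⁻¹ := by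
      rintro _ ⟨x, hx, rfl⟩
      rw [k5 x ⟨hx, x, hx, rfl⟩, k6 x ⟨hx, x, hx, rfl⟩]
    obtain ⟨x, hx, e, rfl⟩ := bor n hn (hnz n _ (fun y hy => k4.mem hy) k7)
    have k8 := K.mul_mem (hK _ (inv_mem hx)) ⟨_, k4, k7⟩
    rw [inv_mul_cancel_left, pow_eq_pow_mod e t3] at k8
    rw [pow_eq_pow_mod e t3] at k7
    have k9 : e % 3 = 0 ∨ e % 3 = 1 ∨ e % 3 = 2 := by omega
    rcases k9 with k9 | k9 | k9
    · exfalso
      obtain ⟨⟨_, ⟨y, hy, rfl⟩, hz⟩, hz1⟩ := (Subgroup.ne_bot_iff_exists_ne_one (H := zc ((T.map π).map f))).1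
        ((Subgroup.one_lt_card_iff_ne_bot _).1 (by rw [ut.cardZ]; omega))
      have k10 := k7 y hy
      rw [k9, pow_zero, mul_one, hz x hx, mul_inv_cancel_right, ex_apply _ hy] at k10
      have k11 := congrArg Subtype.val (k3 ⟨y, hy⟩ (Subtype.ext (hf k10)))
      exact hz1 (Subtype.ext ((congrArg f k11).trans (map_one f)))
    · rwa [k9, pow_one] at k8
    · have k10 := K.mul_mem k8 k8
      rwa [k9, ← pow_add, show 2 + 2 = 3 + 1 from rfl, pow_succ, t3, one_mul] at k10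
  have hDE := le_of_aut hB hD hn fun a ha => by
    obtain ⟨-, k1, n, hn, k2⟩ := (hDm _ _).1 ha
    obtain ⟨x, hx, e, rfl⟩ := bor n hn (hnz n a k1 k2)
    obtain ⟨b, hb, k3⟩ := K.mul_mem (hK x hx) (K.pow_mem hτ e)
    exact hb.congr fun y hy => hf ((k2 y hy).trans (k3 y hy).symm)
  have hinv : ∀ {g y : G}, (∃ z, f (π z) = g * y * g⁻¹) → f (Function.invFun f (g * y * g⁻¹)) = g * y * g⁻¹ :=
    fun ⟨z, e⟩ => Function.invFun_eq ⟨_, e⟩
  refine Cfg.real (F := F) (T := T) (R := R) (E := E) (f := f.comp π) (N := N) (τ := τ)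
    ⟨h.sat, h.satE, h.scT, nR, h.central hA, h.cz, fun x hx r hr => ?_,
      ⟨fun x _ y _ => map_mul _ x y, fun x _ => (map_eq_one_iff f hf).trans (hk x), ⟨S, fun y => ?_⟩, fun P a ha => ?_,
        fun P _ g hg => ?_⟩, nN, fun x => ?_, fun x => (res (π x)).symm.trans (hmem x), down, fun P hP n hn k => ?_, ?_,
      hmap ▸ ut, hmap ▸ cG, fun g hg k => ?_, ?_, ?_, tN, hmap ▸ tn, t3, hmap ▸ fpf⟩ hA hCE hPG hAU hAG
  · exact ((sup_le (fun t ht y hy => (h.comm t ht y hy).symm) (fun t ht y hy => ab y hy t ht) :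
      T ⊔ R ≤ Subgroup.centralizer (R : Set A)) hx r hr).symm
  · rw [hS]
    exact ⟨fun ⟨b, e⟩ => (hπ b).imp fun x k => ⟨trivial, (congrArg f k).trans e⟩, fun ⟨x, _, e⟩ => ⟨_, e⟩⟩
  · obtain ⟨b, hb, k1⟩ := hF'.down P a ha
    obtain ⟨g, k2⟩ := (hI _ _).1 hb
    exact ⟨g, fun x hx => (congrArg f (k1 x hx)).symm.trans (k2 _ ⟨x, hx, rfl⟩)⟩
  · have k1 : ∀ x ∈ P, f (Function.invFun f (g * f (π x) * g⁻¹)) = g * f (π x) * g⁻¹ := fun x hx =>
      hinv ((hg x hx).imp fun _ k => k.2)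
    obtain ⟨a, ha, k2⟩ := hF'.up _ _ ((hI (P.map π) fun y => Function.invFun f (g * f y * g⁻¹)).2 ⟨g, by
      rintro _ ⟨x, hx, rfl⟩
      exact k1 x hx⟩)
    have k3 : P ≤ ⊤ ⊓ (P.map π).comap π := fun x hx => ⟨trivial, x, hx, rfl⟩
    exact ⟨a, ha.res k3, fun x hx => (congrArg f (k2 x (k3 hx))).symm.trans (k1 x hx)⟩
  · rw [← hmem, ← Subgroup.mem_map_iff_mem hf, ← hSN, hS]
    exact ⟨fun k => ⟨⟨_, rfl⟩, k⟩, fun k => k.2⟩
  · have k1 : ∀ x ∈ P, f (Function.invFun f (n * f (π x) * n⁻¹)) = n * f (π x) * n⁻¹ := fun x hx =>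
      hinv ((k x hx).imp fun _ k => k.2)
    obtain ⟨a, ha, k2⟩ := hE'.up _ _ (hDE _ _ ((hDm (P.map π) fun y => Function.invFun f (n * f y * n⁻¹)).2
      ⟨Subgroup.map_mono hP, by
        rintro _ ⟨x, hx, rfl⟩
        obtain ⟨y, hy, e⟩ := k x hx
        exact ⟨y, hy, hf (e.trans (k1 x hx).symm)⟩, n, hn, by
        rintro _ ⟨x, hx, rfl⟩
        exact k1 x hx⟩))
    have k3 : P ≤ T ⊓ (P.map π).comap π := fun x hx => ⟨hP hx, x, hx, rfl⟩
    exact ⟨a, ha.res k3, fun x hx => (congrArg f (k2 x (k3 hx))).symm.trans (k1 x hx)⟩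
  · rwa [← comap_map_of hk, Subgroup.index_comap_of_surjective _ hπ]
  · obtain ⟨_, ⟨_, ⟨x, hx, rfl⟩, rfl⟩, e, rfl⟩ := bor g hg (hmap ▸ k)
    exact ⟨x, hx, e, rfl⟩
  · rw [hmap]
    exact fun g hg => nz g fun z hz hc =>
      (hg z ⟨hz, fun y hy => (hc y hy).symm⟩).imp_right fun k y hy => (k y hy).symm
  · rw [hmap]
    intro P hP hc hsq s hs hn x hx e
    obtain ⟨Q, rfl⟩ : ∃ Q : Subgroup B, Q.map f = P :=
      ⟨_, Subgroup.map_comap_eq_self (hP.trans (Subgroup.map_le_range f _))⟩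
    obtain ⟨x, hx, rfl⟩ := hx
    obtain ⟨y, hy, k⟩ := h1 Q ((Subgroup.map_le_map_iff_of_injective hf).1 hP)
      ((Subgroup.card_map_of_injective hf).symm.trans hc)
      (fun y hy => hf (by rw [map_mul, hsq _ ⟨y, hy, rfl⟩, map_one])) (π s) (mt (hmem s).1 hs)
      (fun y hy => (Subgroup.mem_map_iff_mem hf).1 (by
        rw [map_mul, map_mul, map_inv]
        exact hn _ ⟨y, hy, rfl⟩)) x hx (hf (by rw [map_mul, map_mul]; exact e))
    exact ⟨f y, ⟨y, hy, rfl⟩, by rw [k, map_mul, map_mul, map_mul, map_inv, map_inv]; rfl⟩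

end Cfsg.Agent.FS.N.R
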