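import Cfsg.Agent.FS.N.R.Odd
import Cfsg.Agent.H759.ResModelB

/-!
# The recognition lemma (helper6, project FS, folder FS/N/R)

`ind_of_odd`: `G = N ι(A)`, `N` normal with Sylow subgroup `ι(U)`; every odd automorphism of `F` is induced by `G`,
and every odd element of `N` normalizing a subgroup of `U` induces a map of `F`.  Then `G` realizes `F`.
-/

set_option autoImplicit false

namespace Cfsg.Agent.FS.N.R

open Cfsg Cfsg.FusionSystem Cfsg.Agent.H752 Cfsg.Agent.FS.Th Cfsg.Agent.FS.Real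

universe u

theorem exists_odd_pow {G : Type*} [Group G] [Finite G] (g : G) {k : ℕ} (hk : Odd k) :
    ∃ j, j ≡ 1 [MOD k] ∧ Odd (orderOf (g ^ j)) := by
  obtain ⟨e, m, hm, hem⟩ := Nat.exists_eq_two_pow_mul_odd (orderOf_pos g).ne'
  have hc : Nat.Coprime k (2 ^ e) := Nat.Coprime.pow_right _ (Nat.coprime_two_right.2 hk)
  obtain ⟨j, hj1, hj2⟩ := Nat.chineseRemainder hc 1 0
  obtain ⟨c, hc'⟩ := (Nat.modEq_zero_iff_dvd).1 hj2
  refine ⟨j, hj1, Nat.coprime_two_right.1 (coprime_two_of_odd hm (orderOf_dvd_of_pow_eq_one ?_))⟩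
  rw [← pow_mul]
  apply orderOf_dvd_iff_pow_eq_one.1
  rw [hem, hc']
  exact ⟨c, by ring⟩

theorem conj_iter {Ω G : Type*} [Group Ω] [Group G] {P : Subgroup Ω} {a : Ω → Ω} {f : Ω → G} {g : G}
    (hm : ∀ x ∈ P, a x ∈ P) (h : ∀ x ∈ P, f (a x) = g * f x * g⁻¹) (n : ℕ) :
    ∀ x ∈ P, f (a^[n] x) = g ^ n * f x * (g ^ n)⁻¹ := by
  induction n with
  | zero => exact fun x _ => by simp
  | succ n ih =>
    intro x hx
    rw [Function.iterate_succ_apply', h _ (iter_mem hm n x hx), ih x hx, pow_succ']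
    group

/-- an odd automorphism induced by an element is induced by a power of odd order -/
theorem odd_inducer {Ω G : Type*} [Group Ω] [Group G] [Finite G] {P : Subgroup Ω} {a : Ω → Ω} {f : Ω → G} {g : G}
    (hm : ∀ x ∈ P, a x ∈ P) {k : ℕ} (hk : Odd k) (ha : ∀ x ∈ P, a^[k] x = x)
    (h : ∀ x ∈ P, f (a x) = g * f x * g⁻¹) :
    ∃ j, Odd (orderOf (g ^ j)) ∧ ∀ x ∈ P, f (a x) = g ^ j * f x * (g ^ j)⁻¹ := by
  obtain ⟨j, hj, ho⟩ := exists_odd_pow g hk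
  refine ⟨j, ho, fun x hx => ?_⟩
  rw [← conj_iter hm h j x hx, iter_mod (ha x hx) hj]
  rfl

theorem mem_of_odd {G : Type*} [Group G] {N : Subgroup G} [N.Normal] {g s : G} (hg : Odd (orderOf g)) {e : ℕ}
    (hs : s ^ 2 ^ e = 1) (h : g * s⁻¹ ∈ N) : g ∈ N := by
  have h1 : (g : G ⧸ N) = (s : G ⧸ N) := by
    have h2 := (QuotientGroup.eq_one_iff _).2 h
    rwa [QuotientGroup.mk_mul, QuotientGroup.mk_inv, mul_inv_eq_one] at h2
  rw [← QuotientGroup.eq_one_iff, ← orderOf_eq_one_iff]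
  have h3 : orderOf (g : G ⧸ N) ∣ orderOf g := orderOf_map_dvd (QuotientGroup.mk' N) g
  have h4 : orderOf (g : G ⧸ N) ∣ 2 ^ e := by
    apply orderOf_dvd_of_pow_eq_one
    rw [h1, ← QuotientGroup.mk_pow, hs, QuotientGroup.mk_one]
  exact Nat.eq_one_of_dvd_coprimes (Nat.Coprime.pow_right e (Nat.coprime_two_right.2 hg)) h3 h4

section ind

variable {A : Type u} [Group A] {G : Type*} [Group G]

theorem exists_ind (ι : A →* G) (hι : Function.Injective ι) : ∃ F : FusionSystem (⊤ : Subgroup A), Ind F ι := by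
  refine ⟨H781.pullback (ι.comp (Subgroup.subtype ⊤)) (hι.comp (Subgroup.subtype_injective _)), fun P a => ⟨?_, ?_⟩⟩
  · rintro ⟨φ, ⟨hP, hφ, g, hg⟩, h1⟩
    refine ⟨g, fun x hx => ?_⟩
    rw [← h1 x hx]
    exact hg ⟨x, hx⟩
  · rintro ⟨g, hg⟩
    let φ : P →* A := MonoidHom.mk' (fun x => a x) fun x y => by
      apply hι
      rw [map_mul, hg _ (x * y).2, hg _ x.2, hg _ y.2, Subgroup.coe_mul, map_mul]
      group
    exact ⟨φ, ⟨le_top, fun _ => Subgroup.mem_top _, g, fun x => hg x x.2⟩, fun _ _ => rfl⟩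

theorem sat_of_ind [Finite G] {F : FusionSystem (⊤ : Subgroup A)} {f : A →* G} (h : Ind F f)
    (hf : Function.Injective f) (T : Sylow 2 G) (hT : (T : Subgroup G) = f.range) : F.IsSaturated 2 := by
  have : Fact (Nat.Prime 2) := ⟨Nat.prime_two⟩
  exact H781.isSaturated_of_isRealizable (h.isRealizable hf T hT)

theorem realizedBy_of_ind {F : FusionSystem (⊤ : Subgroup A)} {f : A →* G} (h : Ind F f)
    (hf : Function.Injective f) : F.IsRealizedBy (f.comp (Subgroup.subtype ⊤)) := by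
  refine ⟨hf.comp (Subgroup.subtype_injective _), fun P _ φ _ => ?_⟩
  have h1 := h P (ex φ)
  constructor
  · intro hφ
    obtain ⟨g, hg⟩ := h1.1 (mp_ex hφ)
    refine ⟨g, fun x => ?_⟩
    have h2 := hg x x.2
    rw [ex_coe] at h2
    exact h2
  · rintro ⟨g, hg⟩
    refine (h1.2 ⟨g, fun x hx => ?_⟩).mem_hom fun x hx => (ex_apply _ hx).symm
    rw [ex_apply _ hx]
    exact hg ⟨x, hx⟩

/-- the hyperfocal subgroup theorem -/
theorem mem_hyp_iff_of_ind [Finite G] {F : FusionSystem (⊤ : Subgroup A)} {f : A →* G} (h : Ind F f)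
    (hf : Function.Injective f) (T : Sylow 2 G) (hT : (T : Subgroup G) = f.range) (x : A) :
    x ∈ F.hyperfocalSubgroup 2 ↔ f x ∈ pResidual 2 G := by
  have : Fact (Nat.Prime 2) := ⟨Nat.prime_two⟩
  rw [H759.mem_hyperfocal_iff (realizedBy_of_ind h hf) (R := T) (by
    rw [hT]
    ext y
    exact ⟨fun ⟨x, hx⟩ => ⟨⟨x, Subgroup.mem_top x⟩, hx⟩, fun ⟨x, hx⟩ => ⟨x, hx⟩⟩)]
  exact ⟨fun ⟨_, h⟩ => h, fun h => ⟨Subgroup.mem_top x, h⟩⟩

/-- the image of `A` is a Sylow subgroup of `N ι(A)` -/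
theorem exists_sylow_range [Finite G] (hA : IsPGroup 2 A) {ι : A →* G} (hι : Function.Injective ι) {N : Subgroup G}
    [N.Normal] (hG : ∀ g, ∃ x, g * (ι x)⁻¹ ∈ N) {U : Subgroup A} (hU : ∀ x, ι x ∈ N ↔ x ∈ U) {m : ℕ} (hm : Odd m)
    (hc : Nat.card N = Nat.card U * m) : ∃ T : Sylow 2 G, (T : Subgroup G) = ι.range := by
  have : Fact (Nat.Prime 2) := ⟨Nat.prime_two⟩
  have hfin : Finite A := Finite.of_injective _ hι
  have h1 : N ⊔ ι.range = ⊤ := top_le_iff.1 fun g _ => by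
    obtain ⟨x, hx⟩ := hG g
    have h2 : g = g * (ι x)⁻¹ * ι x := by group
    rw [h2]
    exact Subgroup.mul_mem_sup hx ⟨x, rfl⟩
  have h2 : N.index = U.index := by
    have h3 : U = N.comap ι := Subgroup.ext fun x => (hU x).symm
    rw [h3, Subgroup.index_comap, ← Subgroup.relIndex_sup_left, h1, Subgroup.relIndex_top_right]
  have h3 : Nat.card ι.range = Nat.card A := (Nat.card_congr (MonoidHom.ofInjective hι).toEquiv).symm
  have h4 : ι.range.index = m := by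
    have h5 := ι.range.card_mul_index
    rw [← N.card_mul_index, hc, h2, h3, ← U.card_mul_index] at h5
    have h6 : 0 < Nat.card U * U.index := by rw [U.card_mul_index]; exact Nat.card_pos
    refine Nat.eq_of_mul_eq_mul_left h6 ?_
    rw [h5]
    ring
  have hp : IsPGroup 2 ι.range := hA.of_equiv (MonoidHom.ofInjective hι)
  refine ⟨hp.toSylow ?_, rfl⟩
  rw [h4]
  exact hm.not_two_dvd_nat

/-- **Recognition.** -/
theorem ind_of_odd [Finite G] (hA : IsPGroup 2 A) {F : FusionSystem (⊤ : Subgroup A)} (hF : F.IsSaturated 2)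
    {ι : A →* G} (hι : Function.Injective ι) (T : Sylow 2 G) (hT : (T : Subgroup G) = ι.range) {N : Subgroup G}
    [N.Normal] (hG : ∀ g, ∃ x, g * (ι x)⁻¹ ∈ N) {U : Subgroup A} (hU : ∀ x, ι x ∈ N → x ∈ U)
    (h1 : ∀ P a, Od F P a → ∃ g, ∀ x ∈ P, ι (a x) = g * ι x * g⁻¹)
    (h3 : ∀ P a, P ≤ U → (∀ x ∈ P, a x ∈ P) → ∀ n ∈ N, Odd (orderOf n) → (∀ x ∈ P, ι (a x) = n * ι x * n⁻¹) →
      Mp F P a) : Ind F ι := by
  have hfin : Finite A := Finite.of_injective _ hι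
  have hA' : IsPGroup 2 (⊤ : Subgroup A) := hA.to_subgroup _
  obtain ⟨F', hF'⟩ := exists_ind ι hι
  have hs := sat_of_ind hF' hι T hT
  have hle : F.IsSubsystemOf F' := le_of_odd hA' hF le_rfl fun P a ha => (hF' P a).2 (h1 P a ha)
  have hN : ∀ P a, Od F' P a → ∃ n ∈ N, Odd (orderOf n) ∧ ∀ x ∈ P, ι (a x) = n * ι x * n⁻¹ := by
    rintro P a ⟨h4, h5, k, hk, h6⟩
    obtain ⟨g, hg⟩ := (hF' P a).1 h4
    obtain ⟨j, hj, h7⟩ := odd_inducer h5 hk h6 hg
    obtain ⟨x, hx⟩ := hG (g ^ j)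
    obtain ⟨e, he⟩ := hA x
    exact ⟨g ^ j, mem_of_odd hj (e := e) (by rw [← map_pow, he, map_one]) hx, hj, h7⟩
  have hH : F'.hyperfocalSubgroup 2 ≤ U := hyp_le_of_od fun P a ha x hx => by
    obtain ⟨n, hn, -, h4⟩ := hN P a ha
    apply hU
    rw [map_mul, map_inv, h4 x hx]
    have h5 : (ι x)⁻¹ * (n * ι x * n⁻¹) = (ι x)⁻¹ * n * (ι x)⁻¹⁻¹ * n⁻¹ := by group
    rw [h5]
    exact N.mul_mem (Subgroup.Normal.conj_mem inferInstance n hn _) (N.inv_mem hn)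
  have hge := eq_of_odd hA' hF hs hle fun P a hP ha => by
    obtain ⟨n, hn, ho, h4⟩ := hN P a ha
    exact h3 P a (hP.trans hH) ha.2.1 n hn ho h4
  exact fun P a => ⟨fun h => (hF' P a).1 (mp_mono hle h), fun h => hge P a ((hF' P a).2 h)⟩

/-- **Recognition inside a larger group.** -/
theorem realizable_of_odd [Finite G] (hA : IsPGroup 2 A) {F : FusionSystem (⊤ : Subgroup A)} (hF : F.IsSaturated 2)
    {ι : A →* G} (hι : Function.Injective ι) {N : Subgroup G} [hN : N.Normal] {U : Subgroup A}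
    (hU : ∀ x, ι x ∈ N ↔ x ∈ U) {m : ℕ} (hm : Odd m) (hc : Nat.card N = Nat.card U * m)
    (h1 : ∀ P a, Od F P a → ∃ g ∈ N, ∀ x ∈ P, ι (a x) = g * ι x * g⁻¹)
    (h3 : ∀ P a, P ≤ U → (∀ x ∈ P, a x ∈ P) → ∀ n ∈ N, Odd (orderOf n) → (∀ x ∈ P, ι (a x) = n * ι x * n⁻¹) →
      Mp F P a) : F.IsRealizable 2 := by
  let H : Subgroup G := N ⊔ ι.range
  let ι' : A →* H := ι.codRestrict H fun x => (le_sup_right : ι.range ≤ H) ⟨x, rfl⟩
  have hι' : Function.Injective ι' := fun x y h => hι (congrArg Subtype.val h)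
  have hG : ∀ g : H, ∃ x, g * (ι' x)⁻¹ ∈ N.subgroupOf H := fun g => by
    obtain ⟨n, hn, _, ⟨x, rfl⟩, h⟩ := Subgroup.mem_sup_of_normal_left.1 g.2
    refine ⟨x, ?_⟩
    show (g : G) * (ι x)⁻¹ ∈ N
    rw [← h, mul_inv_cancel_right]
    exact hn
  obtain ⟨T, hT⟩ := exists_sylow_range hA hι' hG (U := U) hU hm (by
    rw [← hc]
    exact Nat.card_congr (Subgroup.subgroupOfEquivOfLe le_sup_left).toEquiv)
  refine (ind_of_odd hA hF hι' T hT hG (U := U) (fun x => (hU x).1) (fun P a ha => ?_)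
    (fun P a hP hm n hn ho h => ?_)).isRealizable hι' T hT
  · obtain ⟨g, hg, h⟩ := h1 P a ha
    exact ⟨⟨g, (le_sup_left : N ≤ H) hg⟩, fun x hx => Subtype.ext (h x hx)⟩
  · exact h3 P a hP hm n hn (by rwa [Subgroup.orderOf_coe]) fun x hx => congrArg Subtype.val (h x hx)

end ind

end Cfsg.Agent.FS.N.R
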