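import Cfsg.Agent.FS.N.R.Core
import Cfsg.Agent.H759.FusFactor
import Cfsg.Agent.S5134

/-!
# Models of factor systems (helper6, project FS, folder FS/N/R)

`Fac E R f`: `f`, multiplicative on `B` with kernel `R` and image a Sylow subgroup of `G`, realizes `E / R`.
`Ker`: the normal subgroup `K = O²(G) f(U)`.
-/

set_option autoImplicit false

namespace Cfsg.Agent.FS.N.R

open Cfsg Cfsg.FusionSystem Cfsg.Agent.H752 Cfsg.Agent.FS.Th Cfsg.Agent.FS.Real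

universe u

variable {Ω : Type u} [Group Ω] {B : Subgroup Ω} {G : Type*} [Group G]

/-- `f` is multiplicative on `B` -/
def MulOn (B : Subgroup Ω) (f : Ω → G) : Prop := ∀ x ∈ B, ∀ y ∈ B, f (x * y) = f x * f y

namespace MulOn

variable {f : Ω → G}

/-- the homomorphism on `B` -/
def hom (h : MulOn B f) : B →* G := MonoidHom.mk' (fun x => f x) fun x y => h x x.2 y y.2

theorem one (h : MulOn B f) : f 1 = 1 := map_one h.hom

theorem inv (h : MulOn B f) {x : Ω} (hx : x ∈ B) : f x⁻¹ = (f x)⁻¹ := map_inv h.hom ⟨x, hx⟩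

theorem pow (h : MulOn B f) {x : Ω} (hx : x ∈ B) (n : ℕ) : f (x ^ n) = f x ^ n := map_pow h.hom ⟨x, hx⟩ n

theorem conj (h : MulOn B f) {x y : Ω} (hx : x ∈ B) (hy : y ∈ B) : f (x * y * x⁻¹) = f x * f y * (f x)⁻¹ := by
  rw [h _ (B.mul_mem hx hy) _ (B.inv_mem hx), h _ hx _ hy, h.inv hx]

theorem inv_mul (h : MulOn B f) {x y : Ω} (hx : x ∈ B) (hy : y ∈ B) : f (x⁻¹ * y) = (f x)⁻¹ * f y := by
  rw [h _ (B.inv_mem hx) _ hy, h.inv hx]

/-- the image of a subgroup -/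
def im (h : MulOn B f) (P : Subgroup Ω) : Subgroup G := (P.subgroupOf B).map h.hom

theorem mem_im (h : MulOn B f) {P : Subgroup Ω} (hP : P ≤ B) {y : G} : y ∈ h.im P ↔ ∃ x ∈ P, f x = y :=
  ⟨fun ⟨x, hx, h1⟩ => ⟨x, hx, h1⟩, fun ⟨x, hx, h1⟩ => ⟨⟨x, hP hx⟩, hx, h1⟩⟩

/-- the preimage of a subgroup -/
def pre (h : MulOn B f) (Q : Subgroup G) : Subgroup Ω := (Q.comap h.hom).map B.subtype

theorem mem_pre (h : MulOn B f) {Q : Subgroup G} {x : Ω} : x ∈ h.pre Q ↔ x ∈ B ∧ f x ∈ Q :=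
  ⟨fun ⟨y, hy, h1⟩ => h1 ▸ ⟨y.2, hy⟩, fun ⟨h1, h2⟩ => ⟨⟨x, h1⟩, h2, rfl⟩⟩

theorem card_im (h : MulOn B f) {P : Subgroup Ω} (hP : P ≤ B) (hi : ∀ x ∈ P, f x = 1 → x = 1) :
    Nat.card (h.im P) = Nat.card P := by
  refine (Nat.card_congr (Equiv.ofBijective (fun x : P => (⟨f x, (h.mem_im hP).2 ⟨x, x.2, rfl⟩⟩ : h.im P))
    ⟨fun x y hxy => ?_, fun y => ?_⟩)).symm
  · have h1 : f x = f y := congrArg Subtype.val hxy
    have h2 := hi _ (P.mul_mem (P.inv_mem x.2) y.2) (by rw [h.inv_mul (hP x.2) (hP y.2), h1, inv_mul_cancel])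
    exact Subtype.ext (inv_mul_eq_one.1 h2)
  · obtain ⟨x, hx, h1⟩ := (h.mem_im hP).1 y.2
    exact ⟨⟨x, hx⟩, Subtype.ext h1⟩

end MulOn

/-- `f` realizes the factor system `E / R` -/
structure Fac (E : FusionSystem B) (R : Subgroup Ω) (f : Ω → G) : Prop where
  mul : MulOn B f
  ker : ∀ x ∈ B, f x = 1 ↔ x ∈ R
  syl : ∃ S : Sylow 2 G, ∀ y, y ∈ (S : Subgroup G) ↔ ∃ x ∈ B, f x = y
  down : ∀ P a, Mp E P a → ∃ g, ∀ x ∈ P, f (a x) = g * f x * g⁻¹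
  up : ∀ P : Subgroup Ω, P ≤ B → ∀ g : G, (∀ x ∈ P, ∃ y ∈ B, f y = g * f x * g⁻¹) →
    ∃ a, Mp E P a ∧ ∀ x ∈ P, f (a x) = g * f x * g⁻¹

theorem Fac.eq_iff {E : FusionSystem B} {R : Subgroup Ω} {f : Ω → G} (h : Fac E R f) {x y : Ω} (hx : x ∈ B)
    (hy : y ∈ B) : f x = f y ↔ x⁻¹ * y ∈ R := by
  rw [← h.ker _ (B.mul_mem (B.inv_mem hx) hy), h.mul.inv_mul hx hy, inv_mul_eq_one]

/-- extension of a homomorphism on `B` by `1` -/
noncomputable def tot (θ : B →* G) : Ω → G := by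
  classical
  exact fun x => if hx : x ∈ B then θ ⟨x, hx⟩ else 1

theorem tot_apply (θ : B →* G) {x : Ω} (hx : x ∈ B) : tot θ x = θ ⟨x, hx⟩ := by
  unfold tot
  exact dif_pos hx

theorem mulOn_tot (θ : B →* G) : MulOn B (tot θ) := fun x hx y hy => by
  rw [tot_apply θ hx, tot_apply θ hy, tot_apply θ (B.mul_mem hx hy), ← map_mul]
  rfl

/-- maps of a system induce maps of the factor system -/
theorem factor_down [Finite B] (hB : IsPGroup 2 B) {E : FusionSystem B} (hE : E.IsSaturated 2) {R : Subgroup Ω}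
    (hR : E.StronglyClosed R) {Q : Type*} [Group Q] {θ : B →* Q} {D : FusionSystem (⊤ : Subgroup Q)}
    (hD : E.IsFactorSystem R θ D) {P : Subgroup Ω} {a : Ω → Ω} (ha : Mp E P a) :
    ∃ b, Mp D ((mulOn_tot θ).im P) b ∧ ∀ x ∈ P, b (tot θ x) = tot θ (a x) := by
  have : Fact (Nat.Prime 2) := ⟨Nat.prime_two⟩
  obtain ⟨φ, hφ, h1⟩ := ha
  obtain ⟨φ', hφ', hP, h2, h3, h4⟩ := (S5134.result 2 hB E hE R hR θ D hD).1.2 P φ hφ
  have he : (mulOn_tot θ).im P = imageAlong θ P := by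
    ext y
    rw [(mulOn_tot θ).mem_im hP, H759.mem_imageAlong]
    exact ⟨fun ⟨x, hx, h⟩ => ⟨x, hP hx, hx, by rw [← tot_apply θ (hP hx), h]⟩,
      fun ⟨x, hx, hx', h⟩ => ⟨x, hx', by rw [tot_apply θ hx, h]⟩⟩
  rw [he]
  refine ⟨ex φ', mp_ex hφ', fun x hx => ?_⟩
  rw [tot_apply θ (hP hx), ex_apply _ (h3 ⟨x, hx⟩), h4 ⟨x, hx⟩, ← h1 x hx, tot_apply θ (h2 ⟨x, hx⟩)]

/-- maps of the factor system lift -/
theorem factor_up {E : FusionSystem B} {R : Subgroup Ω} {Q : Type*} [Group Q] {θ : B →* Q}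
    {D : FusionSystem (⊤ : Subgroup Q)} (hD : E.IsFactorSystem R θ D) {P' : Subgroup Q} {b : Q → Q}
    (hb : Mp D P' b) :
    ∃ a, Mp E ((mulOn_tot θ).pre P') a ∧ ∀ x ∈ (mulOn_tot θ).pre P', tot θ (a x) = b (tot θ x) := by
  obtain ⟨φ', hφ', h1⟩ := hb
  obtain ⟨φ, hφ, h2⟩ := H759.exists_map_of_factor hD hφ'
  have he : (mulOn_tot θ).pre P' = preimageAlong θ P' := by
    ext x
    rw [(mulOn_tot θ).mem_pre, H759.mem_preimageAlong]
    exact ⟨fun ⟨h, h'⟩ => ⟨h, by rwa [tot_apply θ h] at h'⟩, fun ⟨h, h'⟩ => ⟨h, by rwa [tot_apply θ h]⟩⟩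
  rw [he]
  refine ⟨ex φ, mp_ex hφ, fun x hx => ?_⟩
  obtain ⟨hxB, hx'⟩ := H759.mem_preimageAlong.1 hx
  have h3 := (E.le_of_mem hφ).2 ⟨x, hx⟩
  rw [ex_apply _ hx, tot_apply θ h3, tot_apply θ hxB, ← h2 x hx hxB hx' h3, h1]

theorem fac_of_ind [Finite B] (hB : IsPGroup 2 B) {E : FusionSystem B} (hE : E.IsSaturated 2) {R : Subgroup Ω}
    (hR : E.StronglyClosed R) {Q : Type*} [Group Q] {θ : B →* Q} {D : FusionSystem (⊤ : Subgroup Q)}
    (hD : E.IsFactorSystem R θ D) {f : Q →* G} (hf : Ind D f) (hi : Function.Injective f) (T : Sylow 2 G)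
    (hT : (T : Subgroup G) = f.range) : Fac E R (fun x => f (tot θ x)) where
  mul x hx y hy := by
    show f _ = f _ * f _
    rw [mulOn_tot θ x hx y hy, map_mul]
  ker x hx := by
    rw [map_eq_one_iff f hi, tot_apply θ hx]
    exact hD.2.1 ⟨x, hx⟩
  syl := ⟨T, fun y => by
    rw [hT]
    constructor
    · rintro ⟨q, rfl⟩
      have h1 : q ∈ θ.range := by rw [hD.2.2.1]; trivial
      obtain ⟨x, rfl⟩ := h1
      exact ⟨x, x.2, by rw [tot_apply θ x.2]⟩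
    · rintro ⟨x, -, rfl⟩
      exact ⟨_, rfl⟩⟩
  down P a ha := by
    obtain ⟨b, hb, h1⟩ := factor_down hB hE hR hD ha
    obtain ⟨g, hg⟩ := (hf _ b).1 hb
    refine ⟨g, fun x hx => ?_⟩
    rw [← h1 x hx]
    exact hg _ (((mulOn_tot θ).mem_im ha.le).2 ⟨x, hx, rfl⟩)
  up P hP g hg := by
    have h1 : ∀ q ∈ (mulOn_tot θ).im P, ∃ r, f r = g * f q * g⁻¹ := fun q hq => by
      obtain ⟨x, hx, rfl⟩ := ((mulOn_tot θ).mem_im hP).1 hq
      obtain ⟨y, -, h⟩ := hg x hx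
      exact ⟨_, h⟩
    choose! b hb using h1
    obtain ⟨a, ha, h2⟩ := factor_up hD ((hf _ b).2 ⟨g, hb⟩)
    have hle : P ≤ (mulOn_tot θ).pre ((mulOn_tot θ).im P) := fun x hx =>
      (mulOn_tot θ).mem_pre.2 ⟨hP hx, ((mulOn_tot θ).mem_im hP).2 ⟨x, hx, rfl⟩⟩
    refine ⟨a, ha.res hle, fun x hx => ?_⟩
    rw [h2 x (hle hx)]
    exact hb _ (((mulOn_tot θ).mem_im hP).2 ⟨x, hx, rfl⟩)

theorem normal_subgroupOf {E : FusionSystem B} {R : Subgroup Ω} (hR : E.StronglyClosed R) :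
    (R.subgroupOf B).Normal :=
  ⟨fun _ hx g => H759.StronglyClosed.conj_mem hR g.2 hx⟩

theorem exists_factor [Finite B] (hB : IsPGroup 2 B) {E : FusionSystem B} (hE : E.IsSaturated 2) {R : Subgroup Ω}
    (hR : E.StronglyClosed R) : ∃ (_ : (R.subgroupOf B).Normal)
      (D : FusionSystem (⊤ : Subgroup (B ⧸ R.subgroupOf B))), D.IsSaturated 2 ∧
        E.IsFactorSystem R (QuotientGroup.mk' (R.subgroupOf B)) D := by
  have : Fact (Nat.Prime 2) := ⟨Nat.prime_two⟩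
  have hn := normal_subgroupOf hR
  obtain ⟨D, hD⟩ := H759.exists_factorSystem (θ := QuotientGroup.mk' (R.subgroupOf B)) (S' := ⊤) hR
    (fun s => QuotientGroup.eq_one_iff s) (MonoidHom.range_eq_top.2 (QuotientGroup.mk'_surjective _))
  exact ⟨hn, D, H759.isSaturated_factor hB hE hR hD, hD⟩

/-- the induction hypothesis gives a model of the factor system -/
theorem exists_fac {A : Type} [Group A] {B : Subgroup A} [Finite B] (hB : IsPGroup 2 B) {n : ℕ} (hI : IH n)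
    {E : FusionSystem B} (hE : E.IsSaturated 2) {R : Subgroup A} (hR : E.StronglyClosed R)
    (hn : R.relIndex B < n) : ∃ (G : Type) (_ : Group G) (_ : Finite G) (f : A → G), Fac E R f := by
  obtain ⟨hN, D, hDs, hD⟩ := exists_factor hB hE hR
  obtain ⟨G, _, _, f, T, h1, h2, h3⟩ := ind_of_isRealizable (hI _ (hB.to_quotient _) hn D hDs)
  exact ⟨G, inferInstance, inferInstance, _, fac_of_ind hB hE hR hD h1 h2 T h3⟩

theorem card_inf_mul_relIndex (H K : Subgroup G) : Nat.card ↥(H ⊓ K) * H.relIndex K = Nat.card K := by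
  rw [← Subgroup.inf_relIndex_right, Subgroup.relIndex, ← Subgroup.card_mul_index ((H ⊓ K).subgroupOf K)]
  congr 1
  exact (Nat.card_congr (Subgroup.subgroupOfEquivOfLe inf_le_right).toEquiv).symm

theorem relIndex_dvd_index [Finite G] (H K : Subgroup G) [K.Normal] : H.relIndex K ∣ H.index := by
  have h1 := card_inf_mul_relIndex H K
  have h2 := card_inf_mul_relIndex K H
  have h3 := card_inf_mul_relIndex K (H ⊔ K)
  have h4 := card_inf_mul_relIndex H (H ⊔ K)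
  rw [inf_eq_left.2 le_sup_right, Subgroup.relIndex_sup_right] at h3
  rw [inf_eq_left.2 le_sup_left, ← h3, ← h2, ← h1, inf_comm K H] at h4
  have h5 : H.relIndex (H ⊔ K) = H.relIndex K := by
    have h6 : 0 < Nat.card ↥(H ⊓ K) * K.relIndex H := by
      rw [inf_comm, h2]
      exact Nat.card_pos
    refine Nat.eq_of_mul_eq_mul_left h6 ?_
    rw [h4]
    ring
  rw [← h5]
  exact Subgroup.relIndex_dvd_index_of_le le_sup_left

section ker

variable {E : FusionSystem B} {R : Subgroup Ω} {f : Ω → G}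

/-- lifting of an odd element normalizing the image of `P ≥ R` -/
theorem Fac.lift [Finite B] (h : Fac E R f) {P : Subgroup Ω} (hP : P ≤ B) (hRP : R ≤ P) {g : G}
    (hg : ∀ x ∈ P, ∃ y ∈ P, f y = g * f x * g⁻¹) {k : ℕ} (hk : Odd k)
    (hgk : ∀ x ∈ P, g ^ k * f x * (g ^ k)⁻¹ = f x) : ∃ a, Od E P a ∧ ∀ x ∈ P, f (a x) = g * f x * g⁻¹ := by
  obtain ⟨a, ha, h1⟩ := h.up P hP g fun x hx => by
    obtain ⟨y, hy, h2⟩ := hg x hx
    exact ⟨y, hP hy, h2⟩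
  have hm : ∀ x ∈ P, a x ∈ P := fun x hx => by
    obtain ⟨y, hy, h2⟩ := hg x hx
    have h3 := (h.eq_iff (hP hy) (ha.mem hx)).1 (h2.trans (h1 x hx).symm)
    have h4 := P.mul_mem hy (hRP h3)
    rwa [mul_inv_cancel_left] at h4
  obtain ⟨j, hj, -, ho⟩ := exists_od ha hm hk
  refine ⟨_, ho, fun x hx => ?_⟩
  rw [conj_iter hm h1 j x hx]
  have h2 : ∀ n, (fun y => g * y * g⁻¹)^[n] (f x) = g ^ n * f x * (g ^ n)⁻¹ := fun n =>
    conj_iter (P := ⊤) (a := fun y => g * y * g⁻¹) (f := fun y => y) (fun _ _ => trivial) (fun _ _ => rfl) n _ trivial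
  rw [← h2, iter_mod ((h2 k).trans (hgk x hx)) hj]
  rfl

/-- the normal subgroup `K` with Sylow subgroup `f(U)` and a `2`-group as quotient -/
structure Ker (B U : Subgroup Ω) (f : Ω → G) (K : Subgroup G) : Prop where
  normal : K.Normal
  mem : ∀ x ∈ B, f x ∈ K ↔ x ∈ U
  odd : ∀ g, Odd (orderOf g) → g ∈ K
  top : ∀ g, ∃ x ∈ B, g * (f x)⁻¹ ∈ K
  card : ∀ V : Subgroup G, (∀ y, y ∈ V ↔ ∃ x ∈ U, f x = y) → ∃ m, Odd m ∧ Nat.card K = Nat.card V * m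

theorem Fac.mem_of_residual [Finite B] [Finite G] (h : Fac E R f) (hRB : R ≤ B) {U : Subgroup Ω} (hUB : U ≤ B)
    (hRU : R ≤ U) (hH : E.hyperfocalSubgroup 2 ≤ U) {x : Ω} (hx : x ∈ B) (hr : f x ∈ pResidual 2 G) : x ∈ U := by
  have : Fact (Nat.Prime 2) := ⟨Nat.prime_two⟩
  obtain ⟨S, hS⟩ := h.syl
  have h1 : f x ∈ (groupFusionSystem (S : Subgroup G)).hyperfocalSubgroup 2 := by
    rw [S5093.result 2 S]
    exact ⟨(hS _).2 ⟨x, hx, rfl⟩, hr⟩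
  have h2 : (groupFusionSystem (S : Subgroup G)).hyperfocalSubgroup 2 ≤ h.mul.im U := hyp_le_of_od (by
    rintro P' b ⟨⟨φ, ⟨hP', -, g, hg⟩, h3⟩, h4, k, hk, h5⟩ y hy
    have h6 : ∀ y ∈ P', b y = g * y * g⁻¹ := fun y hy => by rw [← h3 y hy]; exact hg ⟨y, hy⟩
    obtain ⟨a, ha, h7⟩ := h.lift (P := h.mul.pre P') (fun x hx => (h.mul.mem_pre.1 hx).1)
      (fun r hr => h.mul.mem_pre.2 ⟨hRB hr, by rw [(h.ker r (hRB hr)).2 hr]; exact P'.one_mem⟩) (g := g)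
      (fun x hx => by
        have h8 := h4 _ (h.mul.mem_pre.1 hx).2
        obtain ⟨z, hz, h9⟩ := (hS _).1 (hP' h8)
        exact ⟨z, h.mul.mem_pre.2 ⟨hz, h9 ▸ h8⟩, h9.trans (h6 _ (h.mul.mem_pre.1 hx).2)⟩) hk
      (fun x hx => by
        have h8 := conj_iter (f := fun y => y) h4 h6 k _ (h.mul.mem_pre.1 hx).2
        rw [← h8]
        exact h5 _ (h.mul.mem_pre.1 hx).2)
    obtain ⟨z, hz, rfl⟩ := (hS _).1 (hP' hy)
    have hz' : z ∈ h.mul.pre P' := h.mul.mem_pre.2 ⟨hz, hy⟩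
    refine (h.mul.mem_im hUB).2 ⟨_, hH (ha.mem_hyp hz'), ?_⟩
    rw [h.mul.inv_mul hz (ha.1.mem hz'), h7 z hz', h6 _ hy])
  obtain ⟨u, hu, h3⟩ := (h.mul.mem_im hUB).1 (h2 h1)
  have h4 := U.mul_mem hu (hRU ((h.eq_iff (hUB hu) hx).1 h3))
  rwa [mul_inv_cancel_left] at h4

theorem Fac.exists_ker [Finite B] [Finite G] (h : Fac E R f) {U : Subgroup Ω} (hUB : U ≤ B)
    (hRU : R ≤ U) (hUn : ∀ s ∈ B, ∀ u ∈ U, s * u * s⁻¹ ∈ U) (hH : E.hyperfocalSubgroup 2 ≤ U) :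
    ∃ K : Subgroup G, Ker B U f K := by
  have : Fact (Nat.Prime 2) := ⟨Nat.prime_two⟩
  have hn := TwoFusion.PResidual.pResidual_normal (G := G) 2
  obtain ⟨S, hS⟩ := h.syl
  have hdec : ∀ g : G, ∃ r ∈ pResidual 2 G, ∃ x ∈ B, g = r * f x := fun g => by
    obtain ⟨r, hr, b, hb, h1⟩ := exists_residual_mul S g
    obtain ⟨x, hx, rfl⟩ := (hS b).1 hb
    exact ⟨r, hr, x, hx, h1⟩
  have hmemK : ∀ g, g ∈ pResidual 2 G ⊔ h.mul.im U ↔ ∃ r ∈ pResidual 2 G, ∃ u ∈ U, g = r * f u := fun g => by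
    rw [Subgroup.mem_sup_of_normal_left]
    constructor
    · rintro ⟨r, hr, y, hy, rfl⟩
      obtain ⟨u, hu, rfl⟩ := (h.mul.mem_im hUB).1 hy
      exact ⟨r, hr, u, hu, rfl⟩
    · rintro ⟨r, hr, u, hu, rfl⟩
      exact ⟨r, hr, _, (h.mul.mem_im hUB).2 ⟨u, hu, rfl⟩, rfl⟩
  have hK : (pResidual 2 G ⊔ h.mul.im U).Normal := ⟨fun k hk g => by
    obtain ⟨r, hr, u, hu, rfl⟩ := (hmemK k).1 hk
    obtain ⟨r', hr', x, hx, rfl⟩ := hdec g
    refine (hmemK _).2 ⟨r' * (f x * r * (f x)⁻¹) * (f (x * u * x⁻¹) * r'⁻¹ * (f (x * u * x⁻¹))⁻¹),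
      mul_mem (mul_mem hr' (hn.conj_mem _ hr _)) (hn.conj_mem _ (inv_mem hr') _), _, hUn x hx u hu, ?_⟩
    rw [h.mul.conj hx (hUB hu)]
    group⟩
  have hmem : ∀ x ∈ B, f x ∈ pResidual 2 G ⊔ h.mul.im U ↔ x ∈ U := fun x hx => by
    rw [hmemK]
    constructor
    · rintro ⟨r, hr, u, hu, h1⟩
      have h2 : x * u⁻¹ ∈ U := h.mem_of_residual (hRU.trans hUB) hUB hRU hH (B.mul_mem hx (B.inv_mem (hUB hu))) (by
        rw [h.mul _ hx _ (B.inv_mem (hUB hu)), h.mul.inv (hUB hu), h1, mul_inv_cancel_right]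
        exact hr)
      exact (U.mul_mem_cancel_right (U.inv_mem hu)).1 h2
    · exact fun hu => ⟨1, one_mem _, x, hu, (one_mul _).symm⟩
  refine ⟨_, hK, hmem, fun g hg => (le_sup_left : pResidual 2 G ≤ _)
    (TwoFusion.PResidual.mem_pResidual_of_coprime 2 (Nat.coprime_two_right.2 hg)), fun g => ?_, fun V hV => ?_⟩
  · obtain ⟨r, hr, x, hx, rfl⟩ := hdec g
    exact ⟨x, hx, by rw [mul_inv_cancel_right]; exact (le_sup_left : pResidual 2 G ≤ _) hr⟩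
  · set K := pResidual 2 G ⊔ h.mul.im U with hKdef
    have hV' : V = (S : Subgroup G) ⊓ K := by
      ext y
      rw [hV, Subgroup.mem_inf, hS]
      constructor
      · rintro ⟨u, hu, rfl⟩
        exact ⟨⟨u, hUB hu, rfl⟩, (hmem u (hUB hu)).2 hu⟩
      · rintro ⟨⟨x, hx, rfl⟩, h1⟩
        exact ⟨x, (hmem x hx).1 h1, rfl⟩
    refine ⟨(S : Subgroup G).relIndex K, ?_, ?_⟩
    · refine Nat.not_even_iff_odd.1 fun he => S.not_dvd_index ?_
      exact (even_iff_two_dvd.1 he).trans (relIndex_dvd_index _ _)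
    · rw [hV', card_inf_mul_relIndex]

end ker

end Cfsg.Agent.FS.N.R
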