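import Cfsg.Agent.FS.N.R.Quo

/-!
# The good case of `BoxR3` (helper6, project FS, folder FS/N/R)
-/

set_option autoImplicit false

namespace Cfsg.Agent.FS.N.R

open Cfsg Cfsg.FusionSystem Cfsg.Agent.H752 Cfsg.Agent.FS.Th Cfsg.Agent.FS.Real

variable {A : Type} [Group A] [Finite A] {F : Sys A} {T R : Subgroup A} {E : FusionSystem T}

theorem real_of_pair (hA : IsPGroup 2 A) (hI : IH (Nat.card A)) (hF : F.IsSaturated 2) (hT : F.StronglyClosed T)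
    (hR : F.StronglyClosed R) (h1 : T ≠ ⊥) (h2 : R ≠ ⊥) (hi : T ⊓ R = ⊥) (hc : ∀ x ∈ T, ∀ y ∈ R, x * y = y * x)
    (hH : hyp F ≤ T ⊔ R) (hs : Spl F T R) : F.IsRealizable 2 := by
  have nT := D.nz_of_sc hT
  have nR := D.nz_of_sc hR
  refine boxFP A hA hI F T R hF ⟨h1, h2, hi, hc, fun s => .inl ⟨nT s trivial, nR s trivial⟩⟩ (fun P f hf => ?_) hs
  obtain ⟨s, hs, h3⟩ := gen_odd (hA.to_subgroup _) hF (D.closed_cg F (nT.sup nR))
    (fun P a ha => D.Cg.of_triv fun x hx => hH (ha.mem_hyp hx)) P f hf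
  exact ⟨s, fun x hx => ⟨h3 x hx, fun k => nT.inv hs (mp_mem_of_stronglyClosed hT hf hx k),
    fun k => nR.inv hs (mp_mem_of_stronglyClosed hR hf hx k)⟩⟩

/-- conjugations which are maps of `E` -/
theorem mem_sup_of_mp (hA : IsPGroup 2 A) (hE : E.IsSaturated 2) {s : A} (hs : Mp E T fun t => s * t * s⁻¹) :
    s ∈ T ⊔ centralizerIn ⊤ T := by
  have : Fact (Nat.Prime 2) := ⟨Nat.prime_two⟩
  obtain ⟨α, hα, h1⟩ := hs.exists_aut fun x hx => hs.mem hx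
  obtain ⟨k, hk⟩ := IsPGroup.iff_orderOf.1 (H802.isPGroup_autInducedBy (hA.to_subgroup ⊤) T)
    ⟨α, H759.mem_autInducedBy.2 ⟨s, trivial, fun x => (h1 x x.2).symm⟩⟩
  rw [Subgroup.orderOf_mk] at hk
  obtain ⟨t, ht, h2⟩ := H759.mem_autInducedBy.1 (mem_autInducedBy_of_orderOf (hA.to_subgroup T) hE hα hk)
  have h3 : t⁻¹ * s ∈ centralizerIn ⊤ T := ⟨trivial, fun x hx => by
    have h4 : s * x * s⁻¹ = t * x * t⁻¹ := (h1 x hx).trans (h2 ⟨x, hx⟩)
    calc x * (t⁻¹ * s) = t⁻¹ * (t * x * t⁻¹) * s := by group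
      _ = t⁻¹ * (s * x * s⁻¹) * s := by rw [h4]
      _ = t⁻¹ * s * x := by group⟩
  have h4 := Subgroup.mul_mem_sup ht h3
  rwa [mul_inv_cancel_left] at h4

namespace Su

variable (h : Su F T R E)
include h

section quo

variable {B : Type} [Group B] {π : A →* B}

theorem exists_pull (hA : IsPGroup 2 A) (hk : ∀ x, π x = 1 ↔ x ∈ R) {E' : FusionSystem (T.map π)}
    (hE' : Fq E (T ⊓ R) π E') :
    ∃ D : Sys (T.map π), H759.IsPush (Subgroup.subtype_injective (T.map π)) D E' ∧ Hy0 D ∧ hyp D = ⊤ := by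
  have : Fact (Nat.Prime 2) := ⟨Nat.prime_two⟩
  have : Finite (T.map π) := Finite.Set.finite_image _ _
  obtain ⟨D, hD⟩ := H759.exists_pull' (hf := Subgroup.subtype_injective (T.map π)) (T₁ := ⊤) (by
    rw [← MonoidHom.range_eq_map, Subgroup.range_subtype]) E'
  have h1 := (hyp_push_iff hD).1 ⟨hE'.sat, h.core_eq hA hk hE', by rw [hE'.hyp, h.perf]⟩
  exact ⟨D, hD, ⟨h1.sat, h1.core⟩, h1.hyp⟩

theorem good_mod (hA : IsPGroup 2 A) (hk : ∀ x, π x = 1 ↔ x ∈ R) {F' : Sys B} (hF' : Fq F R π F')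
    {E' : FusionSystem (T.map π)} (hE' : Fq E (T ⊓ R) π E') {D : Sys (T.map π)}
    (hD : H759.IsPush (Subgroup.subtype_injective (T.map π)) D E')
    (htop : ∀ θ : MulAut (T.map π), Odd (orderOf θ) → Keeps θ D → Mp D ⊤ θ) {a : A → A} (ha : Od F T a) :
    ∃ b, Mp E T b ∧ ∀ x ∈ T, (b x)⁻¹ * a x ∈ R := by
  have : Finite (T.map π) := Finite.Set.finite_image _ _
  have hI := (isInvariantIn_iff.1 (h.nor_fq hA hF' hE').1.2.2).2.2.1
  obtain ⟨a', ⟨h1, h2, k, hk', h3⟩, h4⟩ := hF'.od ha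
  obtain ⟨α, hα, h5⟩ := h1.exists_aut h2
  have h6 : ∀ x : T.map π, a' x = α x := fun x => h5 x x.2
  have ho : Odd (orderOf α) := odd_of_dvd (orderOf_dvd_of_pow_eq_one (MulEquiv.ext fun x => Subtype.ext (by
    have h7 := iter_fn α k x x.2
    rw [← iter_congr (fun y hy => fn_mem α hy) (fun y hy => (h5 y hy).trans (fn_apply α hy).symm) k x x.2, h3 x x.2,
      fn_apply _ x.2] at h7
    exact h7.symm))) hk'
  have h7 := htop α ho fun P c d hcd hc => by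
    have h8 := (mp_push_iff hD (P := P) (a := c) (b := ex fun x => (c x : B)) fun x _ => ex_coe _ x).2 hc
    refine (mp_push_iff hD (a := d) (b := ex fun x => (d x : B)) fun x _ => ex_coe _ x).1 (hI _ _ _ a' _ h8 h1 ?_)
    rintro _ ⟨_, ⟨x, hx, rfl⟩, rfl⟩
    refine ⟨x, ⟨x, hx, rfl⟩, h6 x, ?_⟩
    rw [ex_coe, h6]
    exact (ex_coe _ _).trans (congrArg Subtype.val (hcd x hx))
  have h8 := (mp_push_iff hD (P := ⊤) (a := α) (b := a') fun x _ => h6 x).2 h7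
  rw [← MonoidHom.range_eq_map, Subgroup.range_subtype] at h8
  obtain ⟨b, hb, h9⟩ := hE'.up _ _ h8
  have h10 : T ≤ T ⊓ (T.map π).comap π := fun x hx => ⟨hx, x, hx, rfl⟩
  refine ⟨b, hb.res h10, fun x hx => (hk _).1 ?_⟩
  rw [map_mul, map_inv, ← h9 x (h10 hx), h4 x hx, inv_mul_cancel]

end quo

theorem inf_eq_bot (hA : IsPGroup 2 A) (hc : F.center = ⊥)
    (hg : ∀ a, Od F T a → ∃ b, Mp E T b ∧ ∀ x ∈ T, (b x)⁻¹ * a x ∈ R) : T ⊓ R = ⊥ := by
  refine bot_of_odd hA h.sat hc (h.normalV hA) fun a ha v hv => ?_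
  obtain ⟨α, hα, φ, hφ, h1⟩ := (isInvariantIn_iff.1 h.nor.1.2.2).2.2.2 _ a inf_le_left ha.1
  obtain ⟨-, h2, k, hk, h3⟩ := ha
  have hm : ∀ x ∈ T, α x ∈ T := fun x hx => mp_mem_of_stronglyClosed h.scT hα hx hx
  obtain ⟨j, hj, -, ho⟩ := exists_od hα hm hk
  obtain ⟨b, hb, h4⟩ := hg _ ho
  have h5 := agree_comm ho.1 hb (fun x hx => hb.mem hx) (fun x hx => ⟨T.mul_mem (T.inv_mem (hb.mem hx)) (ho.2.1 x hx),
    fun t ht => h.comm t ht _ (h4 x hx)⟩) v (h.le_comm hA hv)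
  rw [h.cz.fix hb hv.1 hv.2, iter_congr h2 (g := α) (fun x hx => by rw [h1 x hx, h.cz.fix hφ hx hx.2]) j v hv,
    iter_mod (h3 v hv) hj] at h5
  exact h5

theorem hyp_le (hA : IsPGroup 2 A) (hg : ∀ a, Od F T a → Mp E T a) : hyp F ≤ T ⊔ R := by
  have : Fact (Nat.Prime 2) := ⟨Nat.prime_two⟩
  have hS : IsPGroup 2 (⊤ : Subgroup A) := hA.to_subgroup _
  have hn := normal_of_sc h.scT
  have hnR := normal_of_sc h.sc
  have hI := (isInvariantIn_iff.1 h.nor.1.2.2).2.2.1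
  have key : ∀ P a, T ≤ P → Od F P a → ∀ x ∈ P, x⁻¹ * a x ∈ T ⊔ R := by
    intro P a hP ha x hx
    have hm : ∀ t ∈ T, a t ∈ T := fun t ht => mp_mem_of_stronglyClosed h.scT ha.1 (hP ht) ht
    have haE := hg a (ha.res hP hm)
    refine D.Od.two hS ha (Q := T ⊔ centralizerIn ⊤ T) (fun y hy => ?_) (fun y hy hQ => ?_) hx
    · obtain ⟨g, hg, h1, h2⟩ := haE.exists_symm le_rfl (T := T) fun z =>
        ⟨fun hz => haE.surj hm hz, fun ⟨w, hw, e⟩ => e ▸ hm w hw⟩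
      have h3 : Mp E T fun t => y⁻¹ * a (y * t * y⁻¹) * y :=
        hI T T a (fun t => y⁻¹ * t * y⁻¹⁻¹) _ haE (mp_conj F le_top trivial) fun t ht =>
          ⟨y * t * y⁻¹, hn.conj_mem t ht y, by group, by rw [inv_inv]⟩
      refine mem_sup_of_mp hA h.satE ((hg.comp h3 fun t ht => (h2 t ht).1).congr fun t ht => ?_)
      have h4 := hP (h2 t ht).1
      show _ = y⁻¹ * a (y * g t * y⁻¹) * y
      rw [ha.1.mul (P.mul_mem hy h4) (P.inv_mem hy), ha.1.mul hy h4, ha.1.inv hy, (h2 t ht).2]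
      group
    · obtain ⟨t, ht, c, hc, rfl⟩ := Subgroup.mem_sup_of_normal_left.1 hQ
      have hcP : c ∈ P := (P.mul_mem_cancel_left (hP ht)).1 hy
      obtain ⟨β, hβ, b1, b2, b3, b4⟩ := H758.n1_mp h.nor haE
      obtain ⟨g, hg, g1, g2⟩ := hβ.exists_symm le_rfl (T := T ⊔ centralizerIn ⊤ T) fun z =>
        ⟨fun hz => hβ.surj b4 hz, fun ⟨w, hw, e⟩ => e ▸ b4 w hw⟩
      have hC : ∀ y ∈ P ⊓ centralizerIn ⊤ T, a y ∈ centralizerIn ⊤ T := fun y hy => ⟨trivial, fun u hu => by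
        obtain ⟨w, hw, rfl⟩ := haE.surj hm hu
        rw [← ha.1.mul (hP hw) hy.1, ← ha.1.mul hy.1 (hP hw), hy.2.2 w hw]⟩
      have hle : P ⊓ centralizerIn ⊤ T ⊔ T ≤ P := sup_le inf_le_left hP
      have hmap : ∀ y ∈ P ⊓ centralizerIn ⊤ T ⊔ T, a y ∈ T ⊔ centralizerIn ⊤ T := fun y hy => by
        obtain ⟨u, hu, w, hw, rfl⟩ := Subgroup.mem_sup_of_normal_right.1 hy
        rw [ha.1.mul hu.1 (hP hw), sup_comm]
        exact Subgroup.mul_mem_sup (hC u hu) (hm w hw)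
      have h5 := h.foc (P ⊓ centralizerIn ⊤ T) _ inf_le_right ((ha.1.res hle).comp hg hmap) (fun u hu => by
        show g (a u) = u
        rw [← b1 u hu, g1 u (le_sup_left (a := T) hu)]) c ⟨hcP, hc⟩
      have h6 := g2 (a c) (le_sup_right (a := T) (hC c ⟨hcP, hc⟩))
      have h7 : g (a c) ∈ centralizerIn ⊤ T := by
        have h8 := (centralizerIn ⊤ T).mul_mem hc (show c⁻¹ * g (a c) ∈ centralizerIn ⊤ T from
          ⟨trivial, fun u hu => h.comm u hu _ h5⟩)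
        rwa [mul_inv_cancel_left] at h8
      have h8 := (b2 _ h7).1
      rw [h6.2] at h8
      have h9 : c⁻¹ * a c ∈ T ⊔ R := by
        have h10 := (T ⊔ R).mul_mem (le_sup_right (a := T) h5) (le_sup_left (b := R) h8)
        rwa [mul_assoc, mul_inv_cancel_left] at h10
      rw [ha.1.mul (hP ht) hcP, show (t * c)⁻¹ * (a t * a c) = c⁻¹ * (t⁻¹ * a t) * c⁻¹⁻¹ * (c⁻¹ * a c) by group]
      exact (T ⊔ R).mul_mem (le_sup_left (b := R) (hn.conj_mem _ (T.mul_mem (T.inv_mem ht) (hm t ht)) _)) h9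
  obtain ⟨D, hD⟩ := exists_fq (π := QuotientGroup.mk' T) hA h.sat h.scT (fun x _ => QuotientGroup.eq_one_iff x) rfl
  refine hyp_le_of_od fun P a ha x hx => ?_
  obtain ⟨b, ⟨hb, b1, k, hk, b2⟩, b3⟩ := hD.od ha
  obtain ⟨c, hc, c1⟩ := hD.up _ _ hb
  have hm : ∀ y ∈ ⊤ ⊓ (P.map (QuotientGroup.mk' T)).comap (QuotientGroup.mk' T),
      c y ∈ ⊤ ⊓ (P.map (QuotientGroup.mk' T)).comap (QuotientGroup.mk' T) := fun y hy =>
    ⟨trivial, Subgroup.mem_comap.2 (c1 y hy ▸ b1 _ hy.2)⟩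
  obtain ⟨j, hj, -, ho⟩ := exists_od hc hm hk
  have hx' : x ∈ ⊤ ⊓ (P.map (QuotientGroup.mk' T)).comap (QuotientGroup.mk' T) := ⟨trivial, x, hx, rfl⟩
  have h0 : T ≤ ⊤ ⊓ (P.map (QuotientGroup.mk' T)).comap (QuotientGroup.mk' T) := fun t ht =>
    ⟨trivial, 1, P.one_mem, ((QuotientGroup.eq_one_iff t).2 ht).symm⟩
  have h1 := key _ _ h0 ho x hx'
  have h2 : ∀ n, ∀ y ∈ ⊤ ⊓ (P.map (QuotientGroup.mk' T)).comap (QuotientGroup.mk' T),
      b^[n] (QuotientGroup.mk' T y) = QuotientGroup.mk' T (c^[n] y) := fun n => by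
    induction n with
    | zero => exact fun _ _ => rfl
    | succ n ih => exact fun y hy => by rw [Function.iterate_succ_apply, c1 y hy, ih _ (hm y hy)]; rfl
  have h3 := h2 j x hx'
  rw [iter_mod (b2 _ ⟨x, hx, rfl⟩) hj, Function.iterate_one, b3 x hx] at h3
  have h4 := (T ⊔ R).mul_mem h1 (le_sup_left (b := R) (QuotientGroup.eq.1 h3.symm))
  rwa [mul_assoc, mul_inv_cancel_left] at h4

/-- **The good case.** -/
theorem real_good (hA : IsPGroup 2 A) (hI : IH (Nat.card A)) (hc : F.center = ⊥) (hq : F.core ≠ ⊥)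
    (hg : ∀ a, Od F T a → ∃ b, Mp E T b ∧ ∀ x ∈ T, (b x)⁻¹ * a x ∈ R) : F.IsRealizable 2 := by
  have hV := h.inf_eq_bot hA hc hg
  have h1 : ∀ a, Od F T a → Mp E T a := fun a ha => by
    obtain ⟨b, hb, h2⟩ := hg a ha
    refine hb.congr fun x hx => (inv_mul_eq_one.1 (Subgroup.mem_bot.1 ?_)).symm
    rw [← hV]
    exact ⟨T.mul_mem (T.inv_mem (hb.mem hx)) (ha.2.1 x hx), h2 x hx⟩
  exact real_of_pair hA hI h.sat h.scT h.sc (fun e => h.nle (e ▸ bot_le)) (fun e => hq (le_bot_iff.1 (e ▸ h.le))) hV h.comm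
    (h.hyp_le hA h1) fun a ha => h.cz T a (h1 a ha)

end Su

end Cfsg.Agent.FS.N.R
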