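import Cfsg.Agent.FS.N.R.FP
import Cfsg.Agent.FS.N.D.Odd
import Cfsg.Agent.H758.PRes
import Cfsg.Agent.H759.GenFit
import Cfsg.Agent.H759.CentNormal
import Cfsg.Agent.H747.MonoOfBiset
import Cfsg.Agent.GTwoFour.Tools
import Cfsg.Agent.S5084
import Cfsg.Agent.S5127
import Cfsg.Agent.S5140
import Cfsg.Agent.S5141
import Cfsg.Agent.S5142
import Cfsg.Agent.S5146
import Cfsg.Agent.S5148
import Cfsg.Agent.S5149
import Cfsg.Agent.S5150
import Cfsg.Agent.S5290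
import Cfsg.Agent.S5293

/-!
# The setting of `BoxR3` (helper6, project FS, folder FS/N/R)

A perfect normal subsystem `E` over `T` which centralizes the core, and `R = C_S(E)`.
-/

set_option autoImplicit false

namespace Cfsg.Agent.FS.N.R

open Cfsg Cfsg.FusionSystem Cfsg.Agent.H752 Cfsg.Agent.FS.Th Cfsg.Agent.FS.Real

section gen

universe u

variable {Ω : Type u} [Group Ω] {S T : Subgroup Ω} {F : FusionSystem S} {E : FusionSystem T}

/-- the maps of `E` extend to maps of `F` which fix `Y` -/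
def Cz (F : FusionSystem S) (E : FusionSystem T) (Y : Subgroup Ω) : Prop :=
  ∀ P a, Mp E P a → ∃ b, Mp F (P ⊔ Y) b ∧ (∀ x ∈ P, b x = a x) ∧ ∀ y ∈ Y, b y = y

theorem cz_of {Y : Subgroup Ω} (h : ∀ P : Subgroup Ω, E.Hom P ⊆ F.centralizerHom Y P) : Cz F E Y := by
  rintro P a ⟨φ, hφ, h1⟩
  obtain ⟨-, -, -, ψ, hψ, h2, h3⟩ := h P hφ
  refine ⟨ex ψ, mp_ex hψ, fun x hx => ?_, fun y hy => ?_⟩
  · rw [ex_apply _ ((le_sup_left : P ≤ P ⊔ Y) hx), ← h1 x hx]
    exact h2 ⟨x, hx⟩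
  · rw [ex_apply _ ((le_sup_right : Y ≤ P ⊔ Y) hy)]
    exact h3 ⟨y, hy⟩

theorem Cz.fix {Y : Subgroup Ω} (h : Cz F E Y) {P : Subgroup Ω} {a : Ω → Ω} (ha : Mp E P a) {x : Ω} (hx : x ∈ P)
    (hy : x ∈ Y) : a x = x := by
  obtain ⟨b, -, h1, h2⟩ := h P a ha
  rw [← h1 x hx, h2 x hy]

theorem mp_normal {Q P : Subgroup Ω} (hQ : F.IsNormal Q) {a : Ω → Ω} (ha : Mp F P a) :
    ∃ b, Mp F (P ⊔ Q) b ∧ ∀ x ∈ P, b x = a x := by
  obtain ⟨φ, hφ, h1⟩ := ha
  obtain ⟨ψ, hψ, h2, -⟩ := hQ.2 P φ hφ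
  refine ⟨ex ψ, mp_ex hψ, fun x hx => ?_⟩
  rw [ex_apply _ ((le_sup_left : P ≤ P ⊔ Q) hx), ← h1 x hx]
  exact h2 ⟨x, hx⟩

theorem central_of_fix [Finite S] (hS : IsPGroup 2 S) (hF : F.IsSaturated 2) {Z : Subgroup Ω} (hZ : Z ≤ S)
    (h : ∀ P a, Mp F P a → ∀ x ∈ P, x ∈ Z → a x = x) : F.IsCentral Z := by
  have : Fact (Nat.Prime 2) := ⟨Nat.prime_two⟩
  refine (S5084.result 2 hS F hF Z).2 ⟨hZ, ?_⟩
  rintro x hx y ⟨φ, hφ, rfl⟩
  have h1 := h _ _ (mp_ex hφ) x (Subgroup.mem_zpowers x) hx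
  rwa [ex_apply _ (Subgroup.mem_zpowers x)] at h1

/-- an element of a normal subgroup `Y` fixed by all automorphisms of `Y` is trivial -/
theorem one_of_fix [Finite S] (hS : IsPGroup 2 S) (hF : F.IsSaturated 2) (hc : F.center = ⊥) {Y : Subgroup Ω}
    (hY : F.IsNormal Y) {z : Ω} (hz : z ∈ Y) (h : ∀ a, Mp F Y a → a z = z) : z = 1 := by
  let Z : Subgroup Ω :=
    { carrier := {y | y ∈ Y ∧ ∀ a, Mp F Y a → a y = y}
      one_mem' := ⟨Y.one_mem, fun a ha => ha.one⟩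
      mul_mem' := fun {x y} hx hy => ⟨Y.mul_mem hx.1 hy.1, fun a ha => by
        rw [ha.mul hx.1 hy.1, hx.2 a ha, hy.2 a ha]⟩
      inv_mem' := fun {x} hx => ⟨Y.inv_mem hx.1, fun a ha => by rw [ha.inv hx.1, hx.2 a ha]⟩ }
  have h1 : F.IsCentral Z := central_of_fix hS hF (fun x hx => hY.1 hx.1) fun P a ha x hx hZ => by
    obtain ⟨b, hb, h2⟩ := mp_normal hY ha
    rw [← h2 x hx]
    exact hZ.2 b (hb.res le_sup_right)
  have h2 := H757.IsCentral.le_center h1 (show z ∈ Z from ⟨hz, h⟩)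
  rwa [hc] at h2

end gen

section top

variable {A : Type} [Group A] [Finite A] {F : Sys A}

omit [Finite A] in
theorem normal_of_sc {X : Subgroup A} (h : F.StronglyClosed X) : X.Normal :=
  ⟨fun x hx s => D.nz_of_sc h s trivial x hx⟩

/-- a normal subgroup without odd automorphisms is trivial -/
theorem bot_of_odd (hA : IsPGroup 2 A) (hF : F.IsSaturated 2) (hc : F.center = ⊥) {Y : Subgroup A}
    (hY : F.IsNormal Y) (h : ∀ a, Od F Y a → ∀ y ∈ Y, a y = y) : Y = ⊥ := by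
  have : Fact (Nat.Prime 2) := ⟨Nat.prime_two⟩
  have hS : IsPGroup 2 (⊤ : Subgroup A) := hA.to_subgroup _
  have hn := normal_of_sc (H759.IsNormal.stronglyClosed hY)
  by_contra hne
  obtain ⟨z, hz, hzc, hz1⟩ := GTwoFour.Tools.exists_mem_center_of_normal hA Y hne
  refine hz1 (one_of_fix hS hF hc hY hz fun a ha => ?_)
  obtain ⟨α, hα, h1⟩ := ha.exists_aut fun x hx => mp_mem_of_stronglyClosed (H759.IsNormal.stronglyClosed hY) ha hx hx
  have h2 : F.autGroup Y ≤ MulAction.stabilizer (MulAut Y) (⟨z, hz⟩ : Y) :=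
    D.aut_le hS hF (isFullyNormalized_of_normal F le_top fun s _ x hx => hn.conj_mem x hx s)
      ((Subgroup.closure_le _).2 (by
        rintro β ⟨g, -, hg⟩
        refine Subtype.ext ((hg ⟨z, hz⟩).trans ?_)
        show g * z * g⁻¹ = z
        rw [Subgroup.mem_center_iff.1 hzc g, mul_inv_cancel_right]))
      fun β hβ ho => Subtype.ext (by
        have h3 := h _ (od_fn le_top hβ (Nat.coprime_two_right.2 ho)) z hz
        rwa [fn_apply β hz] at h3)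
  rw [h1 z hz]
  exact congrArg Subtype.val (h2 hα)

omit [Finite A] in
/-- a map acts trivially on a section of order at most two -/
theorem mod_of_index {P Y X : Subgroup A} {a : A → A} (hi : Y.relIndex X ∣ 2)
    (hX : ∀ x ∈ P, x ∈ X → a x ∈ X) (hY : ∀ x ∈ P, x ∈ Y ↔ a x ∈ Y) {x : A} (hx : x ∈ P) (hxX : x ∈ X) :
    x⁻¹ * a x ∈ Y := by
  rcases (Nat.dvd_prime Nat.prime_two).1 hi with h | h
  · exact Subgroup.relIndex_eq_one.1 h (X.mul_mem (X.inv_mem hxX) (hX x hx hxX))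
  · have h1 := (Subgroup.mul_mem_iff_of_index_two h (a := (⟨x, hxX⟩ : X)⁻¹) (b := ⟨a x, hX x hx hxX⟩)).2 (by
      rw [inv_mem_iff]
      exact hY x hx)
    exact h1

theorem bot_of_card (hA : IsPGroup 2 A) (hF : F.IsSaturated 2) (hc : F.center = ⊥) {Y : Subgroup A}
    (hY : F.IsNormal Y) (h : Nat.card Y ∣ 2) : Y = ⊥ :=
  bot_of_odd hA hF hc hY fun a ha y hy => by
    have h1 := mod_of_index (Y := ⊥) (a := a) (by rwa [Subgroup.relIndex_bot_left]) (fun x hx _ => ha.2.1 x hx)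
      (fun x hx => ⟨fun k => by rw [Subgroup.mem_bot.1 k, ha.1.one]; exact Subgroup.one_mem _,
        fun k => ha.1.inj hx Y.one_mem ((Subgroup.mem_bot.1 k).trans ha.1.one.symm)⟩) hy hy
    exact (inv_mul_eq_one.1 (Subgroup.mem_bot.1 h1)).symm

/-- the setting -/
structure Su (F : Sys A) (T R : Subgroup A) (E : FusionSystem T) : Prop where
  nor : E.IsNormalIn F 2
  min : ∀ D : FusionSystem T, D.IsNormalIn F 2 → E.IsSubsystemOf D
  perf : E.hyperfocalSubgroup 2 = T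
  nle : ¬ T ≤ F.core
  sc : F.StronglyClosed R
  le : F.core ≤ R
  comm : ∀ x ∈ T, ∀ y ∈ R, x * y = y * x
  cz : Cz F E R
  foc : ∀ P a, P ≤ centralizerIn ⊤ T → Mp F (P ⊔ T) a → (∀ t ∈ T, a t = t) → ∀ x ∈ P, x⁻¹ * a x ∈ R

theorem exists_su (hA : IsPGroup 2 A) (hF : F.IsSaturated 2) (hn : ¬ F.IsConstrained 2) :
    ∃ (T R : Subgroup A) (E : FusionSystem T), Su F T R E := by
  classical
  have : Fact (Nat.Prime 2) := ⟨Nat.prime_two⟩
  have hS : IsPGroup 2 (⊤ : Subgroup A) := hA.to_subgroup _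
  have hex : ∃ n, ∃ (T : Subgroup A) (E : FusionSystem T), Nat.card T = n ∧ E.IsNormalIn F 2 ∧
      (∀ P : Subgroup A, E.Hom P ⊆ F.centralizerHom F.core P) ∧ ¬ T ≤ F.core := by
    obtain ⟨T, E, hE⟩ := S5149.result 2 hS F hF
    have h1 := S5150.result 2 hS F hF E hE
    refine ⟨_, T, E, rfl, hE.1, h1, fun hle => ?_⟩
    obtain ⟨U, C, hC⟩ := not_not.1 (mt (S5146.result 2 hS F hF).2 hn)
    have hU : U ≤ T := (mp_mono (hE.2.1 U C hC) (mp_id C le_rfl)).le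
    have h2 := (h1 T (E.conj_mem le_rfl T.one_mem)).2.1
    refine S5148.result 2 (hA.to_subgroup U) C hC.2 ⟨⟨fun x y => Subtype.ext ?_⟩⟩
    exact (h2 (hU y.2)).2 x (hle (hU x.2))
  obtain ⟨T, E₀, hcard, hE₀, hc₀, hle⟩ := Nat.find_spec hex
  have hT : IsPGroup 2 T := hA.to_subgroup T
  obtain ⟨E, hE⟩ := S5140.result 2 hT E₀ hE₀.1.1
  have hEn := S5141.result 2 hS F hF E₀ hE₀.1 E hE
  have hc : ∀ P : Subgroup A, E.Hom P ⊆ F.centralizerHom F.core P := fun P => (hE.2.1.1 P).trans (hc₀ P)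
  have hperf : E.hyperfocalSubgroup 2 = T := by
    have hH : E.hyperfocalSubgroup 2 ≤ T := H747.hyperfocal_le_base E 2
    obtain ⟨E₁, hE₁, -⟩ := S5113.result 2 hT E hEn.1.1 _ hH le_rfl
    have hsub : E₁.IsSubsystemOf F := fun P => (hE₁.2.1 P).trans (hEn.1.2.2.1 P)
    have hw : E₁.IsWeaklyNormalIn F 2 := ⟨hE₁.1, hF, (isInvariantIn_iff_strongInvC hS hF hsub
      (H758.res_stronglyClosed hS hEn.1.2.2 hEn.1.1 hE₁)).2 (H758.res_strongInv hS hEn.1.2.2 hEn.1.1 hE₁)⟩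
    obtain ⟨E₂, hE₂⟩ := S5140.result 2 (hA.to_subgroup _) E₁ hE₁.1
    by_cases hq : E.hyperfocalSubgroup 2 ≤ F.core
    · exfalso
      have h1 : E.hyperfocalSubgroup 2 = ⊥ := le_bot_iff.1 (hyp_le_of_od fun P a ha x hx =>
        D.Od.two hT ha (fun y hy => hq (ha.mem_hyp hy)) (fun y hy hQ => by
          rw [(cz_of hc).fix ha.1 hy hQ, inv_mul_cancel]
          exact Subgroup.one_mem _) hx)
      have h2 := H759.isNormalIn_congr rfl (H747.hom_eq_inner_of_hyperfocal_eq_bot hT hEn.1.1 h1) hEn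
      exact hle (H759.IsNormal.le_core ((S5290.result 2 hS F hF T le_top).2 h2.1))
    · refine Subgroup.eq_of_le_of_card_ge hH ?_
      rw [hcard]
      exact Nat.find_min' hex ⟨_, E₂, rfl, S5141.result 2 hS F hF E₁ hw E₂ hE₂,
        fun P => ((hE₂.2.1.1 P).trans (hE₁.2.1 P)).trans (hc P), hq⟩
  obtain ⟨R, h1, h2, h3, h4⟩ := S5127.result 2 hS F hF E hEn
  obtain ⟨C, hC⟩ := H802.exists_centralizerSystem F (Q := T) le_top
  have h5 := S5293.result 2 hS F hF E hEn R (le_antisymm (le_sSup ⟨h1, h2⟩) (sSup_le fun X hX => h3 X hX.1 hX.2)) C hC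
  refine ⟨T, R, E, hEn, S5142.result 2 hS F hF E₀ hE₀ E hE, hperf, hle, h4, h3 _ (fun q hq => ⟨trivial, fun t ht => ?_⟩) hc,
    fun x hx y hy => (h1 hy).2 x hx, cz_of h2, fun P a hP ha ht x hx => h5 ?_⟩
  · exact (((hc T (E.conj_mem le_rfl T.one_mem)).2.1 ht).2 q hq).symm
  · obtain ⟨φ, hφ, h6⟩ := (H759.mp_centralizer_iff hC (P := P) (f := a)).2 ⟨hP, fun y hy => ⟨trivial, fun t ht' => by
      have h7 := congrArg a ((hP hy).2 t ht')
      rwa [ha.mul (le_sup_right (a := P) ht') (le_sup_left (b := T) hy),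
        ha.mul (le_sup_left (b := T) hy) (le_sup_right (a := P) ht'), ht t ht'] at h7⟩, a, ha, fun _ _ => rfl, ht⟩
    exact Subgroup.subset_closure ⟨P, φ, ⟨x, hx⟩, hφ, by rw [h6 x hx]⟩

end top

end Cfsg.Agent.FS.N.R
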