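import Cfsg.Agent.FS.N.R.Fac
import Cfsg.Agent.FS.Th.Viol

/-!
# Models modulo one factor (helper6, project FS, folder FS/N/R)

`Md F B U R f K`: `f` is multiplicative on `B` with kernel `R`; the odd automorphisms of `F` on the subgroups of `B`
correspond to the odd elements of the group.  `Two`: two commuting subgroups kept by the odd automorphisms, both split.
`Two.mp`: a map on a subgroup of `T R` which is induced by odd elements in both models is a map of `F`.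
-/

set_option autoImplicit false

namespace Cfsg.Agent.FS.N.R

open Cfsg Cfsg.FusionSystem Cfsg.Agent.H752 Cfsg.Agent.FS.Th Cfsg.Agent.FS.Real

variable {A : Type} [Group A] {G : Type*} [Group G]

theorem mem_sup_comm {T R : Subgroup A} (h : ∀ x ∈ T, ∀ y ∈ R, x * y = y * x) {x : A} :
    x ∈ T ⊔ R ↔ ∃ t ∈ T, ∃ r ∈ R, t * r = x :=
  H759.mem_sup_of_normalizes (by
    rw [Subgroup.le_normalizer_iff]
    intro t ht r hr
    rw [h t ht r hr, mul_inv_cancel_right]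
    exact hr)

theorem card_sup_comm {T R : Subgroup A} (h : ∀ x ∈ T, ∀ y ∈ R, x * y = y * x) (hi : T ⊓ R = ⊥) :
    Nat.card ↥(T ⊔ R) = Nat.card T * Nat.card R := by
  rw [← Nat.card_prod]
  refine (Nat.card_congr (Equiv.ofBijective (fun p : T × R => (⟨p.1 * p.2, Subgroup.mul_mem_sup p.1.2 p.2.2⟩ : ↥(T ⊔ R)))
    ⟨fun p q hpq => ?_, fun y => ?_⟩)).symm
  · have h1 : (p.1 : A) * p.2 = q.1 * q.2 := congrArg Subtype.val hpq
    have h2 : (q.1 : A)⁻¹ * p.1 = q.2 * (p.2 : A)⁻¹ := by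
      rw [inv_mul_eq_iff_eq_mul, ← mul_assoc, ← h1, mul_inv_cancel_right]
    have h3 : (q.1 : A)⁻¹ * p.1 ∈ T ⊓ R :=
      ⟨T.mul_mem (T.inv_mem q.1.2) p.1.2, by rw [h2]; exact R.mul_mem q.2.2 (R.inv_mem p.2.2)⟩
    rw [hi, Subgroup.mem_bot] at h3
    have h4 : (q.1 : A) = p.1 := inv_mul_eq_one.1 h3
    rw [h4] at h1
    exact Prod.ext (Subtype.ext h4.symm) (Subtype.ext (mul_left_cancel h1))
  · obtain ⟨t, ht, r, hr, h1⟩ := (mem_sup_comm h).1 y.2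
    exact ⟨(⟨t, ht⟩, ⟨r, hr⟩), Subtype.ext h1⟩

theorem Od.conj {F : Sys A} {P : Subgroup A} {a : A → A} (h : Od F P a) (t : A) :
    Od F (P.comap (MulAut.conj t).toMonoidHom) (fun y => t⁻¹ * a (t * y * t⁻¹) * t) := by
  obtain ⟨h1, h2, k, hk, h3⟩ := h
  refine ⟨?_, fun y hy => ?_, k, hk, fun y hy => ?_⟩
  · exact (((mp_conj F le_top (Subgroup.mem_top t)).comp h1 fun _ hy => hy).comp
      (mp_conj F le_rfl (Subgroup.mem_top t⁻¹)) fun _ _ => trivial).congr fun y _ => by rw [inv_inv]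
  · show t * (t⁻¹ * a (t * y * t⁻¹) * t) * t⁻¹ ∈ P
    have h4 : t * (t⁻¹ * a (t * y * t⁻¹) * t) * t⁻¹ = a (t * y * t⁻¹) := by group
    rw [h4]
    exact h2 _ hy
  · have h4 : ∀ n, (fun y => t⁻¹ * a (t * y * t⁻¹) * t)^[n] y = t⁻¹ * a^[n] (t * y * t⁻¹) * t := fun n => by
      induction n with
      | zero => show y = t⁻¹ * (t * y * t⁻¹) * t; group
      | succ n ih =>
        rw [Function.iterate_succ_apply', ih, Function.iterate_succ_apply']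
        congr 3
        group
    rw [h4, h3 (t * y * t⁻¹) hy]
    group

/-- a model of the odd part of `F` on the subgroups of `B`, modulo `R` -/
structure Md (F : Sys A) (B U R : Subgroup A) (f : A → G) (K : Subgroup G) : Prop where
  mul : MulOn B f
  ker : ∀ x ∈ B, f x = 1 ↔ x ∈ R
  mem : ∀ x ∈ B, f x ∈ K ↔ x ∈ U
  down : ∀ P a, P ≤ B → Od F P a → ∃ g ∈ K, ∀ x ∈ P, f (a x) = g * f x * g⁻¹
  up : ∀ P : Subgroup A, P ≤ B → R ≤ P → ∀ g : G, Odd (orderOf g) → (∀ x ∈ P, ∃ y ∈ P, f y = g * f x * g⁻¹) →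
    ∃ a, Od F P a ∧ ∀ x ∈ P, f (a x) = g * f x * g⁻¹

theorem Md.eq_iff {F : Sys A} {B U R : Subgroup A} {f : A → G} {K : Subgroup G} (h : Md F B U R f K) {x y : A}
    (hx : x ∈ B) (hy : y ∈ B) : f x = f y ↔ x⁻¹ * y ∈ R := by
  rw [← h.ker _ (B.mul_mem (B.inv_mem hx) hy), h.mul.inv_mul hx hy, inv_mul_eq_one]

theorem md_of_fac [Finite A] [Finite G] {F : Sys A} {B U R : Subgroup A} {E : FusionSystem B}
    (hi : E.HasPPowerIndexIn F 2) {f : A → G} (h : Fac E R f) {K : Subgroup G} (hK : Ker B U f K) :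
    Md F B U R f K where
  mul := h.mul
  ker := h.ker
  mem := hK.mem
  down P a hP ha := by
    obtain ⟨g, hg⟩ := h.down P a (ha.of_index hi hP).1
    obtain ⟨-, h2, k, hk, h3⟩ := ha
    obtain ⟨j, hj, h4⟩ := odd_inducer h2 hk h3 hg
    exact ⟨_, hK.odd _ hj, h4⟩
  up P hP hRP g hg h1 := by
    obtain ⟨a, ha, h2⟩ := h.lift hP hRP h1 hg fun x _ => by rw [pow_orderOf_eq_one]; group
    exact ⟨a, ha.mono hi.1, h2⟩

theorem Md.twist {F : Sys A} {B U R R' : Subgroup A} [hB : B.Normal] [hU : U.Normal] {f : A → G} {K : Subgroup G}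
    (h : Md F B U R f K) (t : A) (hR : ∀ x, x ∈ R' ↔ t⁻¹ * x * t ∈ R) :
    Md F B U R' (fun x => f (t⁻¹ * x * t)) K where
  mul x hx y hy := by
    show f _ = f _ * f _
    rw [← h.mul _ (hB.conj_mem' x hx t) _ (hB.conj_mem' y hy t)]
    congr 1
    group
  ker x hx := by rw [hR, h.ker _ (hB.conj_mem' x hx t)]
  mem x hx := by
    rw [h.mem _ (hB.conj_mem' x hx t)]
    refine ⟨fun h1 => ?_, fun h1 => hU.conj_mem' x h1 t⟩
    have h2 := hU.conj_mem _ h1 t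
    have h3 : t * (t⁻¹ * x * t) * t⁻¹ = x := by group
    rwa [h3] at h2
  down P a hP ha := by
    obtain ⟨g, hg, h1⟩ := h.down _ _ (fun y hy => by
      have h2 := hB.conj_mem' _ (hP hy) t
      have h3 : t⁻¹ * (MulAut.conj t).toMonoidHom y * t = y := by
        show t⁻¹ * (t * y * t⁻¹) * t = y
        group
      rwa [h3] at h2) (ha.conj t)
    refine ⟨g, hg, fun x hx => ?_⟩
    have h3 : t * (t⁻¹ * x * t) * t⁻¹ = x := by group
    have h2 := h1 (t⁻¹ * x * t) (by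
      show t * (t⁻¹ * x * t) * t⁻¹ ∈ P
      rwa [h3])
    rwa [h3] at h2
  up P hP hRP g hg h1 := by
    have h3 : ∀ x, t * (t⁻¹ * x * t) * t⁻¹ = x := fun x => by group
    have h4 : ∀ x, t⁻¹ * (t * x * t⁻¹) * t = x := fun x => by group
    obtain ⟨a, ha, h2⟩ := h.up (P.comap (MulAut.conj t).toMonoidHom) (fun y hy => by
      have h2 := hB.conj_mem' (t * y * t⁻¹) (hP hy) t
      rwa [h4] at h2) (fun y hy => hRP ((hR (t * y * t⁻¹)).2 (by rwa [h4]))) g hg (fun x hx => by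
        obtain ⟨y, hy, h5⟩ := h1 (t * x * t⁻¹) hx
        refine ⟨t⁻¹ * y * t, ?_, by rw [h5, h4]⟩
        show t * (t⁻¹ * y * t) * t⁻¹ ∈ P
        rwa [h3])
    have h5 : ∀ x ∈ P, t⁻¹ * x * t⁻¹⁻¹ ∈ P.comap (MulAut.conj t).toMonoidHom := fun x hx => by
      show t * (t⁻¹ * x * t⁻¹⁻¹) * t⁻¹ ∈ P
      rwa [inv_inv, h3]
    refine ⟨_, (ha.conj t⁻¹).res (fun x hx => h5 x hx) fun x hx => ?_, fun x hx => ?_⟩
    · have h6 := ha.2.1 _ (h5 x hx)
      rw [inv_inv t] at h6 ⊢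
      exact h6
    · have h6 := h2 _ (h5 x hx)
      rw [inv_inv t] at h6 ⊢
      rw [h4]
      exact h6

/-- two commuting subgroups kept by the odd automorphisms -/
structure Two (F : Sys A) (T R : Subgroup A) : Prop where
  inf : T ⊓ R = ⊥
  comm : ∀ x ∈ T, ∀ y ∈ R, x * y = y * x
  kT : ∀ P a, Od F P a → ∀ x ∈ P, x ∈ T → a x ∈ T
  kR : ∀ P a, Od F P a → ∀ x ∈ P, x ∈ R → a x ∈ R
  sT : Spl F T R
  sR : Spl F R T

theorem Two.symm {F : Sys A} {T R : Subgroup A} (h : Two F T R) : Two F R T :=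
  ⟨by rw [inf_comm, h.inf], fun x hx y hy => (h.comm y hy x hx).symm, h.kR, h.kT, h.sR, h.sT⟩

/-- an automorphism of `T R` which fixes `T` and keeps `R` has an inverse of the same kind -/
theorem exists_inv_split [Finite A] {F : Sys A} {T R : Subgroup A} {g : A → A} (hg : Mp F (R ⊔ T) g)
    (h1 : ∀ x ∈ R, g x ∈ R) (h2 : ∀ x ∈ T, g x = x) :
    ∃ k, Mp F (T ⊔ R) k ∧ (∀ x ∈ T ⊔ R, k (g x) = x) ∧ ∀ y ∈ T ⊔ R, ∃ x ∈ T ⊔ R, g x = y := by
  rw [sup_comm] at hg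
  have hm : ∀ x ∈ T ⊔ R, g x ∈ T ⊔ R := hg.mem_sup
    (fun x hx => by rw [h2 x hx]; exact (le_sup_left : T ≤ _) hx) fun x hx => (le_sup_right : R ≤ _) (h1 x hx)
  obtain ⟨k, hk, h3, -⟩ := hg.exists_symm le_rfl (T := T ⊔ R) fun y =>
    ⟨fun hy => hg.surj hm hy, fun ⟨x, hx, h⟩ => h ▸ hm x hx⟩
  exact ⟨k, hk, h3, fun y hy => hg.surj hm hy⟩

theorem Two.half [Finite A] {F : Sys A} {T R B : Subgroup A} (h : Two F T R) (hB : T ⊔ R ≤ B) {f : A → G}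
    {K : Subgroup G} (hf : Md F B (T ⊔ R) R f K) {P : Subgroup A} (hP : P ≤ T ⊔ R) {g : G} (hg : Odd (orderOf g))
    (hn : ∀ x ∈ P, ∃ y ∈ P, f y = g * f x * g⁻¹) :
    ∃ φ, Mp F (P ⊔ R) φ ∧ ∀ x ∈ P ⊔ R, f (φ x) = g * f x * g⁻¹ ∧ x⁻¹ * φ x ∈ T := by
  have hRU : R ≤ T ⊔ R := le_sup_right
  have hTU : T ≤ T ⊔ R := le_sup_left
  have hPU : P ⊔ R ≤ T ⊔ R := sup_le hP hRU
  have hRn : P ≤ Subgroup.normalizer (R : Set A) := by
    rw [Subgroup.le_normalizer_iff]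
    intro x hx r hr
    obtain ⟨t, ht, r', hr', rfl⟩ := (mem_sup_comm h.comm).1 (hP hx)
    have h1 : t * r' * r * (t * r')⁻¹ = t * (r' * r * r'⁻¹) * t⁻¹ := by group
    have h2 := R.mul_mem (R.mul_mem hr' hr) (R.inv_mem hr')
    rw [h1, h.comm t ht _ h2, mul_inv_cancel_right]
    exact h2
  obtain ⟨a, ha, h1⟩ := hf.up (P ⊔ R) (hPU.trans hB) le_sup_right g hg fun x hx => by
    obtain ⟨p, hp, r, hr, rfl⟩ := (H759.mem_sup_of_normalizes hRn).1 hx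
    obtain ⟨y, hy, h2⟩ := hn p hp
    refine ⟨y, (le_sup_left : P ≤ _) hy, ?_⟩
    rw [h2, hf.mul p (hB (hP hp)) r (hB (hRU hr)), (hf.ker r (hB (hRU hr))).2 hr, mul_one]
  have haR : ∀ x ∈ R, a x ∈ R := fun x hx => h.kR _ a ha x ((le_sup_right : R ≤ _) hx) hx
  obtain ⟨ψ, hψ, h2, h3⟩ := h.sR a (ha.res le_sup_right haR)
  obtain ⟨k, hk, h4, h5⟩ := exists_inv_split hψ (fun x hx => by rw [h2 x hx]; exact haR x hx) h3
  have hψ' : Mp F (T ⊔ R) ψ := by rwa [sup_comm]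
  refine ⟨_, ha.1.comp hk fun x hx => hPU (ha.2.1 x hx), fun x hx => ⟨?_, ?_⟩⟩
  · obtain ⟨z, hz, h6⟩ := h5 _ (hPU (ha.2.1 x hx))
    rw [← h1 x hx, ← h6, h4 z hz]
    obtain ⟨t, ht, r, hr, rfl⟩ := (mem_sup_comm h.comm).1 hz
    rw [hψ'.mul (hTU ht) (hRU hr), h3 t ht, h2 r hr, hf.mul t (hB (hTU ht)) r (hB (hRU hr)),
      hf.mul t (hB (hTU ht)) _ (hB (hRU (haR r hr))), (hf.ker r (hB (hRU hr))).2 hr,
      (hf.ker _ (hB (hRU (haR r hr)))).2 (haR r hr)]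
  · obtain ⟨t, ht, r, hr, rfl⟩ := (mem_sup_comm h.comm).1 (hPU hx)
    have hr' : r ∈ P ⊔ R := (le_sup_right : R ≤ _) hr
    have ht' : t ∈ P ⊔ R := ((P ⊔ R).mul_mem_cancel_right hr').1 hx
    have h6 := h.kT _ a ha t ht' ht
    have h7 : k (a t) = a t := by
      have h8 := h4 _ (hTU h6)
      rwa [h3 _ h6] at h8
    have h8 : k (a r) = r := by
      have h9 := h4 _ (hRU hr)
      rwa [h2 r hr] at h9
    show (t * r)⁻¹ * k (a (t * r)) ∈ T
    rw [ha.1.mul ht' hr', hk.mul (hTU h6) (hRU (haR r hr)), h7, h8]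
    have h9 := T.mul_mem (T.inv_mem ht) h6
    have h10 : (t * r)⁻¹ * (a t * r) = r⁻¹ * (t⁻¹ * a t * r) := by group
    rw [h10, h.comm _ h9 r hr, inv_mul_cancel_left]
    exact h9

theorem Two.mp [Finite A] {F : Sys A} {T R B : Subgroup A} (h : Two F T R) (hB : T ⊔ R ≤ B) {f : A → G}
    {K : Subgroup G} (hf : Md F B (T ⊔ R) R f K) {G' : Type*} [Group G'] {f' : A → G'} {K' : Subgroup G'}
    (hf' : Md F B (T ⊔ R) T f' K') {P : Subgroup A} (hP : P ≤ T ⊔ R) {a : A → A} (ha : ∀ x ∈ P, a x ∈ P)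
    {g : G} (hg : Odd (orderOf g)) (h1 : ∀ x ∈ P, f (a x) = g * f x * g⁻¹)
    {g' : G'} (hg' : Odd (orderOf g')) (h1' : ∀ x ∈ P, f' (a x) = g' * f' x * g'⁻¹) : Mp F P a := by
  obtain ⟨φ, hφ, h2⟩ := h.half hB hf hP hg fun x hx => ⟨_, ha x hx, h1 x hx⟩
  obtain ⟨φ', hφ', h2'⟩ := h.symm.half (B := B) (by rwa [sup_comm]) (f := f') (K := K') (by rwa [sup_comm])
    (P := P) (by rwa [sup_comm]) hg' fun x hx => ⟨_, ha x hx, h1' x hx⟩
  have hTB : T ≤ B := le_sup_left.trans hB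
  have hRB : R ≤ B := le_sup_right.trans hB
  have h3 : ∀ x ∈ P, φ x ∈ P ⊔ T := fun x hx => by
    have h4 := Subgroup.mul_mem_sup hx (h2 x ((le_sup_left : P ≤ _) hx)).2
    rwa [mul_inv_cancel_left] at h4
  refine ((hφ.res le_sup_left).comp hφ' h3).congr fun x hx => ?_
  have hxB := hB (hP hx)
  have haB := hB (hP (ha x hx))
  obtain ⟨h4, h5⟩ := h2 x ((le_sup_left : P ≤ _) hx)
  obtain ⟨h6, h7⟩ := h2' _ (h3 x hx)
  have h8 : φ x ∈ B := (B.mul_mem_cancel_left (B.inv_mem hxB)).1 (hTB h5)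
  have h9 : φ' (φ x) ∈ B := (B.mul_mem_cancel_left (B.inv_mem h8)).1 (hRB h7)
  have h10 : (a x)⁻¹ * φ' (φ x) ∈ T ⊓ R := by
    constructor
    · refine (hf'.eq_iff haB h9).1 ?_
      rw [h6, h1' x hx, (hf'.eq_iff hxB h8).2 h5]
    · refine (hf.eq_iff haB h9).1 ?_
      rw [h1 x hx, ← h4, (hf.eq_iff h8 h9).2 h7]
  rw [h.inf, Subgroup.mem_bot] at h10
  exact inv_mul_eq_one.1 h10

end Cfsg.Agent.FS.N.R
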