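import Cfsg.Agent.FS.N.R.Lay
import Cfsg.Agent.H753.NormModel
import Cfsg.Agent.S5090
import Cfsg.Agent.S5095
import Cfsg.Agent.S5098

/-!
# The model of the normalizer of a strongly closed centric subgroup (helper6, project FS, folder FS/N/R)
-/

set_option autoImplicit false

namespace Cfsg.Agent.FS.N.R

open Cfsg Cfsg.FusionSystem Cfsg.Agent.H752 Cfsg.Agent.FS.Th Cfsg.Agent.FS.Real

variable {A : Type} [Group A] [Finite A] {F : Sys A}

omit [Finite A] in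
theorem ind_of_realizedBy {G : Type*} [Group G] {ι : (⊤ : Subgroup A) →* G} (h : F.IsRealizedBy ι) :
    Ind F (ι.comp (Subgroup.topEquiv (G := A)).symm.toMonoidHom) := fun P a => by
  constructor
  · intro ha
    obtain ⟨g, hg⟩ := H753.exists_conj_of_mp h ha
    exact ⟨g, fun x hx => (hg x hx trivial).2⟩
  · rintro ⟨g, hg⟩
    obtain ⟨b, hb, h1⟩ := H753.exists_mp_of_conj h (P := P) le_top g fun x => ⟨⟨a x, trivial⟩, hg x x.2⟩
    exact hb.congr fun x hx => congrArg Subtype.val (h.1 ((hg x hx).trans (h1 x hx).2.symm))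

omit [Finite A] in
theorem exists_mp_of_ind {G : Type*} [Group G] {ι : A →* G} (h : Ind F ι) {P : Subgroup A} {g : G}
    (hg : ∀ x ∈ P, ∃ y, ι y = g * ι x * g⁻¹) : ∃ a, Mp F P a ∧ ∀ x ∈ P, ι (a x) = g * ι x * g⁻¹ := by
  choose! a ha using hg
  exact ⟨a, (h P a).2 ⟨g, ha⟩, ha⟩

/-- the model of a constrained system -/
theorem exists_model_of (hA : IsPGroup 2 A) (hF : F.IsSaturated 2) {U : Subgroup A} (hU : F.IsNormal U)
    (hC : F.IsCentric U) : ∃ (M : Type) (_ : Group M) (_ : Finite M) (ι : A →* M), Function.Injective ι ∧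
      (∃ S : Sylow 2 M, (S : Subgroup M) = ι.range) ∧ Ind F ι ∧
      (∀ m : M, ∃ a, Mp F U a ∧ ∀ x ∈ U, ι (a x) = m * ι x * m⁻¹) ∧
      ∀ m : M, (∀ u ∈ U, m * ι u = ι u * m) → m ∈ U.map ι := by
  have : Fact (Nat.Prime 2) := ⟨Nat.prime_two⟩
  have hS : IsPGroup 2 (⊤ : Subgroup A) := hA.to_subgroup _
  obtain ⟨M, _, ι₀, _, hr, ⟨S, hS₀⟩, hcen⟩ := S5090.result 2 hS F ⟨hF, U, hU, hC⟩
  have hI := ind_of_realizedBy hr
  have hinj : Function.Injective (ι₀.comp (Subgroup.topEquiv (G := A)).symm.toMonoidHom) :=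
    hr.1.comp (Subgroup.topEquiv (G := A)).symm.injective
  have hSr : (S : Subgroup M) = (ι₀.comp (Subgroup.topEquiv (G := A)).symm.toMonoidHom).range := by
    rw [hS₀]
    ext y
    exact ⟨fun ⟨x, hx⟩ => ⟨x, hx⟩, fun ⟨x, hx⟩ => ⟨_, hx⟩⟩
  generalize ι₀.comp (Subgroup.topEquiv (G := A)).symm.toMonoidHom = ι at hI hinj hSr
  have sU := H759.IsNormal.stronglyClosed hU
  have nU := normal_of_sc sU
  have hO : ∀ y ∈ pCore 2 M, ∃ x, ι x = y := fun y hy => by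
    have h1 := Lib.Cores.pCore_le_sylow S hy
    rwa [hSr] at h1
  have nO := Lib.Cores.pCore_normal (G := M) 2
  have key : ∀ m : M, ∃ a, Mp F ((pCore 2 M).comap ι) a ∧ ∀ x ∈ (pCore 2 M).comap ι, ι (a x) = m * ι x * m⁻¹ :=
    fun m => exists_mp_of_ind hI fun x hx => hO _ (nO.conj_mem _ hx m)
  have key2 : ∀ g m : M, (∀ x ∈ (pCore 2 M).comap ι, g * ι x * g⁻¹ = m * ι x * m⁻¹) → ∃ x, ι x = g⁻¹ * m :=
    fun g m h => hO _ (hcen fun y hy => by
      obtain ⟨x, rfl⟩ := hO y hy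
      calc ι x * (g⁻¹ * m) = g⁻¹ * (g * ι x * g⁻¹) * m := by group
        _ = g⁻¹ * (m * ι x * m⁻¹) * m := by rw [h x hy]
        _ = g⁻¹ * m * ι x := by group)
  have hb : ∀ m : M, ∃ a, Mp F U a ∧ ∀ x ∈ U, ι (a x) = m * ι x * m⁻¹ := fun m => by
    obtain ⟨a, ha, h1⟩ := key m
    obtain ⟨b, hb, h2⟩ := mp_normal hU ha
    obtain ⟨g, hg⟩ := (hI _ _).1 hb
    obtain ⟨n, hn⟩ := key2 g m fun x hx => by rw [← hg x (le_sup_left (b := U) hx), h2 x hx, h1 x hx]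
    refine ⟨_, (mp_conj F le_top (s := n) trivial).comp (hb.res le_sup_right) fun x hx => nU.conj_mem x hx n,
      fun x hx => ?_⟩
    rw [hg _ (le_sup_right (b := U) (nU.conj_mem x hx n)), map_mul, map_mul, map_inv, hn]
    group
  refine ⟨M, inferInstance, inferInstance, ι, hinj, ⟨S, hSr⟩, hI, hb, fun m hm => ?_⟩
  have hUO : U ≤ (pCore 2 M).comap ι := Subgroup.map_le_iff_le_comap.1 (Lib.Cores.le_pCore ⟨by
    rintro _ ⟨x, hx, rfl⟩ g
    obtain ⟨a, ha, h1⟩ := hb g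
    exact ⟨_, mp_mem_of_stronglyClosed sU ha hx hx, h1 x hx⟩⟩ ((hA.to_subgroup U).map ι))
  obtain ⟨a, ⟨φ, hφ, h1⟩, h2⟩ := key m
  obtain ⟨z, -, -, hz⟩ := S5095.result 2 hS F hF _ U hUO hC _ φ (F.conj_mem le_top (Subgroup.one_mem _)) hφ fun x hx => by
    refine hinj ?_
    rw [h1 x x.2, h2 x x.2, hm x hx, mul_inv_cancel_right]
    exact congrArg ι (show 1 * (x : A) * 1⁻¹ = x by group)
  obtain ⟨n, hn⟩ := key2 (ι z) m fun x hx => by
    rw [← h2 x hx, ← h1 x hx, hz ⟨x, hx⟩, ← map_inv, ← map_mul, ← map_mul]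
    exact congrArg ι (show (z : A) * x * (z : A)⁻¹ = 1 * (z * x * (z : A)⁻¹) * 1⁻¹ by group)
  have h3 : ι (z * n) = m := by rw [map_mul, hn, mul_inv_cancel_left]
  refine ⟨z * n, hC.2 U (H802.isConj_refl F le_top) ⟨trivial, fun u hu => hinj ?_⟩, h3⟩
  rw [map_mul ι u, map_mul ι _ u, h3, hm u hu]

/-- the model of `N_F(U)` -/
theorem exists_model (hA : IsPGroup 2 A) (hF : F.IsSaturated 2) {U : Subgroup A} (hU : F.StronglyClosed U)
    (hC : centralizerIn ⊤ U ≤ U) : ∃ (M : Type) (_ : Group M) (_ : Finite M) (ι : A →* M), Function.Injective ι ∧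
      (∃ S : Sylow 2 M, (S : Subgroup M) = ι.range) ∧
      (∀ P a, U ≤ P → Mp F P a → ∃ m : M, ∀ x ∈ P, ι (a x) = m * ι x * m⁻¹) ∧
      (∀ m : M, ∃ a, Mp F U a ∧ ∀ x ∈ U, ι (a x) = m * ι x * m⁻¹) ∧
      ∀ m : M, (∀ u ∈ U, m * ι u = ι u * m) → m ∈ U.map ι := by
  have : Fact (Nat.Prime 2) := ⟨Nat.prime_two⟩
  have hS : IsPGroup 2 (⊤ : Subgroup A) := hA.to_subgroup _
  have nU := normal_of_sc hU
  have hc : F.IsCentric U := ⟨le_top, by
    rintro _ ⟨φ, hφ, rfl⟩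
    rwa [H802.range_eq_of_mapsTo hφ fun x => hU.2 U le_rfl φ hφ x]⟩
  have hN : normalizerIn ⊤ U = ⊤ := by
    rw [eq_top_iff]
    exact fun x _ => ⟨trivial, Subgroup.normalizer_eq_top U ▸ Subgroup.mem_top x⟩
  obtain ⟨E, hE⟩ := H802.exists_normalizerSystem F (Q := U) le_top
  have h1 := S5098.result 2 hS F hF U (isFullyNormalized_of_normal F le_top fun s _ x hx => nU.conj_mem x hx s) E hE
  have h2 := H753.isNormal_normalizerSystem le_top hE
  have h3 := H753.isCentric_normalizerSystem hE hc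
  have h4 : ∀ P a, Mp E P a → Mp F P a := fun P a ha => ((H753.mp_normalizerSystem_iff hE).1 ha).1
  have h5 : ∀ P a, U ≤ P → Mp F P a → Mp E P a := fun P a hP ha => by
    have h6 : ∀ x ∈ U, a x ∈ U := fun x hx => mp_mem_of_stronglyClosed hU ha (hP hx) hx
    exact (H753.mp_normalizerSystem_iff hE).2 ⟨ha, le_top.trans hN.ge, fun _ _ => hN.ge (Subgroup.mem_top _), a,
      by rwa [sup_eq_left.2 hP], fun _ _ => rfl, h6, fun y hy => (ha.res hP).surj h6 hy⟩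
  clear hE
  generalize normalizerIn ⊤ U = W at hN E h1 h2 h3 h4 h5
  subst hN
  obtain ⟨M, _, _, ι, k1, k2, k3, k4, k5⟩ := exists_model_of hA h1 h2 h3
  exact ⟨M, inferInstance, inferInstance, ι, k1, k2, fun P a hP ha => (k3 P a).1 (h5 P a hP ha), fun m => by
    obtain ⟨a, ha, h6⟩ := k4 m
    exact ⟨a, h4 _ _ ha, h6⟩, k5⟩

end Cfsg.Agent.FS.N.R
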