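import Cfsg.Agent.FS.N.R.Bad
import Cfsg.Agent.FS.N.R.Good
import Cfsg.Agent.H757.LiftFin
import Cfsg.Agent.H760.Layer
import Cfsg.Agent.S5118

/-!
# The subsystem `E / V` is the system of `N` (helper6, project FS, folder FS/N/R)
-/

set_option autoImplicit false

namespace Cfsg.Agent.FS.N.R

open Cfsg Cfsg.FusionSystem Cfsg.Agent.H752 Cfsg.Agent.FS.Th Cfsg.Agent.FS.Real

theorem mp_sub_iff {G : Type*} [Group G] {H T P : Subgroup G} {h : T ≤ H} {a : G → G} :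
    Mp (fusionSystemOfSubgroup H T h) P a ↔ P ≤ T ∧ (∀ x ∈ P, a x ∈ T) ∧ ∃ g ∈ H, ∀ x ∈ P, a x = g * x * g⁻¹ := by
  constructor
  · rintro ⟨φ, ⟨h1, h2, g, hg, h3⟩, h4⟩
    exact ⟨h1, fun x hx => h4 x hx ▸ h2 ⟨x, hx⟩, g, hg, fun x hx => (h4 x hx).symm.trans (h3 ⟨x, hx⟩)⟩
  · rintro ⟨h1, h2, g, hg, h3⟩
    exact ⟨conjHom P g, ⟨h1, fun x => (show g * x * g⁻¹ ∈ T from h3 x x.2 ▸ h2 x x.2), g, hg, fun _ => rfl⟩,
      fun x hx => (h3 x hx).symm⟩

theorem mp_grp_iff {G : Type*} [Group G] {T P : Subgroup G} {a : G → G} :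
    Mp (groupFusionSystem T) P a ↔ P ≤ T ∧ (∀ x ∈ P, a x ∈ T) ∧ ∃ g, ∀ x ∈ P, a x = g * x * g⁻¹ := by
  constructor
  · rintro ⟨φ, ⟨h1, h2, g, h3⟩, h4⟩
    exact ⟨h1, fun x hx => h4 x hx ▸ h2 ⟨x, hx⟩, g, fun x hx => (h4 x hx).symm.trans (h3 ⟨x, hx⟩)⟩
  · rintro ⟨h1, h2, g, h3⟩
    exact ⟨conjHom P g, ⟨h1, fun x => (show g * x * g⁻¹ ∈ T from h3 x x.2 ▸ h2 x x.2), g, fun _ => rfl⟩,
      fun x hx => (h3 x hx).symm⟩

/-- the normal subsystem induced by a normal subgroup -/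
theorem exists_nsys {B G : Type} [Group B] [Finite B] [Group G] [Finite G] {F : Sys B} {f : B →* G} (hI : Ind F f)
    (hf : Function.Injective f) (S : Sylow 2 G) (hS : (S : Subgroup G) = f.range) (N : Subgroup G) [N.Normal]
    {U : Subgroup B} (hU : (S : Subgroup G) ⊓ N = U.map f) :
    ∃ D : FusionSystem U, D.IsNormalIn F 2 ∧
      ∀ P a, Mp D P a ↔ P ≤ U ∧ (∀ x ∈ P, a x ∈ U) ∧ ∃ n ∈ N, ∀ x ∈ P, f (a x) = n * f x * n⁻¹ := by
  have : Fact (Nat.Prime 2) := ⟨Nat.prime_two⟩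
  obtain ⟨D, hD⟩ := H759.exists_pull' (hf := hf) hU (fusionSystemOfSubgroup N ((S : Subgroup G) ⊓ N) inf_le_right)
  obtain ⟨M, hM⟩ := H759.exists_pull' (hf := hf) (T₁ := ⊤) (hS.trans (MonoidHom.range_eq_map f))
    (groupFusionSystem (S : Subgroup G))
  have hb : ∀ (P : Subgroup B) (a : B → B), ∀ x ∈ P, (fun t => f (a (Function.invFun f t))) (f x) = f (a x) :=
    fun P a x _ => congrArg (fun y => f (a y)) (Function.leftInverse_invFun hf x)
  have h1 : M = F := H758.ext_of_mp fun P a => by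
    rw [← mp_push_iff hM (b := fun t => f (a (Function.invFun f t))) (hb P a), mp_grp_iff, hI, hS]
    constructor
    · rintro ⟨-, -, g, hg⟩
      exact ⟨g, fun x hx => (hb P a x hx).symm.trans (hg _ ⟨x, hx, rfl⟩)⟩
    · rintro ⟨g, hg⟩
      refine ⟨Subgroup.map_le_range f P, fun _ _ => ⟨_, rfl⟩, g, ?_⟩
      rintro _ ⟨x, hx, rfl⟩
      exact (hb P a x hx).trans (hg x hx)
  refine ⟨D, h1 ▸ (hD.isNormalIn_iff hM).1 (S5118.result 2 S N), fun P a => ?_⟩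
  rw [← mp_push_iff hD (b := fun t => f (a (Function.invFun f t))) (hb P a), mp_sub_iff, hU,
    Subgroup.map_le_map_iff_of_injective hf]
  refine and_congr_right fun _ => and_congr ⟨fun h x hx => ?_, ?_⟩ (exists_congr fun n => and_congr_right fun _ => ⟨?_, ?_⟩)
  · exact (Subgroup.mem_map_iff_mem hf).1 (hb P a x hx ▸ h _ ⟨x, hx, rfl⟩)
  · rintro h _ ⟨x, hx, rfl⟩
    exact ⟨_, h x hx, (hb P a x hx).symm⟩
  · exact fun h x hx => (hb P a x hx).symm.trans (h _ ⟨x, hx, rfl⟩)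
  · rintro h _ ⟨x, hx, rfl⟩
    exact (hb P a x hx).trans (h x hx)

/-- two normal subsystems over the same subgroup are compared on the top level -/
theorem le_of_aut {B : Type} [Group B] [Finite B] (hB : IsPGroup 2 B) {F : Sys B} {U : Subgroup B}
    {D E : FusionSystem U} (hD : D.IsNormalIn F 2) (hE : E.IsNormalIn F 2) (h : ∀ a, Mp D U a → Mp E U a) :
    ∀ P a, Mp D P a → Mp E P a := by
  have : Fact (Nat.Prime 2) := ⟨Nat.prime_two⟩
  have hU : IsPGroup 2 U := hB.to_subgroup U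
  obtain ⟨O, hO⟩ := S5140.result 2 hU D hD.1.1
  have h1 := S5141.result 2 hU D hD.1.1 D (H760.isNormalIn_self hD.1.1).1 O hO
  have h2 := S5142.result 2 (hB.to_subgroup ⊤) F hD.1.2.1 D hD O hO E hE
  intro P a ha
  obtain ⟨b, hb, c, hc, h3⟩ := (isInvariantIn_iff.1 h1.1.2.2).2.2.2 P a ha.le ha
  exact ((mp_mono h2 hc).comp (h b hb) fun x hx => hc.mem hx).congr h3

/-- the image of the minimal system is minimal -/
theorem Su.le_of_nor {A B : Type} [Group A] [Finite A] [Group B] [Finite B] {F : Sys A} {T R : Subgroup A}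
    {E : FusionSystem T} (h : Su F T R E) (hA : IsPGroup 2 A) (hB : IsPGroup 2 B) {π : A →* B} {F' : Sys B}
    (hF' : Fq F R π F') {E' : FusionSystem (T.map π)} (hE' : Fq E (T ⊓ R) π E') {D : FusionSystem (T.map π)}
    (hD : D.IsNormalIn F' 2) {P : Subgroup A} {a : A → A} (ha : Mp E P a) :
    ∃ b, Mp D (P.map π) b ∧ ∀ x ∈ P, b (π x) = π (a x) := by
  have : Fact (Nat.Prime 2) := ⟨Nat.prime_two⟩
  have hT : IsPGroup 2 T := hA.to_subgroup T
  obtain ⟨O, hO⟩ := S5140.result 2 (hB.to_subgroup _) E' hE'.sat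
  have h1 := S5141.result 2 (hB.to_subgroup _) E' hE'.sat E' (H760.isNormalIn_self hE'.sat).1 O hO
  have h2 := S5142.result 2 (hB.to_subgroup ⊤) F' hF'.sat E' (h.nor_fq hA hF' hE') O hO D hD
  have h3 := H757.CF.exists_lift (⟨hT, h.satE, h.central hA, hE'.fac⟩ : H757.CF E (T ⊓ R) (rs π T) E' 2) h1
  have h4 : preimageAlong (rs π T) (T.map π) = T := by
    rw [pre_rs]
    exact inf_eq_left.2 (Subgroup.le_comap_map π T)
  generalize preimageAlong (rs π T) (T.map π) = W at h3 h4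
  subst h4
  obtain ⟨L, hL, h5⟩ := h3
  obtain ⟨O₀, hO₀⟩ := S5140.result 2 hT E h.satE
  have h6 := S5142.result 2 hT E h.satE E (H760.isNormalIn_self h.satE) O₀ hO₀ L hL
  have h7 := h.min O₀ (S5141.result 2 (hA.to_subgroup ⊤) F h.sat E h.nor.1 O₀ hO₀)
  obtain ⟨-, -, b, hb, h8⟩ := h5 P a (mp_mono h6 (mp_mono h7 ha))
  rw [image_rs ha.le] at hb
  exact ⟨b, mp_mono h2 hb, fun x hx => by rw [← tx_rs (ha.le hx), h8 x hx, tx_rs (ha.mem hx)]⟩

/-- the normalizer of `H` in `N` is generated by `H` and `τ` -/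
theorem bor_of {G : Type*} [Group G] [Finite G] {H N : Subgroup G} {τ : G} (hH : Nat.card H = 64) (hle : H ≤ N)
    (hc : Nat.card ↥(N ⊓ Subgroup.normalizer (H : Set G)) = 192) (tN : τ ∈ N) (tn : τ ∈ Subgroup.normalizer (H : Set G))
    (fpf : ∀ y ∈ H, τ * y = y * τ → y = 1) :
    ∀ g ∈ N, g ∈ Subgroup.normalizer (H : Set G) → ∃ x ∈ H, ∃ e : ℕ, g = x * τ ^ e := by
  intro g hg hn
  have : Fact (Nat.Prime 3) := ⟨Nat.prime_three⟩
  set K := N ⊓ Subgroup.normalizer (H : Set G) with hK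
  have hHK : H ≤ K := le_inf hle Subgroup.le_normalizer
  have nH : (H.subgroupOf K).Normal := (Subgroup.normal_subgroupOf_iff hHK).2 fun x k hx hk =>
    (Subgroup.mem_normalizer_iff.1 hk.2 x).1 hx
  have h1 := card_inf_mul_relIndex H K
  rw [inf_eq_left.2 hHK, hH, hc] at h1
  have h2 : Nat.card (K ⧸ H.subgroupOf K) = 3 := show H.relIndex K = 3 by omega
  have h3 : (QuotientGroup.mk' (H.subgroupOf K) ⟨τ, tN, tn⟩) ≠ 1 := fun e => by
    have h4 : τ = 1 := fpf τ ((QuotientGroup.eq_one_iff (N := H.subgroupOf K) _).1 e) rfl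
    have h5 : H = ⊥ := le_bot_iff.1 fun y hy => fpf y hy (by rw [h4, one_mul, mul_one])
    rw [h5, Subgroup.card_bot] at hH
    omega
  obtain ⟨e, he⟩ := mem_powers_of_prime_card h2 h3 (g' := QuotientGroup.mk' (H.subgroupOf K) ⟨g, hg, hn⟩)
  have h4 : (⟨g, hg, hn⟩ : K) / ⟨τ, tN, tn⟩ ^ e ∈ H.subgroupOf K :=
    QuotientGroup.eq_iff_div_mem.1 (he.symm.trans (map_pow (QuotientGroup.mk' (H.subgroupOf K)) _ e).symm)
  exact ⟨g / τ ^ e, h4, e, (div_mul_cancel _ _).symm⟩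

end Cfsg.Agent.FS.N.R
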