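import Cfsg.Agent.FS.N.Defs
import Cfsg.Agent.H752.Gen
import Cfsg.Agent.H752.Ext
import Cfsg.Agent.H770.PPow
import Cfsg.Agent.H760.Layer
import Cfsg.Agent.S5113
import Cfsg.Agent.S5143

/-!
# Odd automorphisms (helper6, project FS, folder FS/N/R)

* `Od F P f`: `f` is an automorphism of odd order of `P` in `F`.
* `gen_odd`: a closed property that holds for the odd automorphisms holds for all maps.
* `eq_of_odd`: `F ≤ F'` saturated over the same group, all odd automorphisms in `F'` of the subgroups of a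
  subgroup `U ≥ hyp F'` lie in `F`; then `F = F'`.
-/

set_option autoImplicit false

namespace Cfsg.Agent.FS.N.R

open Cfsg Cfsg.FusionSystem Cfsg.Agent.H752 Cfsg.Agent.FS.Th

universe u

variable {Ω : Type u} [Group Ω] {S : Subgroup Ω}

/-- `f` is an automorphism of odd order of `P` in `F` -/
def Od (F : FusionSystem S) (P : Subgroup Ω) (f : Ω → Ω) : Prop :=
  Mp F P f ∧ (∀ x ∈ P, f x ∈ P) ∧ ∃ k, Odd k ∧ ∀ x ∈ P, f^[k] x = x

theorem iter_mem {P : Subgroup Ω} {f : Ω → Ω} (h : ∀ x ∈ P, f x ∈ P) (n : ℕ) : ∀ x ∈ P, f^[n] x ∈ P := by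
  induction n with
  | zero => exact fun x hx => hx
  | succ n ih => exact fun x hx => by rw [Function.iterate_succ_apply']; exact h _ (ih x hx)

theorem mp_iter {F : FusionSystem S} {P : Subgroup Ω} {f : Ω → Ω} (hf : Mp F P f) (h : ∀ x ∈ P, f x ∈ P) (n : ℕ) :
    Mp F P f^[n] := by
  induction n with
  | zero => exact mp_id F hf.le
  | succ n ih =>
    exact (ih.comp hf (iter_mem h n)).congr fun x _ => Function.iterate_succ_apply' f n x

theorem iter_congr {P : Subgroup Ω} {f g : Ω → Ω} (h : ∀ x ∈ P, f x ∈ P) (he : ∀ x ∈ P, g x = f x) (n : ℕ) :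
    ∀ x ∈ P, g^[n] x = f^[n] x := by
  induction n with
  | zero => exact fun x _ => rfl
  | succ n ih =>
    intro x hx
    rw [Function.iterate_succ_apply', Function.iterate_succ_apply', ih x hx, he _ (iter_mem h n x hx)]

theorem iter_fn {P : Subgroup Ω} (α : MulAut P) (n : ℕ) : ∀ x ∈ P, (fn α)^[n] x = fn (α ^ n) x := by
  induction n with
  | zero => exact fun x hx => by rw [pow_zero, fn_one hx]; rfl
  | succ n ih =>
    intro x hx
    rw [Function.iterate_succ_apply', ih x hx, pow_succ', fn_mul _ _ hx]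

/-- iterates of a function of period `k` on `P` depend on the exponent modulo `k` -/
theorem iter_mod {X : Type*} {f : X → X} {x : X} {k : ℕ} (hk : f^[k] x = x) {j i : ℕ} (h : j ≡ i [MOD k]) :
    f^[j] x = f^[i] x := by
  have key : ∀ j, f^[j] x = f^[j % k] x := fun j => by
    conv_lhs => rw [← Nat.mod_add_div j k, Function.iterate_add_apply, Function.iterate_mul,
      Function.iterate_fixed hk]
  rw [key j, key i, h]

theorem coprime_two_of_odd {k n : ℕ} (hk : Odd k) (h : n ∣ k) : Nat.Coprime n 2 :=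
  Nat.Coprime.coprime_dvd_left h (Nat.coprime_two_right.2 hk)

theorem od_fn {F : FusionSystem S} {P : Subgroup Ω} (hP : P ≤ S) {α : MulAut P} (hα : α ∈ F.autGroup P)
    (hc : Nat.Coprime (orderOf α) 2) : Od F P (fn α) :=
  ⟨mp_fn hP hα, fun _ hx => fn_mem α hx, orderOf α, Nat.coprime_two_right.1 hc, fun x hx => by
    rw [iter_fn α _ x hx, pow_orderOf_eq_one, fn_one hx]⟩

theorem Od.congr {F : FusionSystem S} {P : Subgroup Ω} {f g : Ω → Ω} (h : Od F P f) (he : ∀ x ∈ P, g x = f x) :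
    Od F P g := by
  obtain ⟨h1, h2, k, hk, h3⟩ := h
  exact ⟨h1.congr he, fun x hx => by rw [he x hx]; exact h2 x hx, k, hk,
    fun x hx => (iter_congr h2 he k x hx).trans (h3 x hx)⟩

theorem Od.res {F : FusionSystem S} {P Q : Subgroup Ω} {f : Ω → Ω} (h : Od F P f) (hQ : Q ≤ P)
    (hm : ∀ x ∈ Q, f x ∈ Q) : Od F Q f := by
  obtain ⟨h1, -, k, hk, h3⟩ := h
  exact ⟨h1.res hQ, hm, k, hk, fun x hx => h3 x (hQ hx)⟩

theorem Od.exists_aut [Finite S] {F : FusionSystem S} {P : Subgroup Ω} {f : Ω → Ω} (h : Od F P f) :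
    ∃ α ∈ F.autGroup P, Nat.Coprime (orderOf α) 2 ∧ ∀ x ∈ P, f x = fn α x := by
  obtain ⟨h1, h2, k, hk, h3⟩ := h
  have : Finite P := H802.finite_of_le h1.le
  obtain ⟨α, hα, h4⟩ := h1.exists_aut h2
  have h5 : ∀ x ∈ P, f x = fn α x := fun x hx => by rw [h4 x hx, fn_apply α hx]
  refine ⟨α, hα, coprime_two_of_odd hk (orderOf_dvd_of_pow_eq_one ?_), h5⟩
  ext x
  have h6 := h3 x x.2
  rw [iter_congr (fun _ hx => fn_mem α hx) h5 k x x.2, iter_fn α k x x.2, fn_apply _ x.2] at h6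
  exact h6

/-- An automorphism in the system has an odd iterate with an exponent `≡ 1` modulo a given odd number. -/
theorem exists_od [Finite S] {F : FusionSystem S} {P : Subgroup Ω} {f : Ω → Ω} (hf : Mp F P f)
    (h : ∀ x ∈ P, f x ∈ P) {k : ℕ} (hk : Odd k) : ∃ j, j ≡ 1 [MOD k] ∧ (∃ i, j = 2 * i) ∧ Od F P f^[j] := by
  have : Finite P := H802.finite_of_le hf.le
  obtain ⟨α, hα, h4⟩ := hf.exists_aut h
  have h5 : ∀ x ∈ P, f x = fn α x := fun x hx => by rw [h4 x hx, fn_apply α hx]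
  have hfin : Finite (MulAut P) := Finite.of_injective (fun α : MulAut P => (α : P → P)) DFunLike.coe_injective
  have hpos : orderOf α ≠ 0 := (orderOf_pos α).ne'
  obtain ⟨e, m, hm, hem⟩ := Nat.exists_eq_two_pow_mul_odd hpos
  have hc : Nat.Coprime k (2 ^ (e + 1)) := Nat.Coprime.pow_right _ (Nat.coprime_two_right.2 hk)
  obtain ⟨j, hj1, hj2⟩ := Nat.chineseRemainder hc 1 0
  obtain ⟨c, hc'⟩ := (Nat.modEq_zero_iff_dvd).1 hj2
  refine ⟨j, hj1, ⟨2 ^ e * c, by rw [hc']; ring⟩, mp_iter hf h j, iter_mem h j, m, hm, fun x hx => ?_⟩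
  rw [← Function.iterate_mul, iter_congr (fun _ hx => fn_mem α hx) h5 _ x hx, iter_fn α _ x hx]
  have h6 : α ^ (j * m) = 1 := by
    apply orderOf_dvd_iff_pow_eq_one.1
    rw [hem, hc']
    exact ⟨2 * c, by ring⟩
  rw [h6, fn_one hx]

theorem Od.mem_hyp [Finite S] {F : FusionSystem S} {P : Subgroup Ω} {f : Ω → Ω} (h : Od F P f) {x : Ω}
    (hx : x ∈ P) : x⁻¹ * f x ∈ F.hyperfocalSubgroup 2 := by
  obtain ⟨α, hα, hc, h1⟩ := h.exists_aut
  rw [h1 x hx, fn_apply α hx]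
  exact mem_hyperfocal h.1.le hα hc ⟨x, hx⟩

theorem hyp_le_of_od {F : FusionSystem S} {H : Subgroup Ω}
    (h : ∀ P f, Od F P f → ∀ x ∈ P, x⁻¹ * f x ∈ H) : F.hyperfocalSubgroup 2 ≤ H := by
  refine H770.hyp_le_iff.2 fun P hP α hα hc x => ?_
  have h1 := h P _ (od_fn hP hα hc) x x.2
  rwa [fn_apply α x.2] at h1

theorem Od.mono {T : Subgroup Ω} {E : FusionSystem T} {F : FusionSystem S} (hEF : E.IsSubsystemOf F)
    {P : Subgroup Ω} {f : Ω → Ω} (h : Od E P f) : Od F P f := ⟨mp_mono hEF h.1, h.2⟩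

theorem Od.of_index [Finite S] {T : Subgroup Ω} {E : FusionSystem T} {F : FusionSystem S}
    (hi : E.HasPPowerIndexIn F 2) {P : Subgroup Ω} (hP : P ≤ T) {f : Ω → Ω} (h : Od F P f) : Od E P f := by
  obtain ⟨α, hα, hc, h1⟩ := h.exists_aut
  exact ⟨(mp_fn hP (H770.mem_autGroup_of_coprime hi hP hα hc)).congr h1, h.2⟩

/-- **Generation by the odd automorphisms.** -/
theorem gen_odd [Finite S] (hS : IsPGroup 2 S) {F : FusionSystem S} (hF : F.IsSaturated 2)
    {M : Subgroup Ω → (Ω → Ω) → Prop} (h : Closed F M) (hodd : ∀ P f, Od F P f → M P f) :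
    ∀ P f, Mp F P f → M P f := by
  have : Fact (Nat.Prime 2) := ⟨Nat.prime_two⟩
  have key := mp_generation F hS hF (fun P f => Mp h.sys P f) (fun P f g _ h1 he => h1.congr he)
    (fun P R f _ h1 hR => h1.res hR) (fun P Q f g _ _ h1 h2 h3 => h1.comp h2 h3)
    (fun P R f g _ h1 _ h2 => h1.symm h2) (fun P hP s hs => mp_conj _ hP hs)
    (fun Q hQ _ α hα hc f hf => by
      have h1 := (od_fn hQ.1 hα hc).congr (g := f) fun x hx => by rw [hf x hx, fn_apply α hx]
      exact h.mp_sys_iff.2 ⟨h1.1, hodd _ _ h1⟩)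
  exact fun P f hf => (h.mp_sys_iff.1 (key P f hf)).2

/-- belonging to another system which contains the conjugations is a closed property -/
theorem closed_mp {S' : Subgroup Ω} (F : FusionSystem S) (F' : FusionSystem S') (h : S ≤ S') :
    Closed F (Mp F') where
  congr _ _ _ _ h1 he := h1.congr he
  comp _ _ _ _ _ _ h1 h2 h3 := h1.comp h2 h3
  inv _ _ _ _ _ h1 _ h2 _ := h1.symm h2
  conj _ hP _ hs := mp_conj _ (hP.trans h) (h hs)

theorem le_of_odd [Finite S] (hS : IsPGroup 2 S) {F : FusionSystem S} (hF : F.IsSaturated 2) {S' : Subgroup Ω}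
    {F' : FusionSystem S'} (h : S ≤ S') (hodd : ∀ P f, Od F P f → Mp F' P f) : F.IsSubsystemOf F' :=
  isSubsystemOf_of_mp (gen_odd hS hF (closed_mp F F' h) hodd)

theorem ppow_of_od [Finite S] {T : Subgroup Ω} {E : FusionSystem T} {F : FusionSystem S} (hEF : E.IsSubsystemOf F)
    (hT : F.hyperfocalSubgroup 2 ≤ T) (h : ∀ P f, P ≤ T → Od F P f → Mp E P f) : E.HasPPowerIndexIn F 2 := by
  have : Fact (Nat.Prime 2) := ⟨Nat.prime_two⟩
  have hTS : T ≤ S := (mp_mono hEF (mp_id E le_rfl)).le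
  exact (H750.hasPPowerIndexIn_iff E).2 ⟨hEF, hT, fun P hP α hα hc =>
    (mp_iff_autGroup hP α).2 (h P _ hP (od_fn (hP.trans hTS) hα hc))⟩

/-- **Two systems over the same group with the same odd part are equal.** -/
theorem eq_of_odd [Finite S] (hS : IsPGroup 2 S) {F F' : FusionSystem S} (hF : F.IsSaturated 2)
    (hF' : F'.IsSaturated 2) (hle : F.IsSubsystemOf F')
    (h : ∀ P f, P ≤ F'.hyperfocalSubgroup 2 → Od F' P f → Mp F P f) : ∀ P f, Mp F' P f → Mp F P f := by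
  have : Fact (Nat.Prime 2) := ⟨Nat.prime_two⟩
  have hH : F'.hyperfocalSubgroup 2 ≤ S := H747.hyperfocal_le_base F' 2
  have hfin : Finite (F'.hyperfocalSubgroup 2) := H802.finite_of_le hH
  obtain ⟨E, ⟨hEs, hEi⟩, -⟩ := S5113.result 2 hS F' hF' _ hH le_rfl
  have hEF : E.IsSubsystemOf F :=
    le_of_odd (hS.to_le hH) hEs hH fun P f hf => h P f hf.1.le (hf.mono hEi.1)
  have hhyp : F.hyperfocalSubgroup 2 = F'.hyperfocalSubgroup 2 :=
    le_antisymm (H770.hyp_mono hle 2) (by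
      rw [← H770.hyp_eq hS hEi]
      exact H770.hyp_mono hEF 2)
  have hEi' : E.HasPPowerIndexIn F 2 := H770.ppow_of_le hle hEF hEi
  obtain ⟨D, -, hD⟩ := S5143.result 2 hS F' hF' F' (H760.isNormalIn_self hF') S le_rfl le_rfl
  have h1 := hD F hF hle hhyp (fun D₁ E₁ hD₁ hE₁ P => by
    have h2 : E₁ = E := H770.ppow_unique hS hE₁.1 hEs hE₁.2 hEi
    rw [h2]
    exact H758.residual_unique hS hF hhyp (H747.hyperfocal_le_base F 2) le_rfl hD₁.1 hD₁.2 hEs hEi' P)
  have h2 := hD F' hF' (fun _ => subset_rfl) rfl (fun D₁ E₁ hD₁ hE₁ P => by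
    rw [H770.ppow_unique hS hD₁.1 hE₁.1 hD₁.2 hE₁.2])
  rintro P f ⟨φ, hφ, h3⟩
  exact ⟨φ, by rw [h1 P, ← h2 P]; exact hφ, h3⟩

end Cfsg.Agent.FS.N.R
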