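import Cfsg.Agent.FS.N.R.Lay
import Cfsg.Agent.H760.QuotNormal
import Cfsg.Agent.H771.FactorNormal
import Cfsg.Agent.S5256
import Cfsg.Agent.S5291
import Cfsg.Agent.S5329

/-!
# The quotient by `R` and the good case of `BoxR3` (helper6, project FS, folder FS/N/R)
-/

set_option autoImplicit false

namespace Cfsg.Agent.FS.N.R

open Cfsg Cfsg.FusionSystem Cfsg.Agent.H752 Cfsg.Agent.FS.Th Cfsg.Agent.FS.Real

section quo

variable {A B : Type} [Group A] [Group B] {S : Subgroup A} {π : A →* B}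

/-- the restriction of `π` -/
def rs (π : A →* B) (S : Subgroup A) : S →* B := π.comp S.subtype

theorem tx_rs {x : A} (hx : x ∈ S) : H760.tx (rs π S) x = π x := H760.tx_apply _ hx

theorem image_rs {P : Subgroup A} (hP : P ≤ S) : imageAlong (rs π S) P = P.map π := by
  ext y
  rw [H760.mem_image_iff]
  exact ⟨fun ⟨x, hx, h1, h2⟩ => ⟨x, hx, by rw [← tx_rs h1, h2]⟩, fun ⟨x, hx, h⟩ => ⟨x, hx, hP hx, by rw [tx_rs (hP hx), h]⟩⟩

theorem pre_rs {P' : Subgroup B} : preimageAlong (rs π S) P' = S ⊓ P'.comap π := by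
  ext x
  rw [H760.mem_pre_iff]
  exact ⟨fun ⟨h1, h2⟩ => ⟨h1, by rwa [tx_rs h1] at h2⟩, fun ⟨h1, h2⟩ => ⟨h1, by rwa [tx_rs h1]⟩⟩

/-- the factor system along `π` -/
structure Fq (E : FusionSystem S) (V : Subgroup A) (π : A →* B) {S' : Subgroup B} (D : FusionSystem S') : Prop where
  fac : E.IsFactorSystem V (rs π S) D
  sat : D.IsSaturated 2
  hyp : D.hyperfocalSubgroup 2 = (E.hyperfocalSubgroup 2).map π
  down : ∀ P a, Mp E P a → ∃ b, Mp D (P.map π) b ∧ ∀ x ∈ P, b (π x) = π (a x)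
  up : ∀ P' b, Mp D P' b → ∃ a, Mp E (S ⊓ P'.comap π) a ∧ ∀ x ∈ S ⊓ P'.comap π, b (π x) = π (a x)

theorem exists_fq [Finite A] (hA : IsPGroup 2 A) {E : FusionSystem S} (hE : E.IsSaturated 2) {V : Subgroup A}
    (hV : E.StronglyClosed V) (hk : ∀ x ∈ S, π x = 1 ↔ x ∈ V) {S' : Subgroup B} (hS' : S' = S.map π) :
    ∃ D : FusionSystem S', Fq E V π D := by
  have : Fact (Nat.Prime 2) := ⟨Nat.prime_two⟩
  have hS : IsPGroup 2 S := hA.to_subgroup S
  obtain ⟨D, hD⟩ := H759.exists_factorSystem (θ := rs π S) (S' := S') hV (fun s => hk s s.2) (by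
    rw [hS']
    exact (MonoidHom.range_comp _ _).trans (by rw [Subgroup.range_subtype]))
  refine ⟨D, hD, H759.isSaturated_factor hS hE hV hD, ?_, fun P a ha => ?_, fun P' b hb => ?_⟩
  · rw [S5256.result 2 hS E hE V hV _ D hD]
    exact image_rs (H747.hyperfocal_le_base E 2)
  · obtain ⟨b, hb, h1⟩ := H760.exists_mp_factor hS hE hV hD ha
    rw [image_rs ha.le] at hb
    exact ⟨b, hb, fun x hx => by rw [← tx_rs (ha.le hx), h1 x hx, tx_rs (ha.mem hx)]⟩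
  · obtain ⟨-, a, ha, h1⟩ := (H760.mp_factor_iff hV hD).1 hb
    rw [pre_rs] at ha h1
    exact ⟨a, ha, fun x hx => by rw [← tx_rs hx.1, h1 x hx, tx_rs (ha.mem hx)]⟩

theorem Fq.od {E : FusionSystem S} {V : Subgroup A} {S' : Subgroup B} {D : FusionSystem S'} (h : Fq E V π D)
    {P : Subgroup A} {a : A → A} (ha : Od E P a) : ∃ b, Od D (P.map π) b ∧ ∀ x ∈ P, b (π x) = π (a x) := by
  obtain ⟨h1, h2, k, hk, h3⟩ := ha
  obtain ⟨b, hb, h4⟩ := h.down P a h1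
  have h5 : ∀ n, ∀ x ∈ P, b^[n] (π x) = π (a^[n] x) := fun n => by
    induction n with
    | zero => exact fun _ _ => rfl
    | succ n ih => exact fun x hx => by rw [Function.iterate_succ_apply, h4 x hx, ih _ (h2 x hx)]; rfl
  refine ⟨b, ⟨hb, ?_, k, hk, ?_⟩, h4⟩
  · rintro _ ⟨x, hx, rfl⟩
    exact ⟨_, h2 x hx, (h4 x hx).symm⟩
  · rintro _ ⟨x, hx, rfl⟩
    rw [h5 k x hx, h3 x hx]

theorem inf_comap_map {P R : Subgroup A} (hk : ∀ x, π x = 1 ↔ x ∈ R) (hP : P ≤ S) (hR : S ⊓ R ≤ P) :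
    S ⊓ (P.map π).comap π = P := by
  refine le_antisymm ?_ fun x hx => ⟨hP hx, x, hx, rfl⟩
  rintro x ⟨hx, y, hy, h⟩
  have h1 : y⁻¹ * x ∈ P := hR ⟨S.mul_mem (S.inv_mem (hP hy)) hx, (hk _).1 (by rw [map_mul, map_inv, h, inv_mul_cancel])⟩
  exact (P.mul_mem_cancel_left (P.inv_mem hy)).1 h1

end quo

/-- two homomorphisms which agree modulo a central subgroup agree on the derived subgroup -/
theorem agree_comm {A : Type} [Group A] {S S' T : Subgroup A} {F : FusionSystem S} {F' : FusionSystem S'} {a b : A → A}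
    (ha : Mp F T a) (hb : Mp F' T b) (hbT : ∀ x ∈ T, b x ∈ T)
    (h : ∀ x ∈ T, (b x)⁻¹ * a x ∈ T ∧ ∀ t ∈ T, t * ((b x)⁻¹ * a x) = (b x)⁻¹ * a x * t) :
    ∀ x ∈ ⁅T, T⁆, a x = b x := by
  let Z : Subgroup A :=
    { carrier := {y | y ∈ T ∧ a y = b y}
      one_mem' := ⟨T.one_mem, ha.one.trans hb.one.symm⟩
      mul_mem' := fun {x y} hx hy => ⟨T.mul_mem hx.1 hy.1, by rw [ha.mul hx.1 hy.1, hb.mul hx.1 hy.1, hx.2, hy.2]⟩
      inv_mem' := fun {x} hx => ⟨T.inv_mem hx.1, by rw [ha.inv hx.1, hb.inv hx.1, hx.2]⟩ }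
  have key : ⁅T, T⁆ ≤ Z := Subgroup.commutator_le.2 fun x hx y hy => by
    have h1 : x * y ∈ T := T.mul_mem hx hy
    have h2 : x * y * x⁻¹ ∈ T := T.mul_mem h1 (T.inv_mem hx)
    refine ⟨T.mul_mem h2 (T.inv_mem hy), ?_⟩
    rw [commutatorElement_def, ha.mul h2 (T.inv_mem hy), ha.mul h1 (T.inv_mem hx), ha.mul hx hy, ha.inv hx, ha.inv hy,
      hb.mul h2 (T.inv_mem hy), hb.mul h1 (T.inv_mem hx), hb.mul hx hy, hb.inv hx, hb.inv hy]
    obtain ⟨v, hv, hx1, hx2⟩ : ∃ v, v ∈ T ∧ a x = b x * v ∧ ∀ t ∈ T, t * v = v * t :=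
      ⟨_, (h x hx).1, (mul_inv_cancel_left _ _).symm, (h x hx).2⟩
    obtain ⟨w, hw, hy1, hy2⟩ : ∃ w, w ∈ T ∧ a y = b y * w ∧ ∀ t ∈ T, t * w = w * t :=
      ⟨_, (h y hy).1, (mul_inv_cancel_left _ _).symm, (h y hy).2⟩
    have h3 : v * (b y * w) * v⁻¹ = b y * w := by rw [← hx2 _ (T.mul_mem (hbT y hy) hw), mul_inv_cancel_right]
    have h4 : w * (b x)⁻¹ * w⁻¹ = (b x)⁻¹ := by rw [← hy2 _ (T.inv_mem (hbT x hx)), mul_inv_cancel_right]
    rw [hx1, hy1]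
    calc b x * v * (b y * w) * (b x * v)⁻¹ * (b y * w)⁻¹
        = b x * (v * (b y * w) * v⁻¹) * (b x)⁻¹ * (b y * w)⁻¹ := by group
      _ = b x * b y * (w * (b x)⁻¹ * w⁻¹) * (b y)⁻¹ := by rw [h3]; group
      _ = _ := by rw [h4]
  exact fun x hx => (key hx).2

namespace Su

variable {A : Type} [Group A] [Finite A] {F : Sys A} {T R : Subgroup A} {E : FusionSystem T} (h : Su F T R E)
include h

omit [Finite A] in
theorem sat : F.IsSaturated 2 := h.nor.1.2.1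

omit [Finite A] in
theorem satE : E.IsSaturated 2 := h.nor.1.1

omit [Finite A] in
theorem sub : E.IsSubsystemOf F := h.nor.1.2.2.1

omit [Finite A] in
theorem scT : F.StronglyClosed T := h.nor.1.2.2.2.1

omit [Finite A] in
theorem scV : F.StronglyClosed (T ⊓ R) :=
  ⟨le_top, fun P hP φ hφ x => ⟨h.scT.2 P (hP.trans inf_le_left) φ hφ x, h.sc.2 P (hP.trans inf_le_right) φ hφ x⟩⟩

theorem central (hA : IsPGroup 2 A) : E.IsCentral (T ⊓ R) :=
  central_of_fix (hA.to_subgroup T) h.satE inf_le_left fun _ _ ha _ hx hv => h.cz.fix ha hx hv.2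

theorem normalV (hA : IsPGroup 2 A) : F.IsNormal (T ⊓ R) := by
  have : Fact (Nat.Prime 2) := ⟨Nat.prime_two⟩
  refine H759.isNormal_of_abelian (hA.to_subgroup _) h.sat h.scV (le_bot_iff.1 (Subgroup.commutator_le.2 fun x hx y hy => ?_))
  rw [commutatorElement_def, h.comm x hx.1 y hy.2, mul_inv_cancel_right, mul_inv_cancel]
  exact Subgroup.one_mem _

theorem le_comm (hA : IsPGroup 2 A) : T ⊓ R ≤ ⁅T, T⁆ := by
  have : Fact (Nat.Prime 2) := ⟨Nat.prime_two⟩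
  intro v hv
  have h1 : T ≤ E.focalSubgroup := by
    conv_lhs => rw [← h.perf]
    refine hyp_le_of_od fun P a ha x hx => ?_
    obtain ⟨φ, hφ, h2⟩ := ha.1
    exact Subgroup.subset_closure ⟨P, φ, ⟨x, hx⟩, hφ, by rw [h2 x hx]⟩
  have h2 : v ∈ E.focalSubgroup ⊓ E.center := ⟨h1 hv.1, H757.IsCentral.le_center (h.central hA) hv⟩
  rw [S5329.result 2 (hA.to_subgroup T) E h.satE] at h2
  exact h2.1

variable {B : Type} [Group B] {π : A →* B}

theorem core_eq (hA : IsPGroup 2 A) (hk : ∀ x, π x = 1 ↔ x ∈ R) {E' : FusionSystem (T.map π)}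
    (hE' : Fq E (T ⊓ R) π E') : E'.core = ⊥ := by
  have : Fact (Nat.Prime 2) := ⟨Nat.prime_two⟩
  have : Finite (T.map π) := Finite.Set.finite_image _ _
  have hc := h.central hA
  have h1 := H771.isNormal_preimage (hA.to_subgroup T) h.satE (H757.IsCentral.isNormal hc) (fun α hα =>
    H759.mem_autInducedBy.2 ⟨1, T.one_mem, fun x => by
      rw [← fn_apply α x.2, h.cz.fix (mp_fn inf_le_left hα) x.2 x.2.2, one_mul, inv_one, mul_one]⟩) hE'.fac
    H759.isNormal_core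
  have h2 := H759.IsNormal.le_core (S5291.result 2 (hA.to_subgroup _) F h.sat E h.nor.1 _ h1)
  refine le_bot_iff.1 fun y hy => ?_
  obtain ⟨x, hx, rfl⟩ := (H759.isNormal_core (F := E')).1 hy
  have h3 : x ∈ preimageAlong (rs π T) E'.core := by
    rw [pre_rs]
    exact ⟨hx, hy⟩
  refine (hk x).2 (h.le (h2 (Subgroup.subset_closure ⟨_, F.conj_mem le_top (Subgroup.one_mem _), ⟨x, h3⟩, ?_⟩)))
  show x = 1 * x * 1⁻¹
  rw [one_mul, inv_one, mul_one]

theorem nor_fq (hA : IsPGroup 2 A) {F' : Sys B} (hF' : Fq F R π F') {E' : FusionSystem (T.map π)}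
    (hE' : Fq E (T ⊓ R) π E') : E'.IsNormalIn F' 2 := by
  have : Fact (Nat.Prime 2) := ⟨Nat.prime_two⟩
  exact H760.isNormalIn_factor (hA.to_subgroup _) h.nor h.sc hF'.fac (hTS := le_top) hE'.fac

end Su

end Cfsg.Agent.FS.N.R
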