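import Cfsg.Agent.FS.N.R.Main
import Cfsg.Agent.FS.N.R.CE
import Cfsg.Agent.FS.N.R.UT
import Cfsg.Agent.FS.N.R.PG
import Cfsg.Agent.FS.N.R.AG

/-!
# `BoxR3` (helper6, project FS, folder FS/N/R)
-/

set_option autoImplicit false

namespace Cfsg.Agent.FS.N.R

theorem boxR3 : BoxR3 FS.Real.dU34 := boxR3_of boxUT boxCE boxPG boxAU boxAG

end Cfsg.Agent.FS.N.R
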